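/-
Numerical facts used to exclude a central extension in the linear case.
-/
import Mathlib

set_option autoImplicit false

namespace Cfsg.Agent.Lib.SingleColumn

/-- A ratio of squares gives a square product. -/
theorem exists_sq_of {A B X Y : ℕ} (hX : X ≠ 0) (hB : B ≠ 0) (h : X ^ 2 * B = Y ^ 2 * A) :
    ∃ k, A * B = k ^ 2 := by
  have hYA : Y ^ 2 * A ≠ 0 := h ▸ mul_ne_zero (pow_ne_zero _ hX) hB
  have hY : Y ≠ 0 := fun e => hYA (by rw [e]; simp)
  have e : (X * B) ^ 2 = Y ^ 2 * (A * B) := by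
    rw [mul_pow, pow_two B, ← mul_assoc, h, mul_assoc]
  have hd : Y ∣ X * B := (Nat.pow_dvd_pow_iff two_ne_zero).mp (e ▸ dvd_mul_right _ _)
  obtain ⟨k, hk⟩ := hd
  refine ⟨k, ?_⟩
  rw [hk, mul_pow] at e
  exact (mul_left_cancel₀ (pow_ne_zero _ hY) e).symm

/-- The squarefree part of one factor of a square divides the other. -/
theorem exists_squarefree_dvd {A B : ℕ} (hA : 0 < A) (h : ∃ k, A * B = k ^ 2) :
    ∃ b s, A = b ^ 2 * s ∧ s ∣ A ∧ s ∣ B := by
  obtain ⟨k, hk⟩ := h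
  obtain ⟨s, b, he, hs⟩ := Nat.sq_mul_squarefree A
  refine ⟨b, s, he.symm, he ▸ dvd_mul_left _ _, ?_⟩
  have hb : b ≠ 0 := fun e => by rw [e] at he; simp at he; omega
  rw [← he, mul_assoc] at hk
  obtain ⟨l, rfl⟩ := (Nat.pow_dvd_pow_iff two_ne_zero).mp (hk ▸ dvd_mul_right _ _ : b ^ 2 ∣ k ^ 2)
  rw [mul_pow] at hk
  have hl := mul_left_cancel₀ (pow_ne_zero _ hb) hk
  have hsl : s ∣ l := by
    refine (Squarefree.dvd_pow_iff_dvd hs two_ne_zero).mp ?_
    exact hl ▸ dvd_mul_right _ _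
  obtain ⟨r, rfl⟩ := hsl
  refine ⟨r ^ 2, mul_left_cancel₀ hs.ne_zero ?_⟩
  rw [hl]; ring

/-- The product `(p + 2) (2 p - 1) (p - 2)` is not a square for `p ≡ 2` mod 3. -/
theorem not_sq_product {p : ℕ} (hp : 5 < p) (hodd : Odd p) (h3 : 3 ∣ p - 2) :
    ¬ ∃ k, (p + 2) * ((2 * p - 1) * (p - 2)) = k ^ 2 := by
  intro h
  obtain ⟨n, rfl⟩ : ∃ n, p = n + 2 := ⟨p - 2, by omega⟩
  simp only [Nat.add_sub_cancel] at h h3
  rw [show 2 * (n + 2) - 1 = 2 * n + 3 by omega, show n + 2 + 2 = n + 4 by omega] at h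
  obtain ⟨c, hc⟩ := h
  have hno : Odd n := by
    obtain ⟨i, hi⟩ := hodd; exact ⟨i - 1, by omega⟩
  -- the two squarefree parts
  obtain ⟨b, s, hb, hsA, hsB⟩ := exists_squarefree_dvd (B := (2 * n + 3) * n) (by omega : 0 < n + 4) ⟨c, hc⟩
  obtain ⟨a, r, ha, hrA, hrB⟩ := exists_squarefree_dvd (A := n) (B := (n + 4) * (2 * n + 3)) (by omega)
    ⟨c, by rw [← hc]; ring⟩
  have hcop : ∀ d : ℕ, d ∣ n + 4 → d ∣ n → d = 1 := by
    intro d h1 h2
    have h4 : d ∣ 4 := (Nat.dvd_add_right h2).mp h1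
    have hdo : Odd d := hno.of_dvd_nat h2
    have := Nat.le_of_dvd (by norm_num) h4
    obtain ⟨i, hi⟩ := hdo
    rcases (by omega : d = 1 ∨ d = 3) with rfl | rfl
    · rfl
    · norm_num at h4
  have hs : s ∣ 5 := by
    have hsn : s.Coprime n := Nat.coprime_of_dvd' fun q _ h1 h2 => by
      rw [hcop q (h1.trans hsA) h2]
    have h1 : s ∣ 2 * n + 3 := hsn.dvd_of_dvd_mul_right hsB
    have h2 : s ∣ (2 * n + 3) + 5 := by
      rw [show 2 * n + 3 + 5 = 2 * (n + 4) by ring]; exact Dvd.dvd.mul_left hsA 2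
    exact (Nat.dvd_add_right h1).mp h2
  have hr : r ∣ 3 := by
    have hrn : r.Coprime (n + 4) := Nat.coprime_of_dvd' fun q _ h1 h2 => by
      rw [hcop q h2 (h1.trans hrA)]
    have h1 : r ∣ 2 * n + 3 := hrn.dvd_of_dvd_mul_left hrB
    exact (Nat.dvd_add_right (Dvd.dvd.mul_left hrA 2)).mp h1
  have hbo : Odd (b ^ 2) := by
    have : Odd (n + 4) := by obtain ⟨i, hi⟩ := hno; exact ⟨i + 2, by omega⟩
    exact this.of_dvd_nat ⟨s, hb⟩
  have hao : Odd (a ^ 2) := hno.of_dvd_nat ⟨r, ha⟩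
  rw [Nat.odd_pow_iff two_ne_zero] at hbo hao
  have hsq8 : ∀ x : ℕ, Odd x → x ^ 2 % 8 = 1 := by
    intro x hx
    obtain ⟨i, rfl⟩ := hx
    obtain ⟨j, hj⟩ := Nat.even_mul_succ_self i
    have : (2 * i + 1) ^ 2 = 8 * j + 1 := by nlinarith
    omega
  have hb8 := hsq8 b hbo
  have ha8 := hsq8 a hao
  rcases (Nat.dvd_prime (by norm_num : Nat.Prime 5)).mp hs with rfl | rfl
  · rcases (Nat.dvd_prime Nat.prime_three).mp hr with rfl | rfl <;> omega
  · have hb3 : b ^ 2 % 3 ≠ 2 := by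
      rw [Nat.pow_mod]
      rcases (by omega : b % 3 = 0 ∨ b % 3 = 1 ∨ b % 3 = 2) with e | e | e <;> rw [e] <;> norm_num
    omega

theorem not_sq_of_sqrt {N : ℕ} (h : Nat.sqrt N * Nat.sqrt N ≠ N) : ¬ ∃ k, N = k ^ 2 := by
  rintro ⟨k, rfl⟩
  exact h (by rw [Nat.sqrt_eq', pow_two])

/-- A large ratio contradicts any first sum below two. -/
theorem bound_four {p nP nM : ℝ} (hp : 7 ≤ p) (hP : p + 1 ≤ nP) (hM : nM = nP + (p - 2)) :
    4 * (1 / nP - 1 / nM - (p - 4) / (p - 2)) < -2 := by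
  have h1 : 1 / nP - 1 / nM ≤ 1 / (p + 1) :=
    le_trans (sub_le_self _ (by rw [hM]; exact div_nonneg zero_le_one (by linarith)))
      (one_div_le_one_div_of_le (by linarith) hP)
  have h2 : 3 / 5 ≤ (p - 4) / (p - 2) := by
    rw [div_le_div_iff₀ (by norm_num) (by linarith)]; linarith
  have h3 : 1 / (p + 1) ≤ 1 / 8 := one_div_le_one_div_of_le (by norm_num) (by linarith)
  have h4 : 1 / nP - 1 / nM < 1 / 10 := by
    have e : 1 / nP - 1 / nM = (p - 2) / (nP * nM) := by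
      have : (0 : ℝ) < nP := by linarith
      have : (0 : ℝ) < nM := by rw [hM]; linarith
      field_simp
      rw [hM]; ring
    rw [e, div_lt_div_iff₀ (mul_pos (by linarith) (by rw [hM]; linarith)) (by norm_num)]
    have : (p + 1) * (2 * p - 1) ≤ nP * nM := mul_le_mul hP (by rw [hM]; linarith) (by linarith) (by linarith)
    nlinarith
  linarith

theorem sub_inv_le {p L nP nM : ℝ} (hp : 5 < p) (hL : 0 < L) (hP : L ≤ nP) (hM : nM = nP + (p - 2)) :
    1 / nP - 1 / nM ≤ (p - 2) / (L * (L + (p - 2))) := by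
  have : (0 : ℝ) < nP := by linarith
  have : (0 : ℝ) < nM := by rw [hM]; linarith
  have e : 1 / nP - 1 / nM = (p - 2) / (nP * nM) := by
    field_simp
    rw [hM]; ring
  rw [e]
  refine div_le_div_of_nonneg_left (by linarith) (mul_pos hL (by linarith)) ?_
  exact mul_le_mul hP (by linarith) (by linarith) (by linarith)

/-- The bound for a negative principal sign. -/
theorem bound_neg {p nP nM : ℝ} (hp : 7 ≤ p) (hP : p + 1 ≤ nP) (hM : nM = nP + (p - 2)) :
    2 * (1 / nP - 1 / nM - (p - 4) / (p - 2)) < -1 := by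
  have := bound_four hp hP hM
  linarith

/-- The bound for a large rational character. -/
theorem bound_large {p c nP nM : ℝ} (hp : 11 ≤ p) (hc : 2 * p + 1 ≤ c) (hP : p + 1 ≤ nP)
    (hM : nM = nP + (p - 2)) :
    1 + 1 / c + (p - 4) / (c + 1) + 2 * (1 / nP - 1 / nM - (p - 4) / (p - 2)) < 0 := by
  have h1 : 1 / c ≤ 1 / 23 := one_div_le_one_div_of_le (by norm_num) (by linarith)
  have h2 : (p - 4) / (c + 1) ≤ 1 / 2 * ((p - 4) / (p - 2)) := by
    have : (p - 4) / (c + 1) ≤ (p - 4) / (2 * (p - 2)) :=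
      div_le_div_of_nonneg_left (by linarith) (by linarith) (by linarith)
    rwa [show (p - 4) / (2 * (p - 2)) = 1 / 2 * ((p - 4) / (p - 2)) by rw [div_mul_div_comm, one_mul]] at this
  have h3 := sub_inv_le (by linarith) (by linarith : (0 : ℝ) < p + 1) hP hM
  have h4 : (p - 2) / ((p + 1) * (p + 1 + (p - 2))) ≤ 1 / 27 := by
    rw [div_le_div_iff₀ (by nlinarith) (by norm_num)]
    nlinarith
  have h5 : 8 / 9 * (1 : ℝ) ≤ (p - 4) / (p - 2) + 1 / 9 := by
    have : 7 / 9 ≤ (p - 4) / (p - 2) := by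
      rw [div_le_div_iff₀ (by norm_num) (by linarith)]; linarith
    linarith
  linarith

/-- The bound for the smallest rational character and a large block character. -/
theorem bound_small {p nP nM : ℝ} (hp : 23 ≤ p) (hP : 4 * p + 1 ≤ nP) (hM : nM = nP + (p - 2)) :
    1 + 1 / (p + 1) + (p - 4) / (p + 1 + 1) + 2 * (1 / nP - 1 / nM - (p - 4) / (p - 2)) < 0 := by
  have h3 := sub_inv_le (by linarith) (by linarith : (0 : ℝ) < 4 * p + 1) hP hM
  have h4 : (p - 2) / ((4 * p + 1) * (4 * p + 1 + (p - 2))) < 1 / (20 * p) := by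
    rw [div_lt_div_iff₀ (by nlinarith) (by linarith)]
    nlinarith
  have e1 : (p - 4) / (p - 2) = 1 - 2 / (p - 2) := by
    field_simp [(by linarith : p - 2 ≠ 0)]; ring
  have e2 : (p - 4) / (p + 1 + 1) = 1 - 6 / (p + 2) := by
    rw [show p + 1 + 1 = p + 2 by ring]
    field_simp [(by linarith : p + 2 ≠ 0)]; ring
  have h6 : 1 / (p + 1) + 4 / (p - 2) + 1 / (10 * p) ≤ 6 / (p + 2) := by
    have hp0 : (0 : ℝ) < p := by linarith
    have hm2 : (0 : ℝ) < p - 2 := by linarith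
    rw [← sub_nonneg]
    have e : 6 / (p + 2) - (1 / (p + 1) + 4 / (p - 2) + 1 / (10 * p)) =
        (10 * p * (p ^ 2 - 18 * p - 16) - (p ^ 2 - 4) * (p + 1)) /
          ((p + 2) * (p + 1) * (p - 2) * (10 * p)) := by
      field_simp; ring
    rw [e]
    refine div_nonneg ?_ (by positivity)
    nlinarith [mul_nonneg (mul_nonneg (by linarith : (0 : ℝ) ≤ p - 23) hp0.le) hp0.le,
      mul_nonneg (by linarith : (0 : ℝ) ≤ p - 23) hp0.le]
  have e3 : 2 * (1 / (20 * p)) = 1 / (10 * p) := by ring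
  have e4 : 2 * (2 / (p - 2)) = 4 / (p - 2) := by ring
  rw [e1, e2]
  linarith

end Cfsg.Agent.Lib.SingleColumn
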