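/-
The columns of a character of a group with a Sylow subgroup of order `p` on `⟨x⟩ × V`.
-/
import Mathlib
import Cfsg.Agent.Lib.DefectOne.SmallFaithful

set_option autoImplicit false
set_option linter.unusedSectionVars false
set_option linter.style.haveILetI false

namespace Cfsg.Agent.Lib.SingleColumn

open scoped ComplexConjugate
open Cfsg Cfsg.Agent.Lib Finset Subgroup
open Cfsg.Agent.Lib.DefectOne
open Cfsg.Agent.Lib.SmallGroups.PrimeChar (xp fusion xp_one xp_zero xp_mul xp_injective)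

/-- In a group whose order is not divisible by `p ^ 2`, elements of order `p` are conjugate into
each other's cyclic groups. -/
theorem exists_conj_mem_zpowers {K : Type*} [Group K] [Finite K] {p : ℕ} [hp : Fact p.Prime]
    (hsq : ¬ p ^ 2 ∣ Nat.card K) {a b : K} (ha : orderOf a = p) (hb : orderOf b = p) :
    ∃ c : K, c * b * c⁻¹ ∈ zpowers a := by
  have key : ∀ y : K, orderOf y = p → ∃ Q : Sylow p K, (Q : Subgroup K) = zpowers y := by
    intro y hy
    have hpg : IsPGroup p (zpowers y) := IsPGroup.of_card (n := 1) (by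
      rw [Nat.card_zpowers, hy, pow_one])
    obtain ⟨Q, hQ⟩ := hpg.exists_le_sylow
    refine ⟨Q, (Subgroup.eq_of_le_of_card_ge hQ ?_).symm⟩
    obtain ⟨k, hk⟩ := Q.isPGroup'.exists_card_eq
    rw [Nat.card_zpowers, hy, hk]
    calc p ^ k ≤ p ^ 1 := Nat.pow_le_pow_right hp.out.pos (by
          by_contra h
          exact hsq ((pow_dvd_pow p (by omega : 2 ≤ k)).trans (hk ▸ Subgroup.card_subgroup_dvd_card _)))
      _ = p := pow_one p
  obtain ⟨Qa, hQa⟩ := key a ha
  obtain ⟨Qb, hQb⟩ := key b hb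
  obtain ⟨c, hc⟩ := MulAction.exists_smul_eq K Qb Qa
  refine ⟨c, ?_⟩
  rw [← hQa, ← hc, Sylow.coe_subgroup_smul, Subgroup.mem_pointwise_smul_iff_inv_smul_mem, hQb]
  have e : (MulAut.conj c)⁻¹ • (c * b * c⁻¹) = b := by
    rw [MulAut.smul_def, MulAut.conj_inv_apply]; group
  rw [e]
  exact mem_zpowers b

variable {G : Type*} [Group G] [Fintype G] {p : ℕ} [hp : Fact p.Prime] (S : Local p G)

noncomputable local instance : Fintype S.V := Fintype.ofFinite _

/-- The sum of the multiplicities in a column. -/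
noncomputable def colSum (χ : IrrCharacter G) (φ : IrrCharacter S.V) : ℕ :=
  ∑ k : ZMod p, mN S (χ : G → ℂ) (k, φ)

/-- The coefficient of `φ` on the coset `x ^ j V`. -/
noncomputable def colVal (χ : IrrCharacter G) (φ : IrrCharacter S.V) (j : ZMod p) : ℂ :=
  ∑ k : ZMod p, (mN S (χ : G → ℂ) (k, φ) : ℂ) * ZMod.stdAddChar (k * j)

theorem apply_pt (χ : IrrCharacter G) (j : ZMod p) (v : S.V) :
    (χ : G → ℂ) (pt S (j, v)) = ∑ φ, colVal S χ φ j * (φ : S.V → ℂ) v := by
  rw [pt_expansion S (Chars.irr_isClassFunction χ), Fintype.sum_prod_type, sum_comm]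
  refine sum_congr rfl fun φ _ => ?_
  rw [colVal, sum_mul]
  exact sum_congr rfl fun k _ => by
    rw [← mN_cast S (Chars.irr_isCharacter χ)]; simp only [chr]; ring

theorem colVal_zero (χ : IrrCharacter G) (φ : IrrCharacter S.V) :
    colVal S χ φ 0 = (colSum S χ φ : ℂ) := by
  simp [colVal, colSum]

theorem sum_apply_mul_conj (φ' φ : IrrCharacter S.V) :
    ∑ v : S.V, (φ' : S.V → ℂ) v * conj ((φ : S.V → ℂ) v) =
      if φ' = φ then (Nat.card S.V : ℂ) else 0 := by
  have h := Chars.classInner_irr φ' φ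
  rw [classInner, inv_mul_eq_iff_eq_mul₀ (Nat.cast_ne_zero.mpr Nat.card_pos.ne')] at h
  rw [h]
  split_ifs <;> simp

theorem sum_pt_mul_conj (χ : IrrCharacter G) (φ : IrrCharacter S.V) (j : ZMod p) :
    ∑ v : S.V, (χ : G → ℂ) (pt S (j, v)) * conj ((φ : S.V → ℂ) v) =
      (Nat.card S.V : ℂ) * colVal S χ φ j := by
  simp only [apply_pt, sum_mul, mul_assoc]
  rw [sum_comm]
  simp only [← mul_sum, sum_apply_mul_conj, mul_ite, mul_zero, sum_ite_eq', mem_univ, if_true]
  exact mul_comm _ _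

theorem sum_coe_mul_conj (χ : IrrCharacter G) (φ : IrrCharacter S.V) :
    ∑ v : S.V, (χ : G → ℂ) (v : G) * conj ((φ : S.V → ℂ) v) =
      (Nat.card S.V : ℂ) * colSum S χ φ := by
  rw [← colVal_zero, ← sum_pt_mul_conj]
  exact sum_congr rfl fun v _ => by simp [pt, xp_zero]

theorem colVal_eq_zero_of_const (χ : IrrCharacter G) {φ : IrrCharacter S.V}
    (h : ∀ k, mN S (χ : G → ℂ) (k, φ) = mN S (χ : G → ℂ) (0, φ)) {j : ZMod p} (hj : j ≠ 0) :
    colVal S χ φ j = 0 := by
  rw [colVal, sum_congr rfl fun k _ => by rw [h k], ← mul_sum,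
    AddChar.sum_mulShift j (ZMod.isPrimitive_stdAddChar p), if_neg hj, Nat.cast_zero, mul_zero]

theorem conjIrr_injective {g : G} (hg : Nrm S g) : Function.Injective (conjIrr S g) := by
  intro a b h
  refine Subtype.ext (funext fun v => ?_)
  obtain ⟨w, rfl⟩ := (conjV S hg).surjective v
  rw [← conjIrr_apply S hg, ← conjIrr_apply S hg, h]

theorem conjIrr_mul {g h : G} (hg : Nrm S g) (hh : Nrm S h) (φ : IrrCharacter S.V) :
    conjIrr S h (conjIrr S g φ) = conjIrr S (g * h) φ :=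
  (congrArg Prod.snd (act_mul S hg hh (0, φ))).symm

theorem nrm_one : Nrm S (1 : G) := by
  simpa [Nrm] using mem_zpowers S.x

theorem conjIrr_one (φ : IrrCharacter S.V) : conjIrr S (1 : G) φ = φ :=
  (conjIrr_centralizer S (one_mem _) φ).1

/-- The orbit of a character of `V`. -/
noncomputable def orbit (φ : IrrCharacter S.V) : Finset (IrrCharacter S.V) := by
  classical exact (nset S).image fun g => conjIrr S g φ

theorem mem_orbit {φ φ' : IrrCharacter S.V} :
    φ' ∈ orbit S φ ↔ ∃ g, Nrm S g ∧ conjIrr S g φ = φ' := by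
  classical simp [orbit, mem_nset]

theorem mem_orbit_self (φ : IrrCharacter S.V) : φ ∈ orbit S φ :=
  (mem_orbit S).mpr ⟨1, nrm_one S, conjIrr_one S φ⟩

theorem colSum_conjIrr (χ : IrrCharacter G) {g : G} (hg : Nrm S g) (φ : IrrCharacter S.V) :
    colSum S χ (conjIrr S g φ) = colSum S χ φ := by
  rw [colSum, colSum]
  exact (Fintype.sum_bijective (fun k : ZMod p => k * expo S g)
    ((Equiv.mulRight₀ _ (expo_ne_zero S hg)).bijective) _ _ fun k =>
      (Cfsg.Agent.Lib.DefectOne.mN_act S χ hg (k, φ)).symm).symm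

/-- Fusion in `V` is controlled by the normalizer of `⟨x⟩`. -/
theorem exists_nrm_conj (hsq : ¬ p ^ 2 ∣ Nat.card G) {v w : S.V} (h : IsConj (v : G) (w : G)) :
    ∃ g, Nrm S g ∧ g * (v : G) * g⁻¹ = w := by
  obtain ⟨g, hg⟩ := isConj_iff.mp h
  let H := centralizer ({(w : G)} : Set G)
  have hxH : S.x ∈ H := mem_centralizer_singleton_iff.mpr (S.commute w w.2).eq
  have hyH : g * S.x * g⁻¹ ∈ H := by
    rw [mem_centralizer_singleton_iff, ← hg]
    calc g * S.x * g⁻¹ * (g * v * g⁻¹) = g * (S.x * v) * g⁻¹ := by group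
      _ = g * (v * S.x) * g⁻¹ := by rw [(S.commute v v.2).eq]
      _ = _ := by group
  obtain ⟨⟨c, hc⟩, hcx⟩ := exists_conj_mem_zpowers (K := H) (p := p)
    (fun h => hsq (h.trans H.card_subgroup_dvd_card)) (a := ⟨S.x, hxH⟩) (b := ⟨_, hyH⟩)
    (by rw [← Subgroup.orderOf_coe]; exact S.order_x)
    (by
      rw [← Subgroup.orderOf_coe]
      show orderOf (MulAut.conj g S.x) = p
      rw [MulEquiv.orderOf_eq, S.order_x])
  refine ⟨c * g, ?_, ?_⟩
  · obtain ⟨i, hi⟩ := mem_zpowers_iff.mp hcx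
    refine mem_zpowers_iff.mpr ⟨i, ?_⟩
    have := congrArg (Subtype.val : H → G) hi
    simp only [Subgroup.coe_zpow, Subgroup.coe_mul, Subgroup.coe_inv] at this
    rw [this]; group
  · rw [show c * g * (v : G) * (c * g)⁻¹ = c * (g * v * g⁻¹) * c⁻¹ by group, hg,
      mem_centralizer_singleton_iff.mp hc]
    group

end Cfsg.Agent.Lib.SingleColumn
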