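/-
A column whose total is divisible by `p` is constant.
-/
import Mathlib
import Cfsg.Agent.Lib.SingleColumn.Base

set_option autoImplicit false
set_option linter.unusedSectionVars false
set_option linter.style.haveILetI false

namespace Cfsg.Agent.Lib.SingleColumn

open scoped ComplexConjugate
open Cfsg Cfsg.Agent.Lib Finset Subgroup
open Cfsg.Agent.Lib.DefectOne
open Cfsg.Agent.Lib.SmallGroups.PrimeChar (xp fusion mul_mem_fusion xp_one xp_mul xp_zero)

variable {G : Type*} [Group G] [Fintype G] {p : ℕ} [hp : Fact p.Prime] (S : Local p G)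

noncomputable local instance instFintypeVConst : Fintype S.V := Fintype.ofFinite _

set_option maxHeartbeats 1000000 in
/-- A column whose total is a multiple of `p` does not depend on the character of `⟨x⟩`. -/
theorem mN_eq_of_dvd (ψ : IrrCharacter G) {φ : IrrCharacter S.V}
    (hdvd : p ∣ ∑ k, mN S (ψ : G → ℂ) (k, φ)) (k : ZMod p) :
    mN S (ψ : G → ℂ) (k, φ) = mN S (ψ : G → ℂ) (0, φ) := by
  classical
  set d : ZMod p → ℤ := fun l => (mN S (ψ : G → ℂ) (0, φ) : ℤ) - mN S (ψ : G → ℂ) (l, φ) with hd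
  set St := (nset S).filter fun g => conjIrr S g φ = φ with hSt
  set U := St.image (expo S) with hU
  set T := univ.erase (0 : ZMod p) with hT
  set S1 := ∑ l ∈ T, d l with hS1
  set Q := ∑ l ∈ T, d l ^ 2 with hQ
  have hd0 : d 0 = 0 := sub_self _
  have hpS1 : (p : ℤ) ∣ S1 := by
    rw [hS1, sum_erase_eq_sub (mem_univ _), hd0, sub_zero]
    simp only [d, sum_sub_distrib, sum_const, card_univ, ZMod.card, nsmul_eq_mul]
    exact dvd_sub (dvd_mul_right _ _) (by exact_mod_cast Int.natCast_dvd_natCast.mpr hdvd)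
  have hUprop : ∀ u ∈ U, ∃ g, Nrm S g ∧ conjIrr S g φ = φ ∧ expo S g = u := by
    intro u hu
    obtain ⟨g, hg, rfl⟩ := mem_image.mp hu
    obtain ⟨hg1, hg2⟩ := mem_filter.mp hg
    exact ⟨g, (mem_nset S).mp hg1, hg2, rfl⟩
  have hUmem : ∀ g, Nrm S g → conjIrr S g φ = φ → expo S g ∈ U := fun g h1 h2 =>
    mem_image_of_mem _ (mem_filter.mpr ⟨(mem_nset S).mpr h1, h2⟩)
  have hUone : (1 : ZMod p) ∈ U := by
    obtain ⟨h1, h2, h3⟩ := conjIrr_centralizer S (one_mem (centralizer ({S.x} : Set G))) φ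
    exact h3 ▸ hUmem 1 h2 h1
  have hU0 : ∀ u ∈ U, u ≠ 0 := fun u hu => by
    obtain ⟨g, hg, -, rfl⟩ := hUprop u hu
    exact expo_ne_zero S hg
  have hUmul : ∀ u ∈ U, ∀ w ∈ U, u * w ∈ U := by
    intro u hu w hw
    obtain ⟨g, hg, hgc, rfl⟩ := hUprop u hu
    obtain ⟨h, hh, hhc, rfl⟩ := hUprop w hw
    obtain ⟨h1, h2⟩ := expo_mul S hg hh
    refine h2 ▸ hUmem _ h1 ?_
    have := congrArg Prod.snd (act_mul S hg hh (0, φ))
    simp only [act] at this
    rw [this, hgc, hhc]
  have hinv : ∀ u ∈ U, ∀ l, d (l * u) = d l := by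
    intro u hu l
    obtain ⟨g, hg, hgc, rfl⟩ := hUprop u hu
    have h1 : mlt S (ψ : G → ℂ) (act S g (l, φ)) = mlt S (ψ : G → ℂ) (l, φ) :=
      mlt_act S (Chars.irr_isClassFunction ψ) hg _
    simp only [act, hgc] at h1
    have h2 : mN S (ψ : G → ℂ) (l * expo S g, φ) = mN S (ψ : G → ℂ) (l, φ) := by
      simp only [mN, h1]
    simp only [d, h2]
  have hcardSt : St.card = U.card * cN S := by
    rw [card_eq_sum_card_fiberwise (f := expo S) (t := U) (fun g hg => mem_image_of_mem _ hg),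
      sum_congr rfl (g := fun _ => cN S) fun u hu => ?_, sum_const, smul_eq_mul]
    obtain ⟨g, hg, hgc, he⟩ := hUprop u hu
    rw [← card_act_fiber S φ u φ ⟨g, hg, he, hgc⟩, hSt, filter_filter]
    congr 1
    exact filter_congr fun g' _ => and_comm
  -- Bessel
  let c : Idx S → ℤ := fun i =>
    if i.2 = φ then (if i.1 = 0 then S1 else - d i.1) else 0
  have hcsum : ∀ F : Idx S → ℂ, ∑ i, (c i : ℂ) * F i =
      (S1 : ℂ) * F (0, φ) - ∑ l ∈ T, (d l : ℂ) * F (l, φ) := by
    intro F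
    rw [Fintype.sum_prod_type, sum_congr rfl (g := fun l => (c (l, φ) : ℂ) * F (l, φ)) fun l _ =>
      sum_eq_single φ (fun φ' _ hne => by simp [c, hne]) (by simp),
      ← add_sum_erase univ _ (mem_univ (0 : ZMod p)), sub_eq_add_neg, ← sum_neg_distrib]
    congr 1
    · simp [c]
    · refine sum_congr rfl fun l hl => ?_
      simp [c, ne_of_mem_erase hl]
  have hsupp : ∀ a, (∑ i, (c i : ℂ) * chr S i a) ≠ 0 →
      ∀ g b, g * pt S a * g⁻¹ = pt S b → Nrm S g := by
    rintro ⟨j, v⟩ hne g ⟨i, w⟩ hb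
    refine nrm_of_ne_zero S (fun hj => hne ?_) hb
    rw [hcsum, hj]
    simp only [chr, mul_zero, AddChar.map_zero_eq_one, one_mul, ← sum_mul, hS1, Int.cast_sum,
      sub_self]
  have hgram := gram_formula S c c hsupp
  have hpair : ∀ χ : IrrCharacter G, (∑ i, c i * (mN S (χ : G → ℂ) i : ℤ)) =
      ∑ l ∈ T, d l * ((mN S (χ : G → ℂ) (0, φ) : ℤ) - mN S (χ : G → ℂ) (l, φ)) := by
    intro χ
    apply Int.cast_injective (α := ℂ)
    push_cast
    rw [hcsum fun i => (mN S (χ : G → ℂ) i : ℂ), hS1]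
    push_cast
    rw [sum_mul, ← sum_sub_distrib]
    exact sum_congr rfl fun l _ => by ring
  have hle : Q ^ 2 * cN S ≤ (∑ χ : IrrCharacter G,
      (∑ i, c i * (mN S (χ : G → ℂ) i : ℤ)) * ∑ i, c i * (mN S (χ : G → ℂ) i : ℤ)) * cN S := by
    refine mul_le_mul_of_nonneg_right ?_ (Nat.cast_nonneg _)
    refine le_trans (le_of_eq ?_) (single_le_sum (fun χ _ => mul_self_nonneg _) (mem_univ ψ))
    rw [hpair, sq, hQ]
    simp only [d, sq]
  rw [hgram] at hle
  have hterm : ∀ g ∈ nset S, ∑ i, c (act S g i) * c i =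
      if conjIrr S g φ = φ then S1 ^ 2 + Q else 0 := by
    intro g hg
    have hg' := (mem_nset S).mp hg
    rw [Fintype.sum_prod_type, sum_congr rfl (g := fun l => c (act S g (l, φ)) * c (l, φ)) fun l _ =>
      sum_eq_single φ (fun φ' _ hne => by simp [c, hne]) (by simp)]
    by_cases hgc : conjIrr S g φ = φ
    · rw [if_pos hgc, ← add_sum_erase univ _ (mem_univ (0 : ZMod p))]
      congr 1
      · simp [c, act, hgc, sq]
      · rw [hQ]
        refine sum_congr rfl fun l hl => ?_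
        have hl0 := ne_of_mem_erase hl
        simp only [c, act, hgc, if_pos, if_neg hl0, if_neg (mul_ne_zero hl0 (expo_ne_zero S hg'))]
        rw [hinv _ (hUmem g hg' hgc) l]
        ring
    · rw [if_neg hgc]
      exact sum_eq_zero fun l _ => by simp [c, act, hgc]
  rw [sum_congr rfl hterm, ← sum_filter, sum_const, hcardSt, nsmul_eq_mul, Nat.cast_mul] at hle
  have hB : Q ^ 2 ≤ (U.card : ℤ) * (S1 ^ 2 + Q) := by
    have hc : (0 : ℤ) < (cN S : ℤ) := by
      exact_mod_cast Nat.mul_pos hp.out.pos Nat.card_pos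
    refine le_of_mul_le_mul_right ?_ hc
    push_cast at hle ⊢
    linarith
  -- orbits
  have hUimage : ∀ l : ZMod p, l ≠ 0 → (U.image (l * ·)).card = U.card := fun l hl =>
    card_image_of_injective _ (mul_right_injective₀ hl)
  have hsmul : ∀ u ∈ U, U.image (u * ·) = U := fun u hu =>
    eq_of_subset_of_card_le (image_subset_iff.mpr fun w hw => hUmul u hu w hw)
      (le_of_eq (hUimage u (hU0 u hu)).symm)
  have hfib : ∀ l ∈ T, T.filter (fun k => U.image (k * ·) = U.image (l * ·)) = U.image (l * ·) := by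
    intro l hl
    have hl0 := ne_of_mem_erase hl
    ext k
    constructor
    · intro hk
      rw [← (mem_filter.mp hk).2]
      exact mem_image.mpr ⟨1, hUone, mul_one k⟩
    · intro hk
      obtain ⟨u, hu, rfl⟩ := mem_image.mp hk
      refine mem_filter.mpr ⟨mem_erase.mpr ⟨mul_ne_zero hl0 (hU0 u hu), mem_univ _⟩, ?_⟩
      conv_rhs => rw [← hsmul u hu, image_image]
      exact image_congr fun w _ => mul_assoc l u w
  have horb : ∀ f : ℤ → ℤ, ∀ l ∈ T,
      ∑ k ∈ U.image (l * ·), f (d k) = (U.card : ℤ) * f (d l) := by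
    intro f l hl
    rw [sum_image fun a _ b _ h => mul_left_cancel₀ (ne_of_mem_erase hl) h,
      sum_congr rfl (g := fun _ => f (d l)) fun u hu => by rw [hinv u hu l], sum_const, nsmul_eq_mul]
  have hsS1 : (U.card : ℤ) ∣ S1 := by
    rw [hS1, ← sum_fiberwise_of_maps_to (t := T.image fun k => U.image (k * ·))
      (fun k hk => mem_image_of_mem _ hk)]
    refine dvd_sum fun O hO => ?_
    obtain ⟨l, hl, rfl⟩ := mem_image.mp hO
    rw [hfib l hl, horb (fun z => z) l hl]
    exact dvd_mul_right _ _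
  have hs1 : 1 ≤ U.card := card_pos.mpr ⟨1, hUone⟩
  have hTcard : T.card = p - 1 := by
    rw [hT, card_erase_of_mem (mem_univ _), card_univ, ZMod.card]
  have hsp : U.card < p := by
    have : U ⊆ T := fun u hu => mem_erase.mpr ⟨hU0 u hu, mem_univ _⟩
    have := card_le_card this
    have := hp.out.two_le
    omega
  have hCS : S1 ^ 2 ≤ ((p - 1 : ℕ) : ℤ) * Q := by
    rw [← hTcard]
    exact sq_sum_le_card_mul_sum_sq
  have hQ0 : 0 ≤ Q := sum_nonneg fun _ _ => sq_nonneg _
  have hQsp : Q ≤ (U.card : ℤ) * p := by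
    have h1 : Q * Q ≤ ((U.card : ℤ) * p) * Q := by
      have h2 : ((p - 1 : ℕ) : ℤ) + 1 = p := by have := hp.out.pos; omega
      have h3 := mul_le_mul_of_nonneg_left hCS (Nat.cast_nonneg (α := ℤ) U.card)
      calc Q * Q = Q ^ 2 := (sq Q).symm
        _ ≤ (U.card : ℤ) * (S1 ^ 2 + Q) := hB
        _ ≤ (U.card : ℤ) * (((p - 1 : ℕ) : ℤ) * Q) + (U.card : ℤ) * Q := by rw [mul_add]; linarith
        _ = (U.card : ℤ) * (((p - 1 : ℕ) : ℤ) + 1) * Q := by ring
        _ = _ := by rw [h2]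
    rcases hQ0.eq_or_lt with h | h
    · rw [← h]; positivity
    · exact le_of_mul_le_mul_right h1 h
  have habs : |S1| ≤ Q := (abs_sum_le_sum_abs _ _).trans (sum_le_sum fun l _ => abs_le_sq_self _)
  have hS10 : S1 = 0 := by
    by_contra hne
    have hco : IsCoprime (U.card : ℤ) (p : ℤ) :=
      Nat.Coprime.isCoprime ((hp.out.coprime_iff_not_dvd.mpr
        (Nat.not_dvd_of_pos_of_lt (by omega) hsp)).symm)
    have hdiv := hco.mul_dvd hsS1 hpS1
    have hge := Int.le_of_dvd (abs_pos.mpr hne) ((dvd_abs _ _).mpr hdiv)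
    have h1 : ∀ l ∈ T, |d l| = d l ^ 2 := by
      have h2 : ∑ l ∈ T, |d l| = ∑ l ∈ T, d l ^ 2 := le_antisymm
        (sum_le_sum fun l _ => abs_le_sq_self _) (by
          have h3 : |S1| ≤ ∑ l ∈ T, |d l| := abs_sum_le_sum_abs _ _
          linarith)
      exact (sum_eq_sum_iff_of_le fun l _ => abs_le_sq_self (d l)).mp h2
    have h2 : ∀ l ∈ T, |d l| ≤ 1 := fun l hl => by
      have := h1 l hl
      rcases le_or_gt |d l| 1 with h | h
      · exact h
      · rw [← sq_abs] at this; nlinarith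
    have h3 : |S1| ≤ ((p - 1 : ℕ) : ℤ) := by
      rw [← hTcard]
      refine (abs_sum_le_sum_abs _ _).trans ((sum_le_sum h2).trans ?_)
      simp
    have h4 : (p : ℤ) ≤ (U.card : ℤ) * p :=
      le_mul_of_one_le_left (by positivity) (by exact_mod_cast hs1)
    have := hp.out.pos
    omega
  have hQs : Q ≤ (U.card : ℤ) := by
    rw [hS10] at hB
    rcases hQ0.eq_or_lt with h | h
    · rw [← h]; positivity
    · nlinarith
  by_contra hne
  have hk0 : k ≠ 0 := fun h => hne (by rw [h])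
  have hdk : d k ≠ 0 := fun h => hne (by simp only [d] at h; omega)
  have hkT : k ∈ T := mem_erase.mpr ⟨hk0, mem_univ _⟩
  have hsub : U.image (k * ·) ⊆ T := by
    rw [← hfib k hkT]; exact filter_subset _ _
  have hsplit : ∀ f : ℤ → ℤ, ∑ l ∈ T, f (d l) =
      ∑ l ∈ T \ U.image (k * ·), f (d l) + (U.card : ℤ) * f (d k) := fun f => by
    rw [← horb f k hkT, sum_sdiff hsub]
  have hsq1 : 1 ≤ d k ^ 2 := by
    have := pow_pos (abs_pos.mpr hdk) 2
    rw [sq_abs] at this
    omega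
  have hrest0 : 0 ≤ ∑ l ∈ T \ U.image (k * ·), (fun z => z ^ 2) (d l) :=
    sum_nonneg fun _ _ => sq_nonneg _
  have hQ2 := hsplit fun z => z ^ 2
  have hs0 : (1 : ℤ) ≤ U.card := by exact_mod_cast hs1
  have hrest : ∑ l ∈ T \ U.image (k * ·), (fun z => z ^ 2) (d l) = 0 := by
    rw [← hQ] at hQ2
    nlinarith
  have hS2 := hsplit fun z => z
  rw [← hS1, hS10, sum_eq_zero fun l hl => by
    simpa using (sum_eq_zero_iff_of_nonneg fun _ _ => sq_nonneg _).mp hrest l hl, zero_add] at hS2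
  rcases mul_eq_zero.mp hS2.symm with h | h
  · omega
  · exact hdk h

end Cfsg.Agent.Lib.SingleColumn
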