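/-
The columns of an irreducible character with totals prime to `p` lie in one orbit of the
normalizer.
-/
import Mathlib
import Cfsg.Agent.Lib.SingleColumn.Base
import Cfsg.Agent.Lib.SingleColumn.Const
import Cfsg.Agent.Lib.DefectOne.Congr
import Cfsg.Agent.Lib.Contrib.Transfer

set_option autoImplicit false
set_option linter.unusedSectionVars false
set_option linter.style.haveILetI false

namespace Cfsg.Agent.Lib.SingleColumn

open scoped ComplexConjugate
open Cfsg Cfsg.Agent.Lib Finset Subgroup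
open Cfsg.Agent.Lib.DefectOne
open Cfsg.Agent.Lib.Glauberman (red red_add red_mul red_sum red_natCast red_one red_zero
  sum_eq_sum_fixed natCast_red_eq_zero)
open Cfsg.Agent.Lib.Blocks (isIntegral_mem_localRing Residue localRing)

variable {G : Type*} [Group G] [Fintype G] {p : ℕ} [hp : Fact p.Prime] (S : Local p G)

noncomputable local instance instFintypeVSep : Fintype S.V := Fintype.ofFinite _

variable {M : Ideal AlgInt} [M.IsPrime]

open scoped Classical in
/-- The central character of a class acts on the values on `V` through the class's trace on `V`. -/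
theorem red_centralChar_mul (hM : IsPModular p M) (χ : IrrCharacter G) (v w : S.V) :
    red M (centralChar (χ : G → ℂ) (v : G)) * red M ((χ : G → ℂ) (w : G)) =
      ∑ κ ∈ (univ : Finset S.V).filter (fun κ : S.V => IsConj (v : G) (κ : G)),
        red M ((χ : G → ℂ) ((κ : G) * w)) := by
  haveI : CharP (Residue M) p := ⟨natCast_red_eq_zero hM⟩
  set K := {g : G // IsConj (v : G) g}
  let σ : Equiv.Perm K :=
    { toFun := fun κ => ⟨S.x * κ * S.x⁻¹, κ.2.trans (isConj_iff.mpr ⟨S.x, rfl⟩)⟩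
      invFun := fun κ => ⟨S.x⁻¹ * κ * S.x, κ.2.trans (isConj_iff.mpr ⟨S.x⁻¹, by simp⟩)⟩
      left_inv := fun κ => Subtype.ext (by group)
      right_inv := fun κ => Subtype.ext (by group) }
  have hσn : ∀ n : ℕ, ∀ κ : K, ((σ ^ n) κ : G) = S.x ^ n * κ * (S.x ^ n)⁻¹ := by
    intro n
    induction n with
    | zero => simp
    | succ n ih =>
      intro κ
      rw [pow_succ', Equiv.Perm.mul_apply]
      show S.x * ((σ ^ n) κ : G) * S.x⁻¹ = _
      rw [ih, pow_succ']
      group
  have hσp : σ ^ p = 1 := Equiv.ext fun κ => Subtype.ext (by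
    rw [hσn, S.x_pow_p]; simp)
  have hL : ∀ g, (χ : G → ℂ) g ∈ localRing M := fun g =>
    isIntegral_mem_localRing (Chars.irr_isIntegral χ g)
  have hω : centralChar (χ : G → ℂ) (v : G) ∈ localRing M :=
    isIntegral_mem_localRing (Blocks.centralChar_isIntegral χ _)
  rw [← red_mul hω (hL _), centralChar_mul, red_sum univ (fun κ _ => hL _)]
  have hwx : S.x⁻¹ * (w : G) * S.x = w := by rw [mul_assoc, ← (S.commute w w.2).eq]; group
  rw [sum_eq_sum_fixed p σ hσp _ fun κ => congrArg (red M) (by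
    show (χ : G → ℂ) (S.x * κ * S.x⁻¹ * w) = _
    rw [← Chars.irr_isClassFunction χ ((κ : G) * w) S.x]
    refine congrArg (χ : G → ℂ) ?_
    calc S.x * (κ : G) * S.x⁻¹ * w = S.x * κ * (S.x⁻¹ * w * S.x) * S.x⁻¹ := by group
      _ = _ := by rw [hwx]; group)]
  have hmemV : ∀ κ : K, σ κ = κ → (κ : G) ∈ S.V := by
    intro κ hκ
    refine mem_V_of_regular S (mul_inv_eq_iff_eq_mul.mp (congrArg Subtype.val hκ)).symm ?_
    obtain ⟨c, hc⟩ := isConj_iff.mp κ.2
    rw [← hc, show c * (v : G) * c⁻¹ = MulAut.conj c (v : G) from rfl, MulEquiv.orderOf_eq]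
    exact fun h => S.coprime (h.trans (Subgroup.orderOf_dvd_natCard _ v.2))
  refine sum_bij (fun κ hκ => (⟨(κ : G), hmemV κ (mem_filter.mp hκ).2⟩ : S.V)) ?_ ?_ ?_ ?_
  · exact fun κ _ => mem_filter.mpr ⟨mem_univ _, κ.2⟩
  · exact fun a _ b _ h => Subtype.ext (congrArg (fun t : S.V => (t : G)) h)
  · intro κ hκ
    refine ⟨⟨(κ : G), (mem_filter.mp hκ).2⟩, mem_filter.mpr ⟨mem_univ _, Subtype.ext ?_⟩, rfl⟩
    show S.x * (κ : G) * S.x⁻¹ = κ
    rw [(S.commute κ κ.2).eq]; group
  · exact fun κ _ => rfl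

/-- Summing a translate against a character of `V`. -/
theorem sum_translate (φ' φ : IrrCharacter S.V) (κ : S.V) :
    ∑ w : S.V, (φ' : S.V → ℂ) (κ * w) * conj ((φ : S.V → ℂ) w) =
      (if φ' = φ then (Nat.card S.V : ℂ) else 0) / (φ' : S.V → ℂ) 1 * (φ' : S.V → ℂ) κ := by
  have h := Contrib.sum_mul_translate (z := fun w : S.V => conj ((φ : S.V → ℂ) w))
    (fun a b => congrArg conj (Chars.irr_isClassFunction φ a b)) φ' κ
  rw [← sum_apply_mul_conj S φ' φ, sum_div]
  refine Eq.trans (sum_congr rfl fun w _ => ?_) (h.trans ?_)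
  · rw [mul_comm ((φ' : S.V → ℂ) (κ * w))]
    congr 1
    rw [← Chars.irr_isClassFunction φ' (w * κ) κ]
    congr 1
    group
  · congr 1
    exact sum_congr rfl fun w _ => by rw [mul_comm]

open scoped Classical in
/-- Two columns with totals prime to `p` belong to one orbit. -/
theorem mem_orbit_of_colSum (hsq : ¬ p ^ 2 ∣ Nat.card G) (χ : IrrCharacter G)
    {φ₁ φ₂ : IrrCharacter S.V} (h1 : ¬ p ∣ colSum S χ φ₁) (h2 : ¬ p ∣ colSum S χ φ₂) :
    φ₂ ∈ orbit S φ₁ := by
  obtain ⟨M, hM⟩ := Glauberman.exists_isPModular hp.out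
  haveI := Blocks.isPModular_isPrime hM
  have hVne : (Nat.card S.V : ℂ) ≠ 0 := Nat.cast_ne_zero.mpr Nat.card_pos.ne'
  set O := orbit S φ₁
  let a : S.V → ℂ := fun κ => ∑ φ ∈ O, conj ((φ : S.V → ℂ) κ)
  let f : S.V → ℂ := fun w => (χ : G → ℂ) (w : G)
  -- the function a is constant on the traces of the classes
  have hinv : ∀ v w : S.V, IsConj (v : G) (w : G) → a v = a w := by
    intro v w h
    obtain ⟨g, hg, hgv⟩ := exists_nrm_conj S hsq h
    have hw : w = conjV S hg v := Subtype.ext hgv.symm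
    subst hw
    have hO : O.image (conjIrr S g) = O := by
      refine eq_of_subset_of_card_le (image_subset_iff.mpr fun φ hφ => ?_)
        (le_of_eq (card_image_of_injective _ (conjIrr_injective S hg)).symm)
      obtain ⟨h', hh', rfl⟩ := (mem_orbit S).mp hφ
      exact (mem_orbit S).mpr ⟨h' * g, (expo_mul S hh' hg).1, (conjIrr_mul S hh' hg _).symm⟩
    show ∑ φ ∈ O, conj ((φ : S.V → ℂ) v) = _
    conv_lhs => rw [← hO]
    rw [sum_image fun _ _ _ _ h => conjIrr_injective S hg h]
    exact sum_congr rfl fun φ _ => by rw [conjIrr_apply S hg]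
  -- integrality
  have hconjL : ∀ (φ : IrrCharacter S.V) w, conj ((φ : S.V → ℂ) w) ∈ localRing M := fun φ w =>
    isIntegral_mem_localRing (Chars.isIntegral_conj (Chars.irr_isIntegral φ w))
  have haL : ∀ κ, a κ ∈ localRing M := fun κ => sum_mem fun φ _ => hconjL φ κ
  have hfL : ∀ g, (χ : G → ℂ) g ∈ localRing M := fun g =>
    isIntegral_mem_localRing (Chars.irr_isIntegral χ g)
  -- the eigenvalue
  let ā : ConjClasses G → ℂ := fun c =>
    if h : ∃ κ : S.V, ConjClasses.mk (κ : G) = c then a h.choose else 0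
  let ω' : ConjClasses G → Residue M := fun c =>
    if h : ∃ κ : S.V, ConjClasses.mk (κ : G) = c then
      red M (centralChar (χ : G → ℂ) (h.choose : G)) else 0
  set Λ : Residue M := ∑ c ∈ (univ : Finset S.V).image (fun κ : S.V => ConjClasses.mk (κ : G)),
    red M (ā c) * ω' c
  have heig : ∀ w : S.V, ∑ κ : S.V, red M (a κ) * red M (f (κ * w)) = Λ * red M (f w) := by
    intro w
    rw [← sum_fiberwise_of_maps_to (g := fun κ : S.V => ConjClasses.mk (κ : G))
      (t := (univ : Finset S.V).image fun κ : S.V => ConjClasses.mk (κ : G))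
      (fun κ hκ => mem_image_of_mem _ hκ), sum_mul]
    refine sum_congr rfl fun c hc => ?_
    obtain ⟨κ₀, -, hκ₀⟩ := mem_image.mp hc
    have hex : ∃ κ : S.V, ConjClasses.mk (κ : G) = c := ⟨κ₀, hκ₀⟩
    simp only [ā, ω', dif_pos hex, mul_assoc, f]
    rw [red_centralChar_mul S hM χ hex.choose w, mul_sum]
    refine sum_congr ?_ fun κ hκ => ?_
    · ext κ
      simp only [mem_filter, mem_univ, true_and]
      constructor
      · exact fun h => ConjClasses.mk_eq_mk_iff_isConj.mp (hex.choose_spec.trans h.symm)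
      · exact fun h => (ConjClasses.mk_eq_mk_iff_isConj.mpr h).symm.trans hex.choose_spec
    · have := (mem_filter.mp hκ).2
      rw [hinv _ _ this, Subgroup.coe_mul]
  -- the projection to a column
  have hproj : ∀ φ : IrrCharacter S.V, ∀ d : ℕ, (φ : S.V → ℂ) 1 = d →
      (d : ℂ) * ∑ w : S.V, conj ((φ : S.V → ℂ) w) * ∑ κ : S.V, a κ * f (κ * w) =
        ((colSum S χ φ * (Nat.card S.V * (if φ ∈ O then Nat.card S.V else 0)) : ℕ) : ℂ) := by
    intro φ d hd
    have hd0 : (d : ℂ) ≠ 0 := hd ▸ Chars.irr_apply_one_ne_zero φ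
    have e1 : ∀ κ : S.V, ∑ w : S.V, f (κ * w) * conj ((φ : S.V → ℂ) w) =
        (colSum S χ φ : ℂ) * ((Nat.card S.V : ℂ) / d * (φ : S.V → ℂ) κ) := by
      intro κ
      have hf : ∀ u : S.V, f u = ∑ ψ, (colSum S χ ψ : ℂ) * (ψ : S.V → ℂ) u := fun u => by
        have e := apply_pt S χ 0 u
        simp only [colVal_zero] at e
        rw [← e]; simp [f, pt, Cfsg.Agent.Lib.SmallGroups.PrimeChar.xp_zero]
      simp only [hf, sum_mul, mul_assoc]
      rw [sum_comm]
      simp only [← mul_sum, sum_translate]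
      rw [sum_eq_single φ (fun ψ _ hne => by simp [hne]) (by simp), if_pos rfl, hd]
    have e2 : ∑ w : S.V, conj ((φ : S.V → ℂ) w) * ∑ κ : S.V, a κ * f (κ * w) =
        ∑ κ : S.V, a κ * ((colSum S χ φ : ℂ) * ((Nat.card S.V : ℂ) / d * (φ : S.V → ℂ) κ)) := by
      simp only [← e1, mul_sum]
      rw [sum_comm]
      exact sum_congr rfl fun κ _ => sum_congr rfl fun w _ => by ring
    have e3 : ∑ κ : S.V, a κ * (φ : S.V → ℂ) κ = if φ ∈ O then (Nat.card S.V : ℂ) else 0 := by
      simp only [a, sum_mul]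
      rw [sum_comm, sum_congr rfl fun ψ _ => by
        rw [sum_congr rfl fun κ _ => mul_comm (conj ((ψ : S.V → ℂ) κ)) _, sum_apply_mul_conj]]
      simp
    rw [e2, Nat.cast_mul, Nat.cast_mul, Nat.cast_ite, Nat.cast_zero, ← e3]
    simp only [mul_sum]
    refine sum_congr rfl fun κ _ => ?_
    field_simp
  have hmod : ∀ φ : IrrCharacter S.V, ∀ d : ℕ, (φ : S.V → ℂ) 1 = d →
      (d : Residue M) * (Λ * ((Nat.card S.V : Residue M) * (colSum S χ φ : Residue M))) =
        ((colSum S χ φ * (Nat.card S.V * (if φ ∈ O then Nat.card S.V else 0)) : ℕ) : Residue M) := by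
    intro φ d hd
    have e := congrArg (red M) (hproj φ d hd)
    rw [red_natCast, red_mul (natCast_mem _ _) (sum_mem fun w _ => mul_mem (hconjL φ w)
      (sum_mem fun κ _ => mul_mem (haL κ) (hfL _))), red_natCast] at e
    rw [← e]
    congr 1
    rw [red_sum univ (fun w _ => mul_mem (hconjL φ w)
      (sum_mem fun κ _ => mul_mem (haL κ) (hfL _))),
      sum_congr rfl (g := fun w => red M (conj ((φ : S.V → ℂ) w)) * (Λ * red M (f w)))
      fun w _ => by
        rw [red_mul (hconjL φ w) (sum_mem fun κ _ => mul_mem (haL κ) (hfL _)),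
          red_sum univ (fun κ _ => mul_mem (haL κ) (hfL _)), ← heig]
        exact congrArg _ (sum_congr rfl fun κ _ => red_mul (haL κ) (hfL _))]
    have e4 := congrArg (red M) (sum_coe_mul_conj S χ φ)
    rw [red_sum univ (fun w _ => mul_mem (hfL _) (hconjL φ w)),
      red_mul (natCast_mem _ _) (natCast_mem _ _), red_natCast, red_natCast] at e4
    rw [← e4, mul_sum]
    refine sum_congr rfl fun w _ => ?_
    rw [red_mul (hfL _) (hconjL φ w)]
    ring
  haveI : CharP (Residue M) p := ⟨natCast_red_eq_zero hM⟩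
  have hVp : ((Nat.card S.V : ℕ) : Residue M) ≠ 0 := fun h =>
    S.coprime ((natCast_red_eq_zero hM _).mp h)
  by_contra hnot
  obtain ⟨d₁, -, hd₁, -⟩ := Chars.irr_degree_dvd_card φ₁
  obtain ⟨d₂, -, hd₂, hd₂dvd⟩ := Chars.irr_degree_dvd_card φ₂
  have e1 := hmod φ₁ d₁ hd₁
  rw [if_pos (mem_orbit_self S φ₁)] at e1
  have hΛ : Λ ≠ 0 := by
    intro h0
    rw [h0, zero_mul, mul_zero, eq_comm, natCast_red_eq_zero hM] at e1
    rcases (Nat.Prime.dvd_mul hp.out).mp e1 with h | h
    · exact h1 h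
    · rcases (Nat.Prime.dvd_mul hp.out).mp h with h' | h' <;> exact S.coprime h'
  have e2 := hmod φ₂ d₂ hd₂
  rw [if_neg hnot, mul_zero, mul_zero, Nat.cast_zero] at e2
  rcases mul_eq_zero.mp e2 with h | h
  · exact S.coprime (((natCast_red_eq_zero hM _).mp h).trans hd₂dvd)
  rcases mul_eq_zero.mp h with h | h
  · exact hΛ h
  rcases mul_eq_zero.mp h with h | h
  · exact hVp h
  · exact h2 ((natCast_red_eq_zero hM _).mp h)

/-- Off one orbit the coefficients of a character vanish on the cosets `x ^ j V`. -/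
theorem colVal_eq_zero_of_notMem (hsq : ¬ p ^ 2 ∣ Nat.card G) (χ : IrrCharacter G)
    {φ φ' : IrrCharacter S.V} (h : ¬ p ∣ colSum S χ φ) (hφ' : φ' ∉ orbit S φ) {j : ZMod p}
    (hj : j ≠ 0) : colVal S χ φ' j = 0 := by
  refine colVal_eq_zero_of_const S χ (fun k => mN_eq_of_dvd S χ ?_ k) hj
  by_contra hd
  exact hφ' (mem_orbit_of_colSum S hsq χ h hd)

end Cfsg.Agent.Lib.SingleColumn
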