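/-
Periods of an additive character of `ZMod p` over a subgroup of the units.
-/
import Mathlib
import Cfsg.Agent.Lib.SingleColumn.Separation
import Cfsg.Agent.Lib.DefectOne.LatticeBound

set_option autoImplicit false
set_option linter.unusedSectionVars false
set_option linter.style.haveILetI false

namespace Cfsg.Agent.Lib.SingleColumn

open scoped ComplexConjugate
open Cfsg Cfsg.Agent.Lib Finset Subgroup
open Cfsg.Agent.Lib.DefectOne
open Cfsg.Agent.Lib.SmallGroups.PrimeChar (fusion one_mem_fusion mul_mem_fusion inv_mem_fusion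
  ne_zero_of_mem_fusion conj_stdAddChar)

variable {G : Type*} [Group G] [Fintype G] {p : ℕ} [hp : Fact p.Prime] (S : Local p G)

/-- The period. -/
noncomputable def eta (a : ZMod p) : ℂ :=
  ∑ u ∈ fusion p S.x, ZMod.stdAddChar (a * u)

theorem eta_zero : eta S 0 = ((fusion p S.x).card : ℂ) := by
  simp [eta]

theorem conj_eta (a : ZMod p) : conj (eta S a) = eta S (-a) := by
  simp only [eta, map_sum, conj_stdAddChar, neg_mul]

theorem mul_mem_fusion' {u w : ZMod p} (hu : u ∈ fusion p S.x) (hw : w ∈ fusion p S.x) :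
    u * w ∈ fusion p S.x :=
  mul_mem_fusion S.order_x hu hw

theorem fusion_ne_zero {u : ZMod p} (hu : u ∈ fusion p S.x) : u ≠ 0 :=
  ne_zero_of_mem_fusion S.order_x hu

theorem sum_fusion_mul {R : Type*} [AddCommMonoid R] {w : ZMod p} (hw : w ∈ fusion p S.x)
    (F : ZMod p → R) : ∑ u ∈ fusion p S.x, F (u * w) = ∑ u ∈ fusion p S.x, F u := by
  have hw0 := fusion_ne_zero S hw
  refine sum_nbij' (· * w) (· * w⁻¹) ?_ ?_ ?_ ?_ (fun u _ => rfl)
  · exact fun u hu => mul_mem_fusion' S hu hw
  · exact fun u hu => mul_mem_fusion' S hu (inv_mem_fusion S.order_x hw)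
  · exact fun u _ => mul_inv_cancel_right₀ hw0 u
  · exact fun u _ => inv_mul_cancel_right₀ hw0 u

theorem eta_mul_fusion (a : ZMod p) {w : ZMod p} (hw : w ∈ fusion p S.x) :
    eta S (a * w) = eta S a := by
  rw [eta, eta, ← sum_fusion_mul S hw fun u => ZMod.stdAddChar (a * u)]
  exact sum_congr rfl fun u _ => congrArg _ (by ring)

theorem eta_mul (a b : ZMod p) :
    eta S a * eta S b = ∑ w ∈ fusion p S.x, eta S (a + b * w) := by
  simp only [eta, sum_mul]
  rw [sum_comm (s := fusion p S.x) (t := fusion p S.x) (f := fun w u => ZMod.stdAddChar ((a + b * w) * u))]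
  refine sum_congr rfl fun u hu => ?_
  rw [mul_sum]
  rw [← sum_fusion_mul S hu fun u' => ZMod.stdAddChar (a * u) * ZMod.stdAddChar (b * u')]
  refine sum_congr rfl fun w _ => ?_
  rw [← AddChar.map_add_eq_mul]
  exact congrArg _ (by ring)

theorem exists_mul_eq :
    ∃ t, (fusion p S.x).card * t = p - 1 :=
  exists_mul_eq_sub_one S

/-- Representatives of the cosets of the subgroup. -/
noncomputable def reps : Finset (ZMod p) :=
  (univ.erase 0).filter fun k => ∀ u ∈ fusion p S.x, k.val ≤ (k * u).val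

theorem reps_ne_zero {b : ZMod p} (hb : b ∈ reps S) : b ≠ 0 :=
  ne_of_mem_erase (mem_filter.mp hb).1

theorem exists_rep {k : ZMod p} (hk : k ≠ 0) :
    ∃ b ∈ reps S, ∃ u ∈ fusion p S.x, b * u = k := by
  obtain ⟨u, hu, hmin⟩ := exists_min_image (fusion p S.x) (fun u => (k * u).val)
    ⟨1, one_mem_fusion⟩
  refine ⟨k * u, mem_filter.mpr ⟨mem_erase.mpr ⟨mul_ne_zero hk (fusion_ne_zero S hu), mem_univ _⟩,
    fun w hw => ?_⟩, u⁻¹, inv_mem_fusion S.order_x hu, mul_inv_cancel_right₀ (fusion_ne_zero S hu) k⟩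
  rw [mul_assoc]
  exact hmin _ (mul_mem_fusion' S hu hw)

theorem rep_unique {b c u w : ZMod p} (hb : b ∈ reps S) (hc : c ∈ reps S) (hu : u ∈ fusion p S.x)
    (hw : w ∈ fusion p S.x) (h : b * u = c * w) : b = c ∧ u = w := by
  have hu0 := fusion_ne_zero S hu
  have hw0 := fusion_ne_zero S hw
  have e1 : c = b * (u * w⁻¹) := by rw [← mul_assoc, h, mul_inv_cancel_right₀ hw0]
  have e2 : b = c * (w * u⁻¹) := by rw [← mul_assoc, ← h, mul_inv_cancel_right₀ hu0]
  have h1 := (mem_filter.mp hb).2 _ (mul_mem_fusion' S hu (inv_mem_fusion S.order_x hw))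
  have h2 := (mem_filter.mp hc).2 _ (mul_mem_fusion' S hw (inv_mem_fusion S.order_x hu))
  rw [← e1] at h1
  rw [← e2] at h2
  have e : b = c := ZMod.val_injective p (le_antisymm h1 h2)
  exact ⟨e, mul_left_cancel₀ (reps_ne_zero S hb) (by rw [h, e])⟩

theorem sum_orbits {R : Type*} [AddCommMonoid R] (F : ZMod p → R) :
    ∑ b ∈ reps S, ∑ u ∈ fusion p S.x, F (b * u) = ∑ k ∈ univ.erase (0 : ZMod p), F k := by
  rw [← sum_product']
  refine sum_bij (fun a _ => a.1 * a.2) ?_ ?_ ?_ (fun a _ => rfl)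
  · exact fun a ha => mem_erase.mpr ⟨mul_ne_zero (reps_ne_zero S (mem_product.mp ha).1)
      (fusion_ne_zero S (mem_product.mp ha).2), mem_univ _⟩
  · intro a ha b hb h
    obtain ⟨h1, h2⟩ := rep_unique S (mem_product.mp ha).1 (mem_product.mp hb).1
      (mem_product.mp ha).2 (mem_product.mp hb).2 h
    exact Prod.ext h1 h2
  · intro k hk
    obtain ⟨b, hb, u, hu, e⟩ := exists_rep S (ne_of_mem_erase hk)
    exact ⟨(b, u), mem_product.mpr ⟨hb, hu⟩, e⟩

theorem card_reps : (fusion p S.x).card * (reps S).card = p - 1 := by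
  have h := sum_orbits S (fun _ => (1 : ℕ))
  simp only [sum_const, smul_eq_mul, mul_one, card_erase_of_mem (mem_univ _), card_univ,
    ZMod.card] at h
  rw [mul_comm]; exact h

theorem sum_reps_eta (c : ZMod p) :
    ∑ b ∈ reps S, eta S (b * c) = (if c = 0 then (p : ℂ) else 0) - 1 := by
  have h : ∑ b ∈ reps S, eta S (b * c) =
      ∑ b ∈ reps S, ∑ u ∈ fusion p S.x, ZMod.stdAddChar (b * u * c) :=
    sum_congr rfl fun b _ => sum_congr rfl fun u _ => congrArg _ (by ring)
  rw [h, sum_orbits S fun k => ZMod.stdAddChar (k * c), sum_erase_eq_sub (mem_univ _), zero_mul,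
    AddChar.map_zero_eq_one, AddChar.sum_mulShift c (ZMod.isPrimitive_stdAddChar p), ZMod.card]
  split_ifs <;> simp

theorem sum_reps_eta_self (j : ZMod p) (hj : j ≠ 0) : ∑ b ∈ reps S, eta S (b * j) = -1 := by
  rw [sum_reps_eta, if_neg hj, zero_sub]

theorem sum_reps_eta_pair (i j : ZMod p) :
    ∑ b ∈ reps S, eta S (b * i) * eta S (b * j) =
      (p : ℂ) * ((fusion p S.x).filter fun w => i + j * w = 0).card -
        ((fusion p S.x).card : ℂ) := by
  have h : ∀ b : ZMod p, eta S (b * i) * eta S (b * j) =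
      ∑ w ∈ fusion p S.x, eta S (b * (i + j * w)) := fun b => by
    rw [eta_mul]; exact sum_congr rfl fun w _ => congrArg _ (by ring)
  simp only [h]
  rw [sum_comm]
  simp only [sum_reps_eta, sum_sub_distrib, sum_const, nsmul_eq_mul, mul_one]
  rw [← sum_filter, sum_const, nsmul_eq_mul]
  ring

theorem sum_reps_eta_triple (i j k : ZMod p) :
    ∑ b ∈ reps S, eta S (b * i) * eta S (b * j) * eta S (b * k) =
      (p : ℂ) * ((fusion p S.x ×ˢ fusion p S.x).filter fun w => i + j * w.1 + k * w.2 = 0).card -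
        ((fusion p S.x).card : ℂ) ^ 2 := by
  have h : ∀ b : ZMod p, eta S (b * i) * eta S (b * j) * eta S (b * k) =
      ∑ w ∈ fusion p S.x ×ˢ fusion p S.x, eta S (b * (i + j * w.1 + k * w.2)) := fun b => by
    rw [eta_mul, sum_mul, sum_product]
    refine sum_congr rfl fun w _ => ?_
    rw [eta_mul]
    exact sum_congr rfl fun w' _ => congrArg _ (by ring)
  simp only [h]
  rw [sum_comm]
  simp only [sum_reps_eta, sum_sub_distrib, sum_const, nsmul_eq_mul, mul_one]
  rw [← sum_filter, sum_const, nsmul_eq_mul, card_product]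
  push_cast
  ring

/-- A combination of periods that is constant has constant coefficients. -/
theorem coeff_eq_of_sum_eta (a : ZMod p → ℂ) (K : ℂ)
    (h : ∀ j : ZMod p, j ≠ 0 → ∑ b ∈ reps S, a b * eta S (b * j) = K) {b₀ : ZMod p}
    (hb₀ : b₀ ∈ reps S) : a b₀ = -K := by
  have hp0 : (p : ℂ) ≠ 0 := Nat.cast_ne_zero.mpr hp.out.ne_zero
  -- the finite Fourier transform at a representative
  have key : ∀ c ∈ reps S, (p : ℂ) * a c - ((fusion p S.x).card : ℂ) * ∑ b ∈ reps S, a b = -K := by
    intro c hc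
    have e : ∑ j ∈ univ.erase (0 : ZMod p), (∑ b ∈ reps S, a b * eta S (b * j)) *
        ZMod.stdAddChar (-(c * j)) = ∑ j ∈ univ.erase (0 : ZMod p), K * ZMod.stdAddChar (-(c * j)) :=
      sum_congr rfl fun j hj => by rw [h j (ne_of_mem_erase hj)]
    have hs : ∀ x : ZMod p, ∑ j ∈ univ.erase (0 : ZMod p), (ZMod.stdAddChar (x * j) : ℂ) =
        (if x = 0 then (p : ℂ) else 0) - 1 := fun x => by
      rw [sum_congr rfl (g := fun j => (ZMod.stdAddChar (j * x) : ℂ)) fun j _ => by rw [mul_comm],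
        sum_erase_eq_sub (mem_univ _), zero_mul, AddChar.map_zero_eq_one,
        AddChar.sum_mulShift x (ZMod.isPrimitive_stdAddChar p), ZMod.card]
      split_ifs <;> simp
    have eR : ∑ j ∈ univ.erase (0 : ZMod p), K * ZMod.stdAddChar (-(c * j)) = -K := by
      rw [← mul_sum, sum_congr rfl (g := fun j => (ZMod.stdAddChar (-c * j) : ℂ)) fun j _ => by
        rw [neg_mul], hs, if_neg (neg_ne_zero.mpr (reps_ne_zero S hc))]
      ring
    have eL : ∑ j ∈ univ.erase (0 : ZMod p), (∑ b ∈ reps S, a b * eta S (b * j)) *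
        ZMod.stdAddChar (-(c * j)) =
        ∑ b ∈ reps S, ∑ u ∈ fusion p S.x, a b * ((if b * u = c then (p : ℂ) else 0) - 1) := by
      simp only [sum_mul, eta, mul_sum]
      rw [sum_comm]
      refine sum_congr rfl fun b _ => ?_
      rw [sum_comm]
      refine sum_congr rfl fun u _ => ?_
      rw [show ((if b * u = c then (p : ℂ) else 0) : ℂ) = if b * u - c = 0 then (p : ℂ) else 0 by
        simp only [sub_eq_zero], ← hs, mul_sum]
      refine sum_congr rfl fun j _ => ?_
      rw [mul_assoc, ← AddChar.map_add_eq_mul]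
      exact congrArg _ (congrArg _ (by ring))
    rw [eL, eR] at e
    rw [← e]
    simp only [mul_sub, mul_one, sum_sub_distrib, mul_ite, mul_zero, sum_const, nsmul_eq_mul]
    rw [sum_eq_single c (fun b hb hne => sum_eq_zero fun u hu => if_neg fun he => hne
      (rep_unique S hb hc hu one_mem_fusion (he.trans (mul_one c).symm)).1) (fun hn => absurd hc hn),
      sum_eq_single (1 : ZMod p) (fun u hu hne => if_neg fun he => hne
        (rep_unique S hc hc hu one_mem_fusion (he.trans (mul_one c).symm)).2)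
        (fun hn => absurd one_mem_fusion hn), if_pos (mul_one c)]
    rw [mul_sum]; ring
  have hsum : ∑ c ∈ reps S, ((p : ℂ) * a c - ((fusion p S.x).card : ℂ) * ∑ b ∈ reps S, a b) =
      ∑ _c ∈ reps S, (-K) := sum_congr rfl key
  rw [sum_sub_distrib, ← mul_sum, sum_const, sum_const, nsmul_eq_mul, nsmul_eq_mul] at hsum
  have hc := card_reps S
  have hcC : ((fusion p S.x).card : ℂ) * ((reps S).card : ℂ) = (p : ℂ) - 1 := by
    rw [← Nat.cast_mul, hc, Nat.cast_sub hp.out.one_le, Nat.cast_one]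
  have hA : ∑ b ∈ reps S, a b = -((reps S).card : ℂ) * K := by
    linear_combination hsum + (∑ b ∈ reps S, a b) * hcC
  have e := key b₀ hb₀
  rw [hA] at e
  refine mul_left_cancel₀ hp0 ?_
  linear_combination e - K * hcC

end Cfsg.Agent.Lib.SingleColumn
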