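/-
Orthogonality of the coefficients of an invariant character of `V`.
-/
import Mathlib
import Cfsg.Agent.Lib.SingleColumn.Eta
import Cfsg.Agent.Lib.DefectOne.Principal

set_option autoImplicit false
set_option linter.unusedSectionVars false
set_option linter.style.haveILetI false

namespace Cfsg.Agent.Lib.SingleColumn

open scoped ComplexConjugate
open Cfsg Cfsg.Agent.Lib Finset Subgroup
open Cfsg.Agent.Lib.DefectOne
open Cfsg.Agent.Lib.SmallGroups.PrimeChar (xp fusion isConj_xp_iff xp_injective xp_zero xp_mul)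

variable {G : Type*} [Group G] [Fintype G] {p : ℕ} [hp : Fact p.Prime] (S : Local p G)

noncomputable local instance instFintypeVGram : Fintype S.V := Fintype.ofFinite _

/-- An invariant character of `V`. -/
def Invariant (φ : IrrCharacter S.V) : Prop := ∀ g, Nrm S g → conjIrr S g φ = φ

theorem Invariant.orbit_eq {φ : IrrCharacter S.V} (h : Invariant S φ) : orbit S φ = {φ} := by
  refine Finset.eq_singleton_iff_unique_mem.mpr ⟨mem_orbit_self S φ, fun ψ hψ => ?_⟩
  obtain ⟨g, hg, rfl⟩ := (mem_orbit S).mp hψ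
  exact h g hg

theorem card_nset_expo {i j : ZMod p} (hi : i ≠ 0) :
    ((nset S).filter fun g => expo S g * i = j).card =
      ((fusion p S.x).filter fun u => u * i = j).card * cN S := by
  classical
  rw [card_eq_sum_card_fiberwise (f := expo S) (t := (fusion p S.x).filter fun u => u * i = j)
    (fun g hg => mem_filter.mpr ⟨expo_mem_fusion S ((mem_nset S).mp (mem_filter.mp hg).1),
      (mem_filter.mp hg).2⟩), sum_congr rfl (g := fun _ => cN S) fun u hu => ?_, sum_const, smul_eq_mul]
  obtain ⟨hu, hu'⟩ := mem_filter.mp hu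
  obtain ⟨g₀, hg₀, he⟩ := exists_nrm S hu
  rw [filter_filter, ← card_act_fiber S (Chars.trivialIrr S.V) u
    (conjIrr S g₀ (Chars.trivialIrr S.V)) ⟨g₀, hg₀, he, rfl⟩]
  congr 1
  refine filter_congr fun g hg => ⟨fun h => ⟨h.2, act_inj_expo S ((mem_nset S).mp hg) hg₀
    (h.2.trans he.symm) _⟩, fun h => ⟨by rw [h.1]; exact hu', h.1⟩⟩

/-- The Gram matrix of an invariant column. -/
theorem colVal_gram {φ : IrrCharacter S.V} (hφ : Invariant S φ) {i : ZMod p} (hi : i ≠ 0) (j : ZMod p) :
    ∑ χ : IrrCharacter G, colVal S χ φ i * conj (colVal S χ φ j) =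
      (p : ℂ) * ((fusion p S.x).filter fun u => u * i = j).card := by
  classical
  have hV : (Nat.card S.V : ℂ) ≠ 0 := Nat.cast_ne_zero.mpr Nat.card_pos.ne'
  have hexp : ∀ χ : IrrCharacter G,
      ((Nat.card S.V : ℂ) * colVal S χ φ i) * conj ((Nat.card S.V : ℂ) * colVal S χ φ j) =
      ∑ v : S.V, ∑ w : S.V, conj ((φ : S.V → ℂ) v) * (φ : S.V → ℂ) w *
        ((χ : G → ℂ) (pt S (i, v)) * conj ((χ : G → ℂ) (pt S (j, w)))) := by
    intro χ
    rw [← sum_pt_mul_conj, ← sum_pt_mul_conj, map_sum, Finset.sum_mul_sum]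
    refine sum_congr rfl fun v _ => sum_congr rfl fun w _ => ?_
    rw [map_mul, Complex.conj_conj]; ring
  have key : ∑ χ : IrrCharacter G,
      ((Nat.card S.V : ℂ) * colVal S χ φ i) * conj ((Nat.card S.V : ℂ) * colVal S χ φ j) =
      (Nat.card S.V : ℂ) * (((nset S).filter fun g => expo S g * i = j).card : ℕ) := by
    rw [sum_congr rfl fun χ _ => hexp χ, sum_comm, sum_congr rfl fun v _ => sum_comm]
    simp only [← mul_sum, column_sum]
    have hinner : ∀ v : S.V, ∑ w : S.V, conj ((φ : S.V → ℂ) v) * (φ : S.V → ℂ) w *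
        ((univ.filter fun g : G => g * pt S (i, v) * g⁻¹ = pt S (j, w)).card : ℂ) =
        ∑ g ∈ (nset S).filter (fun g => expo S g * i = j),
          (φ : S.V → ℂ) v * conj ((φ : S.V → ℂ) v) := by
      intro v
      simp only [natCast_card_filter, mul_sum, mul_ite, mul_one, mul_zero]
      rw [sum_comm, sum_filter]
      refine (sum_subset (subset_univ _) fun g _ hg => ?_).symm.trans (sum_congr rfl fun g hg => ?_)
      · exact sum_eq_zero fun w _ => if_neg fun h => hg ((mem_nset S).mpr (nrm_of_ne_zero S hi h))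
      have hg' := (mem_nset S).mp hg
      have hiff : ∀ w : S.V, g * pt S (i, v) * g⁻¹ = pt S (j, w) ↔
          expo S g * i = j ∧ w = conjV S hg' v := by
        intro w
        rw [← pt_move S hg', (pt_injective S).eq_iff]
        simp only [move, Prod.mk.injEq]
        exact and_congr Iff.rfl eq_comm
      simp only [hiff]
      by_cases h : expo S g * i = j
      · simp only [h, true_and, sum_ite_eq', mem_univ, if_true]
        rw [← conjIrr_apply S hg', hφ g hg', mul_comm]
      · simp [h]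
    rw [sum_congr rfl fun v _ => hinner v, sum_comm, sum_congr rfl fun g _ => sum_apply_mul_conj S φ φ,
      if_pos rfl, sum_const, nsmul_eq_mul, mul_comm]
  rw [card_nset_expo S hi] at key
  simp only [cN, map_mul, Complex.conj_natCast, Nat.cast_mul] at key
  have hL : ∀ χ : IrrCharacter G, (Nat.card S.V : ℂ) * colVal S χ φ i *
      ((Nat.card S.V : ℂ) * conj (colVal S χ φ j)) =
      (Nat.card S.V : ℂ) * (Nat.card S.V : ℂ) * (colVal S χ φ i * conj (colVal S χ φ j)) :=
    fun χ => by ring
  rw [sum_congr rfl fun χ _ => hL χ, ← mul_sum] at key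
  refine mul_left_cancel₀ (mul_ne_zero hV hV) (key.trans ?_)
  ring

/-- Coefficients against `p`-regular elements. -/
theorem colVal_regular {φ : IrrCharacter S.V} {g : G} (hg : ¬ p ∣ orderOf g) {j : ZMod p}
    (hj : j ≠ 0) : ∑ χ : IrrCharacter G, colVal S χ φ j * conj ((χ : G → ℂ) g) = 0 := by
  classical
  have hV : (Nat.card S.V : ℂ) ≠ 0 := Nat.cast_ne_zero.mpr Nat.card_pos.ne'
  apply mul_left_cancel₀ hV
  simp only [mul_sum, ← mul_assoc, ← sum_pt_mul_conj, sum_mul, mul_zero]
  rw [sum_comm]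
  refine sum_eq_zero fun v _ => ?_
  rw [sum_congr rfl (g := fun χ : IrrCharacter G => conj ((φ : S.V → ℂ) v) *
    ((χ : G → ℂ) (pt S (j, v)) * conj ((χ : G → ℂ) g))) fun χ _ => by ring, ← mul_sum]
  refine mul_eq_zero_of_right _ (Chars.column_orthogonality_of_not_isConj fun hc => hg ?_)
  obtain ⟨c, rfl⟩ := isConj_iff.mp hc
  rw [show c * pt S (j, v) * c⁻¹ = MulAut.conj c (pt S (j, v)) from rfl, MulEquiv.orderOf_eq]
  have hcop : Nat.Coprime (orderOf (xp p S.x j)) (orderOf (v : G)) := by
    rw [orderOf_xp S hj]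
    exact (Nat.Prime.coprime_iff_not_dvd hp.out).mpr fun h =>
      S.coprime (h.trans (Subgroup.orderOf_dvd_natCard _ v.2))
  show p ∣ orderOf (xp p S.x j * (v : G))
  rw [(xp_commute S j v.2).orderOf_mul_eq_mul_orderOf_of_coprime hcop, orderOf_xp S hj]
  exact dvd_mul_right _ _

/-- The spread of an invariant column is at most `p` times the order of the automizer. -/
theorem spread_le {φ : IrrCharacter S.V} (hφ : Invariant S φ) (χ : IrrCharacter G) :
    LatticeBound.spread (fun k => (mN S (χ : G → ℂ) (k, φ) : ℤ)) ≤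
      (p : ℤ) * (fusion p S.x).card := by
  classical
  set T := univ.erase (0 : ZMod p) with hT
  set c : ZMod p → ℂ := fun j => colVal S χ φ j with hc
  have hfour : ∀ j, c j = LatticeBound.four (fun k => (mN S (χ : G → ℂ) (k, φ) : ℤ)) j := fun j => by
    simp [hc, colVal, LatticeBound.four]
  set Z : ℝ := ∑ j ∈ T, Complex.normSq (c j) with hZ
  have hZs : Z = (LatticeBound.spread (fun k => (mN S (χ : G → ℂ) (k, φ) : ℤ)) : ℝ) := by
    rw [hZ, sum_congr rfl fun j _ => by rw [hfour j]]
    exact LatticeBound.sum_normSq_four _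
  have hinv : ∀ u ∈ fusion p S.x, ∀ i, c (u * i) = c i := by
    intro u hu i
    obtain ⟨g, hg, he⟩ := exists_nrm S hu
    refine (Fintype.sum_bijective (fun k : ZMod p => k * u)
      ((Equiv.mulRight₀ _ (fusion_ne_zero S hu)).bijective) _ _ fun k => ?_)
    have e : mN S (χ : G → ℂ) (k * u, φ) = mN S (χ : G → ℂ) (k, φ) := by
      have e' := Cfsg.Agent.Lib.DefectOne.mN_act S χ hg (k, φ)
      simp only [act, hφ g hg, he] at e'
      exact e'
    rw [e, mul_assoc]
  -- Bessel
  have hle : Complex.normSq (∑ j ∈ T, conj (c j) * colVal S χ φ j) ≤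
      ∑ ψ : IrrCharacter G, Complex.normSq (∑ j ∈ T, conj (c j) * colVal S ψ φ j) :=
    single_le_sum (f := fun ψ : IrrCharacter G => Complex.normSq (∑ j ∈ T, conj (c j) * colVal S ψ φ j))
      (fun ψ _ => Complex.normSq_nonneg _) (mem_univ χ)
  have hself : ∑ j ∈ T, conj (c j) * colVal S χ φ j = (Z : ℂ) := by
    rw [hZ, Complex.ofReal_sum]
    exact sum_congr rfl fun j _ => by rw [Complex.normSq_eq_conj_mul_self]
  have htot : ((∑ ψ : IrrCharacter G, Complex.normSq (∑ j ∈ T, conj (c j) * colVal S ψ φ j) : ℝ) : ℂ) =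
      ((p : ℂ) * (fusion p S.x).card) * (Z : ℂ) := by
    push_cast
    rw [sum_congr rfl (g := fun ψ : IrrCharacter G => ∑ i ∈ T, ∑ j ∈ T,
      conj (c i) * c j * (colVal S ψ φ i * conj (colVal S ψ φ j))) fun ψ _ => by
        rw [← Complex.mul_conj, map_sum, Finset.sum_mul_sum]
        exact sum_congr rfl fun i _ => sum_congr rfl fun j _ => by
          rw [map_mul, Complex.conj_conj]; ring, sum_comm,
      sum_congr rfl fun i _ => sum_comm]
    rw [hZ, Complex.ofReal_sum, mul_sum]
    refine sum_congr rfl fun i hi => ?_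
    simp only [← mul_sum, Complex.normSq_eq_conj_mul_self]
    rw [sum_congr rfl (g := fun j => ∑ u ∈ fusion p S.x,
      if u * i = j then (p : ℂ) * (conj (c i) * c j) else 0) fun j _ => by
        rw [colVal_gram S hφ (ne_of_mem_erase hi), natCast_card_filter, mul_sum, mul_sum]
        exact sum_congr rfl fun u _ => by split_ifs <;> ring, sum_comm,
      sum_congr rfl (g := fun _ => (p : ℂ) * (conj (c i) * c i)) fun u hu => ?_, sum_const, nsmul_eq_mul]
    · ring
    · rw [sum_ite_eq, if_pos (mem_erase.mpr ⟨mul_ne_zero (fusion_ne_zero S hu) (ne_of_mem_erase hi),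
        mem_univ _⟩), hinv u hu i]
  rw [hself, Complex.normSq_ofReal] at hle
  have htot' : (∑ ψ : IrrCharacter G, Complex.normSq (∑ j ∈ T, conj (c j) * colVal S ψ φ j)) =
      ((p : ℝ) * (fusion p S.x).card) * Z := by
    exact_mod_cast htot
  rw [htot'] at hle
  have hZ0 : 0 ≤ Z := sum_nonneg fun _ _ => Complex.normSq_nonneg _
  have h1 : Z ≤ (p : ℝ) * (fusion p S.x).card := by
    rcases hZ0.eq_or_lt with h | h
    · rw [← h]; positivity
    · exact le_of_mul_le_mul_right hle h
  rw [hZs] at h1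
  exact_mod_cast h1

end Cfsg.Agent.Lib.SingleColumn
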