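/-
A faithful irreducible character of degree `p - 2` has a single column.
-/
import Mathlib
import Cfsg.Agent.Lib.SingleColumn.Gram
import Cfsg.Agent.Lib.DefectOne.SmallFaithful

set_option autoImplicit false
set_option linter.unusedSectionVars false
set_option linter.style.haveILetI false

namespace Cfsg.Agent.Lib.SingleColumn

open scoped ComplexConjugate
open Cfsg Cfsg.Agent.Lib Finset Subgroup
open Cfsg.Agent.Lib.DefectOne
open Cfsg.Agent.Lib.SmallGroups.PrimeChar (xp fusion one_mem_fusion xp_one xp_zero)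

/-- An element on which a faithful irreducible character attains its degree in norm is central. -/
theorem mem_center_of_norm {G : Type*} [Group G] [Finite G] (χ : IrrCharacter G) {n : ℕ}
    (hn : (χ : G → ℂ) 1 = n) (hfaith : ∀ g : G, (χ : G → ℂ) g = (χ : G → ℂ) 1 → g = 1) {g : G}
    (hg : ‖(χ : G → ℂ) g‖ = n) : g ∈ center G := by
  obtain ⟨m, ρ, -, hρ⟩ := χ.2
  rw [← hρ] at hn hg
  have hm : (m : ℂ) = n := by rw [← hn, Representation.char_one, Module.finrank_fin_fun]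
  obtain rfl : m = n := by exact_mod_cast hm
  obtain ⟨ω, hω⟩ := (Chars.norm_char_eq_iff ρ g).mp (by rw [hg, Module.finrank_fin_fun])
  refine mem_center_iff.mpr fun h => ?_
  have hc : ρ h * ρ g = ρ g * ρ h := by
    rw [hω, mul_smul_comm, smul_mul_assoc]; rfl
  have hk : (χ : G → ℂ) ((h * g) * (g * h)⁻¹) = (χ : G → ℂ) 1 := by
    rw [← hρ, Representation.character, Representation.character]
    congr 1
    rw [map_mul, map_mul ρ h g, hc, ← map_mul, ← map_mul, mul_inv_cancel]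
  exact mul_inv_eq_one.mp (hfaith _ hk)

variable {G : Type*} [Group G] [Fintype G] {p : ℕ} [hp : Fact p.Prime] (S : Local p G)

noncomputable local instance instFintypeVCol : Fintype S.V := Fintype.ofFinite _

/-- The data of a character with a single invariant column. -/
structure Col (ζ : IrrCharacter G) where
  φ : IrrCharacter S.V
  inv : Invariant S φ
  d : ℕ
  hd : (φ : S.V → ℂ) 1 = d
  only : ∀ ψ, ψ ≠ φ → ∀ k, mN S (ζ : G → ℂ) (k, ψ) = 0

variable {S}

theorem Col.colSum_eq_zero {ζ : IrrCharacter G} (C : Col S ζ) {ψ : IrrCharacter S.V} (h : ψ ≠ C.φ) :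
    colSum S ζ ψ = 0 := sum_eq_zero fun k _ => C.only ψ h k

theorem Col.apply_pt {ζ : IrrCharacter G} (C : Col S ζ) (j : ZMod p) (v : S.V) :
    (ζ : G → ℂ) (pt S (j, v)) = colVal S ζ C.φ j * (C.φ : S.V → ℂ) v := by
  rw [SingleColumn.apply_pt, sum_eq_single C.φ (fun ψ _ h => ?_) (by simp)]
  rw [colVal, sum_eq_zero fun k _ => by rw [C.only ψ h k, Nat.cast_zero, zero_mul], zero_mul]

theorem Col.apply_xp {ζ : IrrCharacter G} (C : Col S ζ) (j : ZMod p) :
    (ζ : G → ℂ) (xp p S.x j) = colVal S ζ C.φ j * (C.d : ℂ) := by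
  rw [← C.hd, ← C.apply_pt j 1]
  simp [pt]

theorem mN_mul_fusion {φ : IrrCharacter S.V} (hφ : Invariant S φ) (χ : IrrCharacter G) (k : ZMod p)
    {u : ZMod p} (hu : u ∈ fusion p S.x) :
    mN S (χ : G → ℂ) (k * u, φ) = mN S (χ : G → ℂ) (k, φ) := by
  obtain ⟨g, hg, he⟩ := exists_nrm S hu
  have e := Cfsg.Agent.Lib.DefectOne.mN_act S χ hg (k, φ)
  simp only [act, hφ g hg, he] at e
  exact e

theorem colVal_eq_sum_eta {φ : IrrCharacter S.V} (hφ : Invariant S φ) (χ : IrrCharacter G) (j : ZMod p) :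
    colVal S χ φ j = (mN S (χ : G → ℂ) (0, φ) : ℂ) +
      ∑ b ∈ reps S, (mN S (χ : G → ℂ) (b, φ) : ℂ) * eta S (b * j) := by
  rw [colVal, ← add_sum_erase univ _ (mem_univ (0 : ZMod p)), zero_mul, AddChar.map_zero_eq_one,
    mul_one, ← sum_orbits S]
  congr 1
  refine sum_congr rfl fun b _ => ?_
  rw [eta, mul_sum]
  refine sum_congr rfl fun u hu => ?_
  rw [mN_mul_fusion hφ χ b hu]
  exact congrArg _ (congrArg _ (by ring))

/-- The orbit of a column has order dividing the automizer. -/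
theorem card_orbit_dvd (φ : IrrCharacter S.V) : (orbit S φ).card ∣ (fusion p S.x).card := by
  classical
  set St := (nset S).filter fun g => conjIrr S g φ = φ with hSt
  have hfib : ∀ ψ ∈ orbit S φ, ((nset S).filter fun g => conjIrr S g φ = ψ).card = St.card := by
    intro ψ hψ
    obtain ⟨g₀, hg₀, rfl⟩ := (mem_orbit S).mp hψ
    refine Finset.card_nbij' (fun g => g * g₀⁻¹) (fun g => g * g₀) ?_ ?_ ?_ ?_
    · intro g hg
      obtain ⟨hg, he⟩ := mem_filter.mp (mem_coe.mp hg)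
      have hg' := (mem_nset S).mp hg
      refine mem_coe.mpr (mem_filter.mpr ⟨(mem_nset S).mpr (expo_mul S hg' (nrm_inv S hg₀)).1, ?_⟩)
      rw [← conjIrr_mul S hg' (nrm_inv S hg₀), he, conjIrr_mul S hg₀ (nrm_inv S hg₀), mul_inv_cancel,
        conjIrr_one]
    · intro g hg
      obtain ⟨hg, he⟩ := mem_filter.mp (mem_coe.mp hg)
      have hg' := (mem_nset S).mp hg
      refine mem_coe.mpr (mem_filter.mpr ⟨(mem_nset S).mpr (expo_mul S hg' hg₀).1, ?_⟩)
      rw [← conjIrr_mul S hg' hg₀, he]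
    · exact fun g _ => inv_mul_cancel_right g g₀
    · exact fun g _ => mul_inv_cancel_right g g₀
  set U := St.image (expo S)
  have hcardSt : St.card = U.card * cN S := by
    rw [card_eq_sum_card_fiberwise (f := expo S) (t := U) (fun g hg => mem_image_of_mem _ hg),
      sum_congr rfl (g := fun _ => cN S) fun u hu => ?_, sum_const, smul_eq_mul]
    obtain ⟨g, hg, rfl⟩ := mem_image.mp hu
    obtain ⟨hg1, hg2⟩ := mem_filter.mp hg
    rw [← card_act_fiber S φ (expo S g) φ ⟨g, (mem_nset S).mp hg1, rfl, hg2⟩, hSt, filter_filter]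
    congr 1
    exact filter_congr fun g' _ => and_comm
  have h := card_eq_sum_card_fiberwise (s := nset S) (t := orbit S φ) (f := fun g => conjIrr S g φ)
    (fun g hg => (mem_orbit S).mpr ⟨g, (mem_nset S).mp hg, rfl⟩)
  rw [sum_congr rfl hfib, sum_const, smul_eq_mul, card_nset, hcardSt] at h
  exact ⟨U.card, Nat.eq_of_mul_eq_mul_right (m := cN S) (Nat.mul_pos hp.out.pos Nat.card_pos)
    (h.trans (mul_assoc _ _ _).symm)⟩

/-- A character of degree `p - 2` has a single invariant column. -/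
theorem exists_col (hsq : ¬ p ^ 2 ∣ Nat.card G) (hp5 : 5 < p) {ζ : IrrCharacter G}
    (hdeg : (ζ : G → ℂ) 1 = ((p - 2 : ℕ) : ℂ)) :
    ∃ C : Col S ζ, colSum S ζ C.φ * C.d = p - 2 := by
  classical
  have hsum : p - 2 = ∑ φ, colSum S ζ φ * degV S φ := by
    rw [degree_eq_sum S hdeg, sum_comm]
    exact sum_congr rfl fun φ _ => by rw [colSum, sum_mul]
  obtain ⟨φ, hφ⟩ : ∃ φ, colSum S ζ φ ≠ 0 := by
    by_contra! h
    rw [sum_eq_zero fun φ _ => by rw [h φ, zero_mul]] at hsum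
    omega
  have hlt : ∀ ψ, colSum S ζ ψ ≤ p - 2 := fun ψ => by
    rw [hsum]
    exact (Nat.le_mul_of_pos_right _ (degV_pos S ψ)).trans
      (single_le_sum (f := fun ψ => colSum S ζ ψ * degV S ψ) (fun _ _ => Nat.zero_le _) (mem_univ ψ))
  have hndvd : ∀ ψ, colSum S ζ ψ ≠ 0 → ¬ p ∣ colSum S ζ ψ := fun ψ hψ h => by
    have := Nat.le_of_dvd (Nat.pos_of_ne_zero hψ) h
    have := hlt ψ
    omega
  have horb : ∀ ψ, colSum S ζ ψ ≠ 0 → ψ ∈ orbit S φ := fun ψ hψ =>
    mem_orbit_of_colSum S hsq ζ (hndvd φ hφ) (hndvd ψ hψ)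
  -- the orbit has length one
  have hsum' : p - 2 = (orbit S φ).card * (colSum S ζ φ * degV S φ) := by
    rw [hsum, ← sum_subset (subset_univ (orbit S φ)) fun ψ _ hψ => by
      rw [show colSum S ζ ψ = 0 from by_contra fun h => hψ (horb ψ h), zero_mul],
      sum_congr rfl (g := fun _ => colSum S ζ φ * degV S φ) fun ψ hψ => ?_, sum_const, smul_eq_mul]
    obtain ⟨g, hg, rfl⟩ := (mem_orbit S).mp hψ
    rw [colSum_conjIrr S ζ hg, degV_conjIrr S hg]
  have hone : (orbit S φ).card = 1 := by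
    obtain ⟨t, ht⟩ := exists_mul_eq S
    have h1 : (orbit S φ).card ∣ p - 1 := ht ▸ (card_orbit_dvd φ).trans (dvd_mul_right _ _)
    have h2 : (orbit S φ).card ∣ p - 2 := hsum' ▸ dvd_mul_right _ _
    have h3 := Nat.dvd_sub h1 h2
    rw [show p - 1 - (p - 2) = 1 by omega] at h3
    exact Nat.dvd_one.mp h3
  obtain ⟨ψ₀, hψ₀⟩ := card_eq_one.mp hone
  obtain rfl : φ = ψ₀ := mem_singleton.mp (hψ₀ ▸ mem_orbit_self S φ)
  refine ⟨⟨φ, fun g hg => mem_singleton.mp (hψ₀ ▸ (mem_orbit S).mpr ⟨g, hg, rfl⟩), degV S φ,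
    degV_cast S φ, fun ψ hψ k => ?_⟩, ?_⟩
  · have h0 : colSum S ζ ψ = 0 := by
      by_contra h
      exact hψ (mem_singleton.mp (hψ₀ ▸ horb ψ h))
    exact (sum_eq_zero_iff.mp h0) k (mem_univ k)
  · rw [hsum', hone, one_mul]

/-- Arithmetic of a column of total degree `p - 2`. -/
theorem column_arith {P f t m₀ q Q d s : ℕ} (hP : 5 < P) (hodd : Odd P) (hft : f * t = P - 1)
    (hd : s * d = P - 2) (hs : s = m₀ + f * q) (hq : 1 ≤ q) (hqQ : q ≤ Q)
    (h2 : 2 * q ≤ Q + t)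
    (hbound : (P : ℤ) * (m₀ ^ 2 + f * Q) - (s : ℤ) ^ 2 ≤ P * f) :
    (d = 1 ∧ m₀ = 1 ∧ f = 2 ∧ q + 1 = t ∧ Q + t = 2 * q + 1) ∨
      (3 ≤ d ∧ q = 1 ∧ Q = 1) := by
  have hdodd : Odd d := by
    have : Odd (P - 2) := by
      obtain ⟨k, hk⟩ := hodd; exact ⟨k - 1, by omega⟩
    exact (Nat.odd_mul.mp (hd ▸ this)).2
  have hf : 1 ≤ f := Nat.pos_of_ne_zero fun h => by rw [h, zero_mul] at hft; omega
  obtain ⟨k, hk⟩ := hdodd
  rcases Nat.eq_zero_or_pos k with hk0 | hk0
  · left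
    obtain rfl : d = 1 := by omega
    obtain ⟨D, hD⟩ := Nat.exists_eq_add_of_le h2
    rw [mul_one] at hd
    have hsP : (s : ℤ) = (P : ℤ) - 2 := by omega
    have hftZ : (f : ℤ) * t = (P : ℤ) - 1 := by
      rw [← Nat.cast_mul, hft, Nat.cast_sub (by omega), Nat.cast_one]
    have hDZ : (Q : ℤ) + t = 2 * q + D := by exact_mod_cast hD
    have hsZ : (s : ℤ) = m₀ + f * q := by exact_mod_cast hs
    have key : (P : ℤ) * (((m₀ : ℤ) - 1) ^ 2 + f * D) - 4 ≤ P * f := by
      have e : (P : ℤ) * (m₀ ^ 2 + f * Q) - (s : ℤ) ^ 2 =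
          P * (((m₀ : ℤ) - 1) ^ 2 + f * D) - 4 := by
        linear_combination (-((s : ℤ)) - (P : ℤ) + 2 + 2 * P) * hsP + (P : ℤ) * f * hDZ
          + (-(P : ℤ)) * hftZ + (-2 * (P : ℤ)) * hsZ
      linarith
    have key' : ((m₀ : ℤ) - 1) ^ 2 + f * D ≤ f := by
      by_contra hh
      have h4 : (P : ℤ) * ((f : ℤ) + 1) ≤ P * (((m₀ : ℤ) - 1) ^ 2 + f * D) :=
        mul_le_mul_of_nonneg_left (by omega) (by positivity)
      have : (6 : ℤ) ≤ P := by exact_mod_cast hP
      linarith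
    have hD0 : D ≠ 0 := by
      rintro rfl
      have hqt : q = t ∨ q < t ∨ t < q := by omega
      have : Q + t = 2 * q := by omega
      -- with no deviation the column would be too large
      have hsq : ((m₀ : ℤ) - 1) ^ 2 ≤ f := by simpa using key'
      have e : (m₀ : ℤ) + f * q = (P : ℤ) - 2 := by rw [← hsZ, hsP]
      have hfq : (f : ℤ) * q = (f : ℤ) * t + ((f : ℤ) * (q : ℤ) - f * t) := by ring
      rcases le_or_gt t q with h | h
      · have : (f : ℤ) * t ≤ f * q := mul_le_mul_of_nonneg_left (by exact_mod_cast h) (by positivity)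
        linarith [Int.natCast_nonneg m₀]
      · have h1 : (f : ℤ) * (q + 1) ≤ f * t :=
          mul_le_mul_of_nonneg_left (by exact_mod_cast h) (by positivity)
        have h2 : (f : ℤ) ≤ (m₀ : ℤ) + 1 := by linarith
        have hQ : (q : ℤ) * 2 = Q + t := by exact_mod_cast (by omega : q * 2 = Q + t)
        have hq' : (q : ℤ) + 1 ≤ t := by exact_mod_cast h
        have hQq : (q : ℤ) ≤ Q := by exact_mod_cast hqQ
        linarith
    have hD1 : D = 1 := by
      by_contra hne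
      have : (2 : ℤ) ≤ D := by exact_mod_cast (by omega : 2 ≤ D)
      nlinarith [sq_nonneg ((m₀ : ℤ) - 1), mul_le_mul_of_nonneg_left this (by positivity : (0:ℤ) ≤ f)]
    subst hD1
    have hm : ((m₀ : ℤ) - 1) ^ 2 ≤ 0 := by push_cast at key'; linarith
    have hm1 : (m₀ : ℤ) = 1 := by
      have := pow_eq_zero_iff (n := 2) two_ne_zero |>.mp (le_antisymm hm (sq_nonneg _))
      omega
    have hm1' : m₀ = 1 := by exact_mod_cast hm1
    have hqt : f * q + 2 = f * t := by omega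
    have hlt : q < t := by
      by_contra h
      have := Nat.mul_le_mul_left f (not_lt.mp h)
      omega
    have hq1 : q + 1 = t := by omega
    subst hq1
    rw [Nat.mul_add, mul_one] at hqt
    exact ⟨rfl, hm1', by omega, rfl, hD⟩
  · right
    have hd3 : 3 ≤ d := by omega
    refine ⟨hd3, ?_⟩
    have hs3 : 3 * s + 2 ≤ P := by
      have := Nat.mul_le_mul_left s hd3
      omega
    have hs3' : 3 * (s : ℤ) + 2 ≤ P := by exact_mod_cast hs3
    have hsZ : (s : ℤ) = m₀ + f * q := by exact_mod_cast hs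
    have hPpos : (0 : ℤ) < P := by exact_mod_cast (by omega : 0 < P)
    have key : 3 * ((m₀ : ℤ) ^ 2 + f * Q) ≤ 3 * f + s := by
      have h1 : 3 * ((s : ℤ) * s) ≤ s * P := by
        have := mul_le_mul_of_nonneg_left hs3' (Int.natCast_nonneg s)
        nlinarith [Int.natCast_nonneg s]
      by_contra hh
      have h4 : (P : ℤ) * (3 * f + s + 1) ≤ P * (3 * ((m₀ : ℤ) ^ 2 + f * Q)) :=
        mul_le_mul_of_nonneg_left (by omega) hPpos.le
      nlinarith
    have hm : (m₀ : ℤ) ≤ (m₀ : ℤ) ^ 2 := by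
      exact_mod_cast Nat.le_self_pow two_ne_zero m₀
    have hQq : (q : ℤ) ≤ Q := by exact_mod_cast hqQ
    have hfQ : (f : ℤ) * q ≤ f * Q := mul_le_mul_of_nonneg_left hQq (by positivity)
    have hQ1 : Q = 1 := by
      by_contra hne
      have hQ2 : (2 : ℤ) ≤ Q := by exact_mod_cast (by omega : 2 ≤ Q)
      have : (f : ℤ) * 2 ≤ f * Q := mul_le_mul_of_nonneg_left hQ2 (by positivity)
      have hfZ : (1 : ℤ) ≤ f := by exact_mod_cast hf
      nlinarith
    exact ⟨by omega, hQ1⟩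

/-- The two possible columns. -/
theorem col_cases (hp5 : 5 < p) {ζ : IrrCharacter G}
    (hdeg : (ζ : G → ℂ) 1 = ((p - 2 : ℕ) : ℂ))
    (hfaith : ∀ g : G, (ζ : G → ℂ) g = (ζ : G → ℂ) 1 → g = 1) (hx : S.x ∉ center G) (C : Col S ζ)
    (hsd : colSum S ζ C.φ * C.d = p - 2) :
    (C.d = 1 ∧ (fusion p S.x).card = 2 ∧
      ∃ a, a ≠ 0 ∧ ∀ j, j ≠ 0 → colVal S ζ C.φ j = -eta S (a * j)) ∨
    (3 ≤ C.d ∧ ∃ (m₀ : ℕ) (a : ZMod p), 1 ≤ m₀ ∧ a ≠ 0 ∧ C.d * (m₀ + (fusion p S.x).card) = p - 2 ∧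
      ∀ j, colVal S ζ C.φ j = (m₀ : ℂ) + eta S (a * j)) := by
  classical
  set m : ZMod p → ℕ := fun k => mN S (ζ : G → ℂ) (k, C.φ) with hm
  set f := (fusion p S.x).card with hf
  have hval : ∀ j, colVal S ζ C.φ j = (m 0 : ℂ) + ∑ b ∈ reps S, (m b : ℂ) * eta S (b * j) :=
    colVal_eq_sum_eta C.inv ζ
  have hnone : ¬ ∀ b ∈ reps S, m b = 0 := by
    intro h
    apply hx
    refine mem_center_of_norm ζ hdeg hfaith ?_
    have e1 : colVal S ζ C.φ 0 = colVal S ζ C.φ 1 := by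
      rw [hval, hval, sum_eq_zero fun b hb => by rw [h b hb, Nat.cast_zero, zero_mul],
        sum_eq_zero fun b hb => by rw [h b hb, Nat.cast_zero, zero_mul]]
    rw [← xp_one (p := p) (x := S.x), C.apply_xp, ← e1, colVal_zero, ← Nat.cast_mul, hsd,
      Complex.norm_natCast]
  have horbit : ∀ F : ℕ → ℕ, ∑ k ∈ univ.erase (0 : ZMod p), F (m k) = f * ∑ b ∈ reps S, F (m b) := by
    intro F
    rw [← sum_orbits S, mul_sum]
    refine sum_congr rfl fun b _ => ?_
    rw [sum_congr rfl (g := fun _ => F (m b)) fun u hu => by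
      simp only [hm, mN_mul_fusion C.inv ζ b hu], sum_const, smul_eq_mul]
  have hs : colSum S ζ C.φ = m 0 + f * ∑ b ∈ reps S, m b := by
    rw [← horbit fun x => x, colSum, ← add_sum_erase univ _ (mem_univ (0 : ZMod p))]
  have hQ : ∑ k, (m k) ^ 2 = (m 0) ^ 2 + f * ∑ b ∈ reps S, (m b) ^ 2 := by
    rw [← horbit fun x => x ^ 2, ← add_sum_erase univ _ (mem_univ (0 : ZMod p))]
  have hbound := spread_le S C.inv ζ
  have e1 : ∑ j, ((mN S (ζ : G → ℂ) (j, C.φ) : ℤ)) ^ 2 = ((m 0 : ℤ) ^ 2 + f * (∑ b ∈ reps S, (m b) ^ 2 : ℕ)) := by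
    exact_mod_cast hQ
  have e2 : ∑ j, ((mN S (ζ : G → ℂ) (j, C.φ) : ℤ)) = (colSum S ζ C.φ : ℤ) := by
    simp [colSum]
  rw [LatticeBound.spread, e1, e2] at hbound
  have hq1 : 1 ≤ ∑ b ∈ reps S, m b := by
    by_contra h
    exact hnone fun b hb => (sum_eq_zero_iff.mp (by omega : ∑ b ∈ reps S, m b = 0)) b hb
  have hqQ : ∑ b ∈ reps S, m b ≤ ∑ b ∈ reps S, (m b) ^ 2 :=
    sum_le_sum fun b _ => Nat.le_self_pow two_ne_zero _
  have h2 : 2 * ∑ b ∈ reps S, m b ≤ ∑ b ∈ reps S, (m b) ^ 2 + (reps S).card := by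
    rw [mul_sum, card_eq_sum_ones, ← sum_add_distrib]
    refine sum_le_sum fun b _ => ?_
    zify
    nlinarith [sq_nonneg ((m b : ℤ) - 1)]
  rcases column_arith hp5 (hp.out.odd_of_ne_two (by omega)) (card_reps S) hsd hs hq1 hqQ h2 hbound
    with ⟨hd, hm0, hf2, hqt, hD⟩ | ⟨hd, hq, hQ1⟩
  · left
    have hdev : ∑ b ∈ reps S, ((m b : ℤ) - 1) ^ 2 = 1 := by
      simp only [sub_sq, mul_one, one_pow, sum_add_distrib, sum_sub_distrib, ← mul_sum, sum_const,
        nsmul_eq_mul]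
      zify at hD
      linarith
    obtain ⟨b₀, hb₀, hne⟩ : ∃ b ∈ reps S, m b ≠ 1 := by
      by_contra! h
      rw [sum_eq_zero fun b hb => by rw [h b hb]; norm_num] at hdev
      exact zero_ne_one hdev
    have hsplit := add_sum_erase (reps S) (fun b => ((m b : ℤ) - 1) ^ 2) hb₀
    have hnn : 0 ≤ ∑ b ∈ (reps S).erase b₀, ((m b : ℤ) - 1) ^ 2 := sum_nonneg fun _ _ => sq_nonneg _
    have hpos : 0 < ((m b₀ : ℤ) - 1) ^ 2 :=
      pow_two_pos_of_ne_zero (by omega)
    have hrest : ∀ b ∈ (reps S).erase b₀, m b = 1 := fun b hb => by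
      have h0 := (sum_eq_zero_iff_of_nonneg fun _ _ => sq_nonneg _).mp
        (by omega : ∑ b ∈ (reps S).erase b₀, ((m b : ℤ) - 1) ^ 2 = 0) b hb
      have := pow_eq_zero_iff (n := 2) two_ne_zero |>.mp h0
      omega
    have hb₀0 : m b₀ = 0 := by
      have hq := add_sum_erase (reps S) m hb₀
      rw [sum_congr rfl hrest, sum_const, smul_eq_mul, mul_one, card_erase_of_mem hb₀] at hq
      omega
    refine ⟨hd, hf2, b₀, reps_ne_zero S hb₀, fun j hj => ?_⟩
    rw [hval, hm0, ← add_sum_erase (reps S) _ hb₀, hb₀0, Nat.cast_zero, zero_mul, zero_add,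
      sum_congr rfl fun b hb => by rw [hrest b hb, Nat.cast_one, one_mul],
      sum_erase_eq_sub hb₀, sum_reps_eta_self S j hj]
    push_cast; ring
  · right
    obtain ⟨b₀, hb₀, hne⟩ : ∃ b ∈ reps S, m b ≠ 0 := by
      by_contra! h
      exact hnone h
    have hq' := add_sum_erase (reps S) m hb₀
    have hb₀1 : m b₀ = 1 := by omega
    have hrest : ∀ b ∈ (reps S).erase b₀, m b = 0 :=
      sum_eq_zero_iff.mp (by omega : ∑ b ∈ (reps S).erase b₀, m b = 0)
    have hval' : ∀ j, colVal S ζ C.φ j = (m 0 : ℂ) + eta S (b₀ * j) := fun j => by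
      rw [hval, ← add_sum_erase (reps S) _ hb₀, sum_eq_zero fun b hb => by
        rw [hrest b hb, Nat.cast_zero, zero_mul], hb₀1, Nat.cast_one, one_mul, add_zero]
    rw [hq, mul_one] at hs
    refine ⟨hd, m 0, b₀, ?_, reps_ne_zero S hb₀, by rw [← hs, mul_comm]; exact hsd, hval'⟩
    by_contra h
    have hm00 : m 0 = 0 := by omega
    rw [hm00, zero_add] at hs
    rw [hs] at hsd
    have hf1 : f = 1 := by
      have h1 : f ∣ p - 1 := ⟨_, (card_reps S).symm⟩
      have h3 := Nat.dvd_sub h1 ⟨C.d, hsd.symm⟩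
      rw [show p - 1 - (p - 2) = 1 by omega] at h3
      exact Nat.dvd_one.mp h3
    obtain ⟨u, hu⟩ := card_eq_one.mp hf1
    apply hx
    refine mem_center_of_norm ζ hdeg hfaith ?_
    rw [hf1, one_mul] at hsd
    rw [← xp_one (p := p) (x := S.x), C.apply_xp, hval', hm00, Nat.cast_zero, zero_add, eta, hu,
      sum_singleton, hsd, norm_mul, Complex.norm_natCast, AddChar.norm_apply, one_mul]

end Cfsg.Agent.Lib.SingleColumn
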