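/-
The Galois family of a single column and the two further characters of its block.
-/
import Mathlib
import Cfsg.Agent.Lib.SingleColumn.Column
import Cfsg.Agent.Lib.DefectTwist.Lattice

set_option autoImplicit false
set_option linter.unusedSectionVars false
set_option linter.style.haveILetI false

namespace Cfsg.Agent.Lib.SingleColumn

open scoped ComplexConjugate
open Cfsg Cfsg.Agent.Lib Finset Subgroup
open Cfsg.Agent.Lib.DefectOne
open Cfsg.Agent.Lib.SmallGroups.PrimeChar (xp fusion one_mem_fusion xp_one xp_zero)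

variable {G : Type*} [Group G] [Fintype G] {p : ℕ} [hp : Fact p.Prime] (S : Local p G)

noncomputable local instance instFintypeVFam : Fintype S.V := Fintype.ofFinite _

/-- The block of a single column: its conjugates and two further characters. -/
structure Family {ζ : IrrCharacter G} (C : Col S ζ) (c s : ℤ) where
  fam : ZMod p → IrrCharacter G
  ψ₁ : IrrCharacter G
  ψ₂ : IrrCharacter G
  δ₁ : ℤ
  δ₂ : ℤ
  unit₁ : δ₁ = 1 ∨ δ₁ = -1
  unit₂ : δ₂ = 1 ∨ δ₂ = -1
  inj : Set.InjOn fam (reps S : Set (ZMod p))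
  ne : ψ₁ ≠ ψ₂
  notMem₁ : ∀ b ∈ reps S, fam b ≠ ψ₁
  notMem₂ : ∀ b ∈ reps S, fam b ≠ ψ₂
  val_fam : ∀ b ∈ reps S, ∀ j : ZMod p, j ≠ 0 → ∀ v : S.V, (fam b : G → ℂ) (pt S (j, v)) =
    ((c : ℂ) + (s : ℂ) * eta S (b * j)) * (C.φ : S.V → ℂ) v
  reg_fam : ∀ b ∈ reps S, ∀ g : G, ¬ p ∣ orderOf g → (fam b : G → ℂ) g = (ζ : G → ℂ) g
  col_fam : ∀ b ∈ reps S, ∀ j : ZMod p, j ≠ 0 →
    colVal S (fam b) C.φ j = (c : ℂ) + (s : ℂ) * eta S (b * j)
  col₁ : ∀ j : ZMod p, j ≠ 0 → colVal S ψ₁ C.φ j = (δ₁ : ℂ)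
  col₂ : ∀ j : ZMod p, j ≠ 0 → colVal S ψ₂ C.φ j = (δ₂ : ℂ)
  val₁ : ∀ j : ZMod p, j ≠ 0 → ∀ v : S.V,
    (ψ₁ : G → ℂ) (pt S (j, v)) = (δ₁ : ℂ) * (C.φ : S.V → ℂ) v
  val₂ : ∀ j : ZMod p, j ≠ 0 → ∀ v : S.V,
    (ψ₂ : G → ℂ) (pt S (j, v)) = (δ₂ : ℂ) * (C.φ : S.V → ℂ) v
  vanish : ∀ χ : IrrCharacter G, (∀ b ∈ reps S, χ ≠ fam b) → χ ≠ ψ₁ → χ ≠ ψ₂ →
    ∀ j : ZMod p, j ≠ 0 → colVal S χ C.φ j = 0
  regular : ∀ g : G, ¬ p ∣ orderOf g →
    (((reps S).card : ℤ) * c - s : ℤ) * (ζ : G → ℂ) g + (δ₁ : ℂ) * (ψ₁ : G → ℂ) g +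
      (δ₂ : ℂ) * (ψ₂ : G → ℂ) g = 0

variable {S}

/-- A sum over all characters against a function supported on the block. -/
theorem Family.sum_eq {ζ : IrrCharacter G} {C : Col S ζ} {c s : ℤ} (F : Family S C c s)
    {R : Type*} [AddCommMonoid R] (h : IrrCharacter G → R)
    (h0 : ∀ χ : IrrCharacter G, (∀ b ∈ reps S, χ ≠ F.fam b) → χ ≠ F.ψ₁ → χ ≠ F.ψ₂ → h χ = 0) :
    ∑ χ, h χ = ∑ b ∈ reps S, h (F.fam b) + h F.ψ₁ + h F.ψ₂ := by
  classical
  rw [← sum_image F.inj, ← sum_subset (subset_univ ((reps S).image F.fam ∪ {F.ψ₁, F.ψ₂}))]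
  · rw [sum_union, sum_pair F.ne, add_assoc]
    rw [disjoint_right]
    intro χ hχ hm
    obtain ⟨b, hb, rfl⟩ := mem_image.mp hm
    rcases mem_insert.mp hχ with h | h
    · exact F.notMem₁ b hb h
    · exact F.notMem₂ b hb (mem_singleton.mp h)
  · intro χ _ hχ
    simp only [mem_union, mem_image, mem_insert, mem_singleton, not_or, not_exists, not_and] at hχ
    exact h0 χ (fun b hb h => hχ.1 b hb h.symm) hχ.2.1 hχ.2.2

theorem apply_pt_of_sign (hsq : ¬ p ^ 2 ∣ Nat.card G) {φ : IrrCharacter S.V} (hφ : Invariant S φ)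
    (χ : IrrCharacter G) {δ : ℤ} (hδ : δ = 1 ∨ δ = -1)
    (h : ∀ j : ZMod p, j ≠ 0 → colVal S χ φ j = (δ : ℂ)) {j : ZMod p} (hj : j ≠ 0) (v : S.V) :
    (χ : G → ℂ) (pt S (j, v)) = (δ : ℂ) * (φ : S.V → ℂ) v := by
  have hnd : ¬ p ∣ colSum S χ φ := by
    intro hd
    have h0 := colVal_eq_zero_of_const S χ (fun k => mN_eq_of_dvd S χ hd k) one_ne_zero
    rw [h 1 one_ne_zero] at h0
    rcases hδ with rfl | rfl <;> simp at h0
  rw [SingleColumn.apply_pt, sum_eq_single φ (fun ψ _ hψ => ?_) (by simp), h j hj]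
  rw [colVal_eq_zero_of_notMem S hsq χ hnd (by rw [hφ.orbit_eq]; simpa using hψ) hj, zero_mul]

/-- The Galois conjugates of a column shifted to every orbit. -/
theorem exists_conjugates (hsq : ¬ p ^ 2 ∣ Nat.card G) {ζ : IrrCharacter G} (C : Col S ζ) {c s : ℤ}
    (hs : s = 1 ∨ s = -1) {a : ZMod p} (ha : a ≠ 0)
    (hval : ∀ j : ZMod p, j ≠ 0 → colVal S ζ C.φ j = (c : ℂ) + (s : ℂ) * eta S (a * j)) :
    ∃ fam : ZMod p → IrrCharacter G, Set.InjOn fam (reps S : Set (ZMod p)) ∧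
      (∀ b ∈ reps S, ∀ j : ZMod p, j ≠ 0 → ∀ v : S.V, (fam b : G → ℂ) (pt S (j, v)) =
        ((c : ℂ) + (s : ℂ) * eta S (b * j)) * (C.φ : S.V → ℂ) v) ∧
      (∀ b ∈ reps S, ∀ g : G, ¬ p ∣ orderOf g → (fam b : G → ℂ) g = (ζ : G → ℂ) g) ∧
      ∀ b ∈ reps S, ∀ j : ZMod p, j ≠ 0 →
        colVal S (fam b) C.φ j = (c : ℂ) + (s : ℂ) * eta S (b * j) := by
  classical
  have hpG : p ∣ Nat.card G := S.order_x ▸ orderOf_dvd_natCard S.x
  set N := Nat.card G / p with hNdef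
  have hN : ¬ p ∣ N := fun h => hsq (by
    rw [sq]
    exact (Nat.mul_dvd_mul_left p h).trans (dvd_of_eq (Nat.mul_div_cancel' hpG)))
  choose σ hσ using fun b : {b : ZMod p // b ≠ 0} =>
    DefectTwist.exists_isShift (p := p) hN (mul_ne_zero b.2 (inv_ne_zero ha))
  have hfix : ∀ (b : {b : ZMod p // b ≠ 0}) {H : Type _} [Group H] [Finite H] (χ : IrrCharacter H)
      (g : H), orderOf g ∣ N → σ b ((χ : H → ℂ) g) = (χ : H → ℂ) g := by
    intro b H _ _ χ g hg
    obtain ⟨n, ρ, -, hρ⟩ := χ.2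
    obtain ⟨ι, _, m, -, hm, hsum, -⟩ := Chars.exists_roots_sum ρ g
    rw [← hρ, hsum, map_sum]
    refine sum_congr rfl fun i _ => (hσ b).2 _ ?_
    obtain ⟨k, hk⟩ := hg
    rw [hk, pow_mul, hm, one_pow]
  have hordG : ∀ g : G, ¬ p ∣ orderOf g → orderOf g ∣ N := fun g hg => by
    refine (Nat.Coprime.dvd_of_dvd_mul_left ((Nat.Prime.coprime_iff_not_dvd hp.out).mpr hg).symm ?_)
    rw [Nat.mul_div_cancel' hpG]
    exact orderOf_dvd_natCard g
  have hordV : ∀ v : S.V, orderOf v ∣ N := fun v => by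
    rw [← Subgroup.orderOf_coe]
    exact hordG _ fun h => S.coprime (h.trans (Subgroup.orderOf_dvd_natCard _ v.2))
  have hσeta : ∀ (b : {b : ZMod p // b ≠ 0}) (j : ZMod p),
      σ b (eta S (a * j)) = eta S ((b : ZMod p) * j) := by
    intro b j
    simp only [eta, map_sum, (hσ b).1]
    refine sum_congr rfl fun u _ => congrArg _ ?_
    field_simp
  let fam : ZMod p → IrrCharacter G := fun b =>
    if hb : b ≠ 0 then GaloisChar.galIrr (σ ⟨b, hb⟩ : ℂ →+* ℂ) ζ else ζ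
  have hfam : ∀ b (hb : b ∈ reps S), fam b = GaloisChar.galIrr (σ ⟨b, reps_ne_zero S hb⟩ : ℂ →+* ℂ) ζ :=
    fun b hb => by simp only [fam, dif_pos (reps_ne_zero S hb)]
  have vf : ∀ b ∈ reps S, ∀ j : ZMod p, j ≠ 0 → ∀ v : S.V, (fam b : G → ℂ) (pt S (j, v)) =
      ((c : ℂ) + (s : ℂ) * eta S (b * j)) * (C.φ : S.V → ℂ) v := by
    intro b hb j hj v
    rw [hfam b hb]
    show σ _ ((ζ : G → ℂ) (pt S (j, v))) = _
    rw [C.apply_pt, hval j hj, map_mul, map_add, map_mul, map_intCast, map_intCast, hσeta,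
      hfix _ C.φ v (hordV v)]
  have cf : ∀ b ∈ reps S, ∀ j : ZMod p, j ≠ 0 →
      colVal S (fam b) C.φ j = (c : ℂ) + (s : ℂ) * eta S (b * j) := by
    intro b hb j hj
    refine mul_left_cancel₀ (Nat.cast_ne_zero.mpr (Nat.card_pos (α := S.V)).ne' : (Nat.card S.V : ℂ) ≠ 0) ?_
    rw [← sum_pt_mul_conj]
    simp only [vf b hb j hj, mul_assoc, ← mul_sum, sum_apply_mul_conj, if_pos]
    exact mul_comm _ _
  have hinj : Set.InjOn fam (reps S : Set (ZMod p)) := by
    intro b₁ h₁ b₂ h₂ he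
    have h := coeff_eq_of_sum_eta S
      (fun b => (if b = b₁ then (1 : ℂ) else 0) - if b = b₂ then 1 else 0) 0 (fun j hj => ?_) h₁
    · by_contra hne
      simp [hne] at h
    · simp only [sub_mul, ite_mul, one_mul, zero_mul, sum_sub_distrib, sum_ite_eq', mem_coe.mp h₁,
        mem_coe.mp h₂, if_true]
      have e1 := cf b₁ h₁ j hj
      rw [he, cf b₂ h₂ j hj] at e1
      rcases hs with rfl | rfl <;> push_cast at e1 ⊢
      · linear_combination -e1
      · linear_combination e1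
  refine ⟨fam, hinj, vf, fun b hb g hg => ?_, cf⟩
  rw [hfam b hb]
  exact hfix _ ζ g (hordG g hg)

/-- The family exists. -/
theorem exists_family (hsq : ¬ p ^ 2 ∣ Nat.card G) {ζ : IrrCharacter G} (C : Col S ζ) {c s : ℤ}
    (hs : s = 1 ∨ s = -1) {a : ZMod p} (ha : a ≠ 0)
    (hval : ∀ j : ZMod p, j ≠ 0 → colVal S ζ C.φ j = (c : ℂ) + (s : ℂ) * eta S (a * j))
    (hK : ((fusion p S.x).card : ℤ) + 2 * c * s - (reps S).card * c ^ 2 = 2) :
    Nonempty (Family S C c s) := by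
  classical
  have hp0 : (p : ℂ) ≠ 0 := Nat.cast_ne_zero.mpr hp.out.ne_zero
  obtain ⟨fam, hinj, vf, rf, cf⟩ := exists_conjugates hsq C hs ha hval
  -- the rest
  set R := (univ : Finset (IrrCharacter G)) \ (reps S).image fam with hR
  have hrest : ∀ i j : ZMod p, i ≠ 0 → j ≠ 0 →
      ∑ χ ∈ R, colVal S χ C.φ i * conj (colVal S χ C.φ j) = 2 := by
    intro i j hi hj
    have e := colVal_gram S C.inv hi j
    rw [← sum_sdiff (subset_univ ((reps S).image fam)), ← hR, sum_image hinj] at e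
    have e2 : ∑ b ∈ reps S, colVal S (fam b) C.φ i * conj (colVal S (fam b) C.φ j) =
        ((reps S).card : ℂ) * (c : ℂ) ^ 2 - 2 * c * s +
          ((p : ℂ) * ((fusion p S.x).filter fun u => u * i = j).card - (fusion p S.x).card) := by
      rw [sum_congr rfl (g := fun b => (c : ℂ) ^ 2 + (c : ℂ) * s * eta S (b * i) +
        (c : ℂ) * s * eta S (b * -j) + eta S (b * i) * eta S (b * -j)) fun b hb => by
        rw [cf b hb i hi, cf b hb j hj, map_add, map_mul, map_intCast, map_intCast, conj_eta, mul_neg]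
        rcases hs with rfl | rfl <;> push_cast <;> ring]
      simp only [sum_add_distrib, ← mul_sum, sum_reps_eta_self S i hi,
        sum_reps_eta_self S (-j) (neg_ne_zero.mpr hj), sum_reps_eta_pair, sum_const, nsmul_eq_mul]
      have hfil : ((fusion p S.x).filter fun w => i + -j * w = 0).card =
          ((fusion p S.x).filter fun u => u * i = j).card := by
        refine Finset.card_nbij' (fun w => w⁻¹) (fun w => w⁻¹) ?_ ?_
          (fun w _ => inv_inv w) (fun w _ => inv_inv w)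
        · intro w hw
          obtain ⟨hw, e⟩ := mem_filter.mp (mem_coe.mp hw)
          refine mem_coe.mpr (mem_filter.mpr
            ⟨Cfsg.Agent.Lib.SmallGroups.PrimeChar.inv_mem_fusion S.order_x hw, ?_⟩)
          rw [show i = j * w by linear_combination e]
          field_simp [fusion_ne_zero S hw]
        · intro w hw
          obtain ⟨hw, e⟩ := mem_filter.mp (mem_coe.mp hw)
          refine mem_coe.mpr (mem_filter.mpr
            ⟨Cfsg.Agent.Lib.SmallGroups.PrimeChar.inv_mem_fusion S.order_x hw, ?_⟩)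
          rw [← e]
          field_simp [fusion_ne_zero S hw]
          ring
      rw [hfil]
      ring
    rw [e2] at e
    have hK' : ((fusion p S.x).card : ℂ) + 2 * c * s - ((reps S).card : ℂ) * (c : ℂ) ^ 2 = 2 := by
      exact_mod_cast congrArg (Int.cast : ℤ → ℂ) hK
    linear_combination e + hK'
  have hconst : ∀ χ ∈ R, ∀ j : ZMod p, j ≠ 0 → colVal S χ C.φ j = colVal S χ C.φ 1 := by
    intro χ hχ j hj
    have e : ((∑ ξ ∈ R, Complex.normSq (colVal S ξ C.φ j - colVal S ξ C.φ 1) : ℝ) : ℂ) = 0 := by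
      push_cast
      simp only [← Complex.mul_conj, map_sub, sub_mul, mul_sub, sum_sub_distrib,
        hrest j j hj hj, hrest j 1 hj one_ne_zero, hrest 1 j one_ne_zero hj,
        hrest 1 1 one_ne_zero one_ne_zero]
      ring
    have h := (sum_eq_zero_iff_of_nonneg fun ξ _ => Complex.normSq_nonneg _).mp
      (Complex.ofReal_eq_zero.mp e) χ hχ
    exact sub_eq_zero.mp (Complex.normSq_eq_zero.mp h)
  let r : IrrCharacter G → ℤ := fun χ =>
    (mN S (χ : G → ℂ) (0, C.φ) : ℤ) - mN S (χ : G → ℂ) (1, C.φ)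
  have hr : ∀ χ ∈ R, ∀ j : ZMod p, j ≠ 0 → colVal S χ C.φ j = (r χ : ℂ) := by
    intro χ hχ j hj
    rw [hconst χ hχ j hj]
    refine mul_left_cancel₀ hp0 ?_
    have hort : ∀ k : ZMod p, ∑ i : ZMod p, colVal S χ C.φ i * ZMod.stdAddChar (-(k * i)) =
        (p : ℂ) * (mN S (χ : G → ℂ) (k, C.φ) : ℂ) := by
      intro k
      simp only [colVal, sum_mul, mul_assoc, ← AddChar.map_add_eq_mul]
      rw [sum_comm]
      simp only [← mul_sum]
      rw [sum_eq_single k (fun l _ hl => ?_) (by simp)]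
      · rw [sum_congr rfl (g := fun _ => (1 : ℂ)) fun i _ => by
          rw [add_neg_cancel, AddChar.map_zero_eq_one], sum_const, card_univ, ZMod.card]
        simp [mul_comm]
      · rw [sum_congr rfl (g := fun i => ZMod.stdAddChar (i * (l - k))) fun i _ => congrArg _ (by ring),
          AddChar.sum_mulShift (l - k) (ZMod.isPrimitive_stdAddChar p), if_neg (sub_ne_zero.mpr hl)]
        simp
    have h0 := hort 0
    have h1 := hort 1
    rw [← add_sum_erase univ _ (mem_univ (0 : ZMod p)),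
      sum_congr rfl fun i hi => by rw [hconst χ hχ i (ne_of_mem_erase hi)]] at h0 h1
    simp only [zero_mul, mul_zero, neg_zero, AddChar.map_zero_eq_one, mul_one] at h0 h1
    rw [sum_const, card_erase_of_mem (mem_univ _), card_univ, ZMod.card, nsmul_eq_mul] at h0
    rw [← mul_sum, sum_congr rfl (g := fun i : ZMod p => (ZMod.stdAddChar (i * (-1)) : ℂ)) fun i _ =>
        congrArg _ (by ring),
      sum_erase_eq_sub (mem_univ _), zero_mul, AddChar.map_zero_eq_one,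
      AddChar.sum_mulShift (-1 : ZMod p) (ZMod.isPrimitive_stdAddChar p),
      if_neg (neg_ne_zero.mpr one_ne_zero), Nat.cast_zero] at h1
    rw [Nat.cast_sub hp.out.one_le] at h0
    simp only [r]
    push_cast at h0 h1 ⊢
    linear_combination h0 - h1
  have hr2 : ∑ χ ∈ R, r χ ^ 2 = 2 := by
    have e := hrest 1 1 one_ne_zero one_ne_zero
    rw [sum_congr rfl (g := fun χ => ((r χ ^ 2 : ℤ) : ℂ)) fun χ hχ => by
      rw [hr χ hχ 1 one_ne_zero, map_intCast]; push_cast; ring, ← Int.cast_sum] at e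
    exact_mod_cast e
  set T := R.filter fun χ => r χ ≠ 0
  have hT : ∑ χ ∈ T, r χ ^ 2 = 2 := by
    rw [← hr2]
    exact sum_subset (filter_subset _ _) fun χ hχ hn => by
      have : r χ = 0 := by by_contra h; exact hn (mem_filter.mpr ⟨hχ, h⟩)
      rw [this]; norm_num
  have hT1 : ∀ χ ∈ T, r χ = 1 ∨ r χ = -1 := by
    intro χ hχ
    have h1 : r χ ^ 2 ≤ 2 := hT ▸ single_le_sum (f := fun χ => r χ ^ 2) (fun _ _ => sq_nonneg _) hχ
    have h0 := (mem_filter.mp hχ).2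
    have : |r χ| ≤ 1 := by
      by_contra hh
      have := pow_le_pow_left₀ (by norm_num : (0 : ℤ) ≤ 2) (by omega : 2 ≤ |r χ|) 2
      rw [sq_abs] at this
      omega
    rcases le_abs'.mp (Int.one_le_abs h0) with h | h <;> rw [abs_le] at this <;> omega
  have hTcard : T.card = 2 := by
    have : ∑ χ ∈ T, r χ ^ 2 = ∑ χ ∈ T, (1 : ℤ) := sum_congr rfl fun χ hχ => by
      rcases hT1 χ hχ with h | h <;> rw [h] <;> norm_num
    rw [this, sum_const, nsmul_eq_mul, mul_one] at hT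
    exact_mod_cast hT
  obtain ⟨ψ₁, ψ₂, hne, hTeq⟩ := card_eq_two.mp hTcard
  have hm₁ : ψ₁ ∈ T := hTeq ▸ mem_insert_self _ _
  have hm₂ : ψ₂ ∈ T := hTeq ▸ mem_insert_of_mem (mem_singleton_self _)
  have hR₁ := (mem_filter.mp hm₁).1
  have hR₂ := (mem_filter.mp hm₂).1
  have hnot : ∀ χ ∈ R, ∀ b ∈ reps S, fam b ≠ χ := fun χ hχ b hb h =>
    (mem_sdiff.mp hχ).2 (mem_image.mpr ⟨b, hb, h⟩)
  have hvan : ∀ χ : IrrCharacter G, (∀ b ∈ reps S, χ ≠ fam b) → χ ≠ ψ₁ → χ ≠ ψ₂ →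
      ∀ j : ZMod p, j ≠ 0 → colVal S χ C.φ j = 0 := by
    intro χ h1 h2 h3 j hj
    have hχ : χ ∈ R := mem_sdiff.mpr ⟨mem_univ _, fun h => by
      obtain ⟨b, hb, e⟩ := mem_image.mp h; exact h1 b hb e.symm⟩
    rw [hr χ hχ j hj]
    have : χ ∉ T := by rw [hTeq]; simp [h2, h3]
    rw [show r χ = 0 from by_contra fun h => this (mem_filter.mpr ⟨hχ, h⟩), Int.cast_zero]
  refine ⟨⟨fam, ψ₁, ψ₂, r ψ₁, r ψ₂, hT1 _ hm₁, hT1 _ hm₂, hinj, hne, hnot _ hR₁, hnot _ hR₂, vf, rf,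
    cf, hr _ hR₁, hr _ hR₂, fun j hj v => apply_pt_of_sign hsq C.inv _ (hT1 _ hm₁) (hr _ hR₁) hj v,
    fun j hj v => apply_pt_of_sign hsq C.inv _ (hT1 _ hm₂) (hr _ hR₂) hj v, hvan, ?_⟩⟩
  intro g hg
  have e := colVal_regular S (φ := C.φ) hg (one_ne_zero (α := ZMod p))
  have e' := congrArg conj e
  rw [map_sum, map_zero] at e'
  simp only [map_mul, Complex.conj_conj] at e'
  rw [← sum_sdiff (subset_univ ((reps S).image fam)), ← hR, sum_image hinj,
    ← sum_subset (filter_subset (fun χ => r χ ≠ 0) R) fun χ hχ hn => by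
      rw [hr χ hχ 1 one_ne_zero, show r χ = 0 from by_contra fun h => hn (mem_filter.mpr ⟨hχ, h⟩),
        Int.cast_zero, map_zero, zero_mul],
    show R.filter (fun χ => r χ ≠ 0) = {ψ₁, ψ₂} from hTeq, sum_pair hne, hr _ hR₁ 1 one_ne_zero,
    hr _ hR₂ 1 one_ne_zero, map_intCast, map_intCast,
    sum_congr rfl (g := fun b => (c : ℂ) * (ζ : G → ℂ) g + (s : ℂ) * (ζ : G → ℂ) g * eta S (b * -1))
      fun b hb => by
        rw [cf b hb 1 one_ne_zero, rf b hb g hg, map_add, map_mul, map_intCast, map_intCast, conj_eta,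
          mul_neg]
        ring,
    sum_add_distrib, ← mul_sum, ← mul_sum, sum_reps_eta_self S (-1) (neg_ne_zero.mpr one_ne_zero), sum_const,
    nsmul_eq_mul] at e'
  push_cast
  linear_combination e'

/-- The orbits meeting a shifted column are few. -/
theorem card_reps_mul_sq_le (hsq : ¬ p ^ 2 ∣ Nat.card G) {ζ : IrrCharacter G} (C : Col S ζ) {c s : ℤ}
    (hs : s = 1 ∨ s = -1) {a : ZMod p} (ha : a ≠ 0)
    (hval : ∀ j : ZMod p, j ≠ 0 → colVal S ζ C.φ j = (c : ℂ) + (s : ℂ) * eta S (a * j)) :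
    ((reps S).card : ℤ) * c ^ 2 ≤ (fusion p S.x).card + 2 * c * s := by
  classical
  obtain ⟨fam, hinj, -, -, cf⟩ := exists_conjugates hsq C hs ha hval
  have e := colVal_gram S C.inv (one_ne_zero (α := ZMod p)) 1
  have hone : ((fusion p S.x).filter fun u : ZMod p => u * 1 = 1) = {1} := by
    ext u
    simp only [mem_filter, mul_one, mem_singleton]
    exact ⟨fun h => h.2, fun h => ⟨h ▸ one_mem_fusion, h⟩⟩
  rw [hone, card_singleton, Nat.cast_one, mul_one] at e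
  have hre : ∑ χ : IrrCharacter G, Complex.normSq (colVal S χ C.φ 1) = (p : ℝ) := by
    apply Complex.ofReal_injective
    push_cast
    simp only [← Complex.mul_conj]
    exact e
  have hle : ∑ b ∈ reps S, Complex.normSq (colVal S (fam b) C.φ 1) ≤ (p : ℝ) := by
    rw [← hre, ← sum_image (f := fun χ => Complex.normSq (colVal S χ C.φ 1)) hinj]
    exact sum_le_sum_of_subset_of_nonneg (subset_univ _) fun _ _ _ => Complex.normSq_nonneg _
  have hsum : ((∑ b ∈ reps S, Complex.normSq (colVal S (fam b) C.φ 1) : ℝ) : ℂ) =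
      ((reps S).card : ℂ) * (c : ℂ) ^ 2 - 2 * c * s + ((p : ℂ) - (fusion p S.x).card) := by
    push_cast
    simp only [← Complex.mul_conj]
    rw [sum_congr rfl (g := fun b => (c : ℂ) ^ 2 + (c : ℂ) * s * eta S (b * 1) +
      (c : ℂ) * s * eta S (b * -1) + eta S (b * 1) * eta S (b * -1)) fun b hb => by
      rw [cf b hb 1 one_ne_zero, map_add, map_mul, map_intCast, map_intCast, conj_eta, mul_neg]
      rcases hs with rfl | rfl <;> push_cast <;> ring]
    simp only [sum_add_distrib, ← mul_sum, sum_reps_eta_self S 1 one_ne_zero,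
      sum_reps_eta_self S (-1) (neg_ne_zero.mpr one_ne_zero), sum_reps_eta_pair, sum_const, nsmul_eq_mul]
    have hfil : ((fusion p S.x).filter fun w : ZMod p => (1 : ZMod p) + -1 * w = 0) = {1} := by
      ext w
      simp only [mem_filter, mem_singleton]
      exact ⟨fun h => by linear_combination -h.2, fun h => ⟨h ▸ one_mem_fusion, by rw [h]; ring⟩⟩
    rw [hfil, card_singleton]
    ring
  have hsum' : ∑ b ∈ reps S, Complex.normSq (colVal S (fam b) C.φ 1) =
      ((reps S).card : ℝ) * (c : ℝ) ^ 2 - 2 * c * s + ((p : ℝ) - (fusion p S.x).card) := by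
    exact_mod_cast hsum
  rw [hsum'] at hle
  have : ((reps S).card : ℝ) * (c : ℝ) ^ 2 ≤ ((fusion p S.x).card : ℝ) + 2 * c * s := by linarith
  exact_mod_cast this

end Cfsg.Agent.Lib.SingleColumn
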