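/-
Structure constants of classes, weighted by a character of `V`, and the principal column.
-/
import Mathlib
import Cfsg.Agent.Lib.SingleColumn.Family
import Cfsg.Agent.Lib.DefectOne.LocalExists
import Cfsg.Agent.Lib.SmallFaithful.Main
import Cfsg.Agent.Lib.CharCount.Basic

set_option autoImplicit false
set_option linter.unusedSectionVars false
set_option linter.style.haveILetI false

namespace Cfsg.Agent.Lib.SingleColumn

open scoped ComplexConjugate
open Cfsg Cfsg.Agent.Lib Finset Subgroup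
open Cfsg.Agent.Lib.DefectOne
open Cfsg.Agent.Lib.SmallGroups.PrimeChar (xp fusion one_mem_fusion xp_one xp_zero)

variable {G : Type*} [Group G] [Fintype G]

/-- The structure constant of three classes, up to a positive rational factor. -/
noncomputable def triple (a b c : G) : ℂ :=
  ∑ χ : IrrCharacter G, (χ : G → ℂ) a * (χ : G → ℂ) b * conj ((χ : G → ℂ) c) / (χ : G → ℂ) 1

theorem exists_nat_triple (a b c : G) : ∃ N : ℕ, (Nat.card G : ℂ) * triple a b c = N := by
  classical
  refine ⟨∑ x : G, Nat.card (centralizer ({c} : Set G)) *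
    (if IsConj c (a * (x * b * x⁻¹)) then 1 else 0), ?_⟩
  have h : ∀ x : G, ∑ χ : IrrCharacter G, (χ : G → ℂ) (a * (x * b * x⁻¹)) * conj ((χ : G → ℂ) c) =
      ((Nat.card (centralizer ({c} : Set G)) *
        (if IsConj c (a * (x * b * x⁻¹)) then 1 else 0) : ℕ) : ℂ) := fun x => by
    rw [Chars.column_orthogonality_eq, Chars.classIndicator]
    split_ifs <;> simp
  rw [Nat.cast_sum, ← sum_congr rfl fun x _ => h x, sum_comm]
  simp only [← sum_mul, CharCount.sum_conj_mul, triple, mul_sum]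
  exact sum_congr rfl fun χ _ => by ring

/-- The real number underlying a structure constant. -/
noncomputable def tripleR (a b c : G) : ℝ :=
  ((exists_nat_triple a b c).choose : ℝ) / (Nat.card G : ℝ)

theorem tripleR_nonneg (a b c : G) : 0 ≤ tripleR a b c :=
  div_nonneg (Nat.cast_nonneg _) (Nat.cast_nonneg _)

theorem ofReal_tripleR (a b c : G) : (tripleR a b c : ℂ) = triple a b c := by
  have h := (exists_nat_triple a b c).choose_spec
  rw [tripleR, Complex.ofReal_div, Complex.ofReal_natCast, Complex.ofReal_natCast, ← h,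
    mul_div_cancel_left₀ _ Chars.natCard_ne_zero]

theorem gal_triple (σ : ℂ ≃+* ℂ) (a b c : G) : σ (triple a b c) = triple a b c := by
  have h := (exists_nat_triple a b c).choose_spec
  rw [← mul_div_cancel_left₀ (triple a b c) (Chars.natCard_ne_zero (G := G)), h, map_div₀, map_natCast,
    map_natCast]

variable {p : ℕ} [hp : Fact p.Prime] (S : Local p G)

noncomputable local instance instFintypeVCnt : Fintype S.V := Fintype.ofFinite _

theorem sum_mul_triple (φ : IrrCharacter S.V) (a b : G) (k : ZMod p) :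
    ∑ v : S.V, (φ : S.V → ℂ) v * triple a b (pt S (k, v)) =
      (Nat.card S.V : ℂ) * ∑ χ : IrrCharacter G,
        (χ : G → ℂ) a * (χ : G → ℂ) b * conj (colVal S χ φ k) / (χ : G → ℂ) 1 := by
  simp only [triple, mul_sum]
  rw [sum_comm]
  refine sum_congr rfl fun χ _ => ?_
  have e := congrArg conj (sum_pt_mul_conj S χ φ k)
  rw [map_sum, map_mul, Complex.conj_natCast] at e
  simp only [map_mul, Complex.conj_conj] at e
  calc ∑ v : S.V, (φ : S.V → ℂ) v *
      ((χ : G → ℂ) a * (χ : G → ℂ) b * conj ((χ : G → ℂ) (pt S (k, v))) / (χ : G → ℂ) 1)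
      = ((χ : G → ℂ) a * (χ : G → ℂ) b / (χ : G → ℂ) 1) *
          ∑ v : S.V, conj ((χ : G → ℂ) (pt S (k, v))) * (φ : S.V → ℂ) v := by
        rw [mul_sum]; exact sum_congr rfl fun v _ => by ring
    _ = _ := by rw [e]; ring

theorem invariant_trivial : Invariant S (Chars.trivialIrr S.V) := fun g hg =>
  Subtype.ext (funext fun v => by rw [conjIrr_apply S hg]; simp)

theorem colVal_trivial (χ : IrrCharacter G) (j : ZMod p) :
    colVal S χ (Chars.trivialIrr S.V) j = profile S χ j := by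
  have hV : (Nat.card S.V : ℂ) ≠ 0 := Nat.cast_ne_zero.mpr Nat.card_pos.ne'
  rw [profile, avgVal, finsum_eq_sum_of_fintype, eq_inv_mul_iff_mul_eq₀ hV, ← sum_pt_mul_conj]
  exact sum_congr rfl fun v _ => by simp [pt, Chars.trivialIrr]

variable {S}

/-- A character with a nonzero coefficient is a multiple of the column on each coset. -/
theorem apply_pt_of_ne_zero (hsq : ¬ p ^ 2 ∣ Nat.card G) {φ : IrrCharacter S.V} (hφ : Invariant S φ)
    (χ : IrrCharacter G) {j₀ : ZMod p} (hj₀ : j₀ ≠ 0) (h : colVal S χ φ j₀ ≠ 0) {j : ZMod p}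
    (hj : j ≠ 0) (v : S.V) :
    (χ : G → ℂ) (pt S (j, v)) = colVal S χ φ j * (φ : S.V → ℂ) v := by
  have hnd : ¬ p ∣ colSum S χ φ := fun hd =>
    h (colVal_eq_zero_of_const S χ (fun k => mN_eq_of_dvd S χ hd k) hj₀)
  rw [SingleColumn.apply_pt, sum_eq_single φ (fun ψ _ hψ => ?_) (by simp)]
  rw [colVal_eq_zero_of_notMem S hsq χ hnd (by rw [hφ.orbit_eq]; simpa using hψ) hj, zero_mul]

theorem apply_xp_of_profile (hsq : ¬ p ^ 2 ∣ Nat.card G) (χ : IrrCharacter G) {j₀ : ZMod p}
    (hj₀ : j₀ ≠ 0) (h : profile S χ j₀ ≠ 0) {j : ZMod p} (hj : j ≠ 0) :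
    (χ : G → ℂ) (xp p S.x j) = profile S χ j := by
  have e := apply_pt_of_ne_zero hsq (invariant_trivial S) χ hj₀ (by rwa [colVal_trivial]) hj 1
  rw [colVal_trivial] at e
  simpa [pt, Chars.trivialIrr] using e

/-- When the conjugates of `x` generate, a character not constant on `x` has large degree. -/
theorem le_two_mul_degree_of_ne (hsq : ¬ p ^ 2 ∣ Nat.card G)
    (hgen : Subgroup.normalClosure ({S.x} : Set G) = ⊤)
    (hu : ∃ u ∈ fusion p S.x, u ≠ 1) (χ : IrrCharacter G)
    (hne : (χ : G → ℂ) S.x ≠ (χ : G → ℂ) 1) : p ≤ 2 * degOf χ + 1 := by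
  by_contra hlt
  haveI := repOf_isIrreducible χ
  have hc := SmallFaithful.commute_of_small_irreducible S.order_x hsq hgen (d := degOf χ)
    (by omega) (repOf χ)
  obtain ⟨u, hu, hu1⟩ := hu
  obtain ⟨g, hg, he⟩ := exists_nrm S hu
  have hk : repOf χ (xp p S.x (u - 1)) = 1 := by
    have e1 : xp p S.x u = S.x * xp p S.x (u - 1) := by
      rw [show S.x * xp p S.x (u - 1) = xp p S.x 1 * xp p S.x (u - 1) by rw [xp_one],
        ← Cfsg.Agent.Lib.SmallGroups.PrimeChar.xp_add S.order_x]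
      simp
    have e2 : repOf χ (xp p S.x u) = repOf χ S.x := by
      rw [← he, ← expo_spec S hg, map_mul, map_mul, ← hc g, mul_assoc, ← map_mul, mul_inv_cancel,
        map_one, mul_one]
    rw [e1, map_mul] at e2
    calc repOf χ (xp p S.x (u - 1))
        = repOf χ S.x⁻¹ * (repOf χ S.x * repOf χ (xp p S.x (u - 1))) := by
          rw [← mul_assoc, ← map_mul (repOf χ) S.x⁻¹, inv_mul_cancel, map_one, one_mul]
      _ = 1 := by rw [e2, ← map_mul, inv_mul_cancel, map_one]
  have hu0 : u - 1 ≠ 0 := sub_ne_zero.mpr hu1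
  have hx1 : repOf χ S.x = 1 := by
    have e := Cfsg.Agent.Lib.SmallGroups.PrimeChar.xp_mul S.order_x (u - 1) (u - 1)⁻¹
    rw [mul_inv_cancel₀ hu0, xp_one] at e
    rw [e, map_pow, hk, one_pow]
  apply hne
  rw [← repOf_character χ, Representation.char_one, Representation.character, hx1, LinearMap.trace_one]

/-- When the conjugates of `x` generate, a character constant on `x` is trivial. -/
theorem eq_trivial_of_apply_eq (hgen : Subgroup.normalClosure ({S.x} : Set G) = ⊤)
    (χ : IrrCharacter G) (h : (χ : G → ℂ) S.x = (χ : G → ℂ) 1) : χ = Chars.trivialIrr G := by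
  obtain ⟨n, ρ, hρi, hρ⟩ := χ.2
  have hx : S.x ∈ MonoidHom.ker ρ := by
    rw [MonoidHom.mem_ker, Chars.rep_eq_one_iff, hρ]
    exact h
  have htop : (⊤ : Subgroup G) ≤ MonoidHom.ker ρ := by
    rw [← hgen]
    exact Subgroup.normalClosure_le_normal (Set.singleton_subset_iff.mpr hx)
  have hconst : ∀ g, (χ : G → ℂ) g = (n : ℂ) := fun g => by
    have hg : ρ g = 1 := MonoidHom.mem_ker.mp (htop (mem_top g))
    rw [← hρ, Representation.character, hg, LinearMap.trace_one, Module.finrank_fin_fun]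
  by_contra hne
  have h0 := Chars.classInner_irr_of_ne hne
  simp only [classInner, hconst] at h0
  simp only [Chars.trivialIrr, map_one, mul_one, sum_const, card_univ, nsmul_eq_mul, mul_eq_zero,
    inv_eq_zero, Nat.cast_eq_zero] at h0
  rcases h0 with h0 | h0 | h0
  · exact Nat.card_pos.ne' h0
  · exact Fintype.card_ne_zero h0
  · exact Chars.irr_apply_one_ne_zero χ (by rw [hconst 1, h0, Nat.cast_zero])

variable (S)

/-- The characters with a nonzero coefficient for the trivial character of `V`. -/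
structure Princ where
  A : Finset (IrrCharacter G)
  B : Finset (IrrCharacter G)
  δ : IrrCharacter G → ℤ
  ε : ℤ
  e : ZMod p → IrrCharacter G
  unit : ε = 1 ∨ ε = -1
  disj : Disjoint A B
  cardA : A.card = (fusion p S.x).card
  triv : Chars.trivialIrr G ∈ A
  δ_triv : δ (Chars.trivialIrr G) = 1
  signA : ∀ χ ∈ A, δ χ = 1 ∨ δ χ = -1
  mem_e : ∀ b ∈ reps S, e b ∈ B
  e_inj : Set.InjOn e (reps S : Set (ZMod p))
  e_surj : ∀ θ ∈ B, ∃ b ∈ reps S, e b = θ
  valA : ∀ χ ∈ A, ∀ j : ZMod p, j ≠ 0 → (χ : G → ℂ) (xp p S.x j) = (δ χ : ℂ) ∧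
    colVal S χ (Chars.trivialIrr S.V) j = (δ χ : ℂ)
  valB : ∀ b ∈ reps S, ∀ j : ZMod p, j ≠ 0 →
    (e b : G → ℂ) (xp p S.x j) = (ε : ℂ) * eta S (b * j) ∧
    colVal S (e b) (Chars.trivialIrr S.V) j = (ε : ℂ) * eta S (b * j)
  valO : ∀ χ : IrrCharacter G, χ ∉ A → χ ∉ B → ∀ j : ZMod p, j ≠ 0 →
    colVal S χ (Chars.trivialIrr S.V) j = 0
  regular : ∀ b ∈ reps S, ∀ g : G, ¬ p ∣ orderOf g →
    (ε : ℂ) * (e b : G → ℂ) g = ∑ χ ∈ A, (δ χ : ℂ) * (χ : G → ℂ) g

theorem Princ.sum_eq {S : Local p G} (Q : Princ S) {R : Type*} [AddCommMonoid R]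
    (h : IrrCharacter G → R) (h0 : ∀ χ, χ ∉ Q.A → χ ∉ Q.B → h χ = 0) :
    ∑ χ, h χ = ∑ χ ∈ Q.A, h χ + ∑ b ∈ reps S, h (Q.e b) := by
  classical
  rw [← sum_subset (subset_univ (Q.A ∪ Q.B)) fun χ _ hχ => by
    simp only [mem_union, not_or] at hχ; exact h0 χ hχ.1 hχ.2, sum_union Q.disj]
  congr 1
  rw [← sum_image Q.e_inj]
  refine sum_congr (Finset.ext fun θ => ?_) fun _ _ => rfl
  simp only [mem_image]
  exact ⟨fun h => Q.e_surj θ h, fun ⟨b, hb, e⟩ => e ▸ Q.mem_e b hb⟩

/-- The principal column, when the automizer is proper. -/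
theorem nonempty_princ (hsq : ¬ p ^ 2 ∣ Nat.card G) (hfp : (fusion p S.x).card + 1 < p) :
    Nonempty (Princ S) := by
  classical
  have hidx := not_dvd_index_centralizer S.order_x hsq
  obtain ⟨A, B, δ, ε, a, hdisj, hAc, hBc, hε, hA, hB, hO, hrel⟩ :=
    exists_structure S hidx (card_reps S)
  let P : Prof S := ⟨A, B, δ, ε, a, hdisj, hAc, hε, hA, hB, hO⟩
  have heta : ∀ θ ∈ B, ∀ j : ZMod p, j ≠ 0 → profile S θ j = (ε : ℂ) * eta S (a θ * j) := by
    intro θ hθ j hj
    rw [(hB θ hθ).2 j hj]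
    exact congrArg _ (sum_congr rfl fun u _ => congrArg _ (by ring))
  have hB0 : ∀ θ ∈ B, ∃ j, j ≠ 0 ∧ profile S θ j ≠ 0 := by
    intro θ hθ
    by_contra! hz
    obtain ⟨b₀, hb₀, u, hu, he⟩ := exists_rep S (hB θ hθ).1
    have hz' : ∀ j : ZMod p, j ≠ 0 → ∑ b ∈ reps S, (if b = b₀ then (1 : ℂ) else 0) * eta S (b * j) = 0 := by
      intro j hj
      simp only [ite_mul, one_mul, zero_mul, sum_ite_eq', hb₀, if_true]
      have e := hz j hj
      rw [heta θ hθ j hj, ← he, show b₀ * u * j = b₀ * j * u by ring, eta_mul_fusion S _ hu] at e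
      rcases hε with h | h <;> simpa [h] using e
    simpa using coeff_eq_of_sum_eta S _ 0 hz' hb₀
  have htriv : Chars.trivialIrr G ∈ A := by
    have hp1 : profile S (Chars.trivialIrr G) 1 = 1 := by
      simp [profile, avgVal, finsum_eq_sum_of_fintype, Nat.card_eq_fintype_card, Chars.trivialIrr]
    by_contra h
    by_cases hB' : Chars.trivialIrr G ∈ B
    · have hall : ∀ j : ZMod p, j ≠ 0 → (ε : ℂ) * eta S (a (Chars.trivialIrr G) * j) = 1 := fun j hj => by
        rw [← heta _ hB' j hj]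
        simp [profile, avgVal, finsum_eq_sum_of_fintype, Nat.card_eq_fintype_card, Chars.trivialIrr]
      have e : ∑ j ∈ univ.erase (0 : ZMod p), (ε : ℂ) * eta S (a (Chars.trivialIrr G) * j) =
          ∑ _j ∈ univ.erase (0 : ZMod p), (1 : ℂ) := sum_congr rfl fun j hj => hall j (ne_of_mem_erase hj)
      rw [← mul_sum, sum_const, card_erase_of_mem (mem_univ _), card_univ, ZMod.card, nsmul_eq_mul,
        mul_one] at e
      simp only [eta] at e
      rw [sum_comm, sum_congr rfl (g := fun _ => (-1 : ℂ)) fun u hu => by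
        rw [sum_congr rfl (g := fun j : ZMod p => (ZMod.stdAddChar (j * (a (Chars.trivialIrr G) * u)) : ℂ))
          fun j _ => congrArg _ (by ring), sum_erase_eq_sub (mem_univ _), zero_mul,
          AddChar.map_zero_eq_one, AddChar.sum_mulShift _ (ZMod.isPrimitive_stdAddChar p),
          if_neg (mul_ne_zero (hB _ hB').1 (fusion_ne_zero S hu)), Nat.cast_zero, zero_sub],
        sum_const, nsmul_eq_mul] at e
      have hp2 := hp.out.two_le
      rcases hε with he | he <;> rw [he] at e <;> push_cast at e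
      · have : (((fusion p S.x).card + (p - 1) : ℕ) : ℂ) = ((0 : ℕ) : ℂ) := by
          push_cast; linear_combination -e
        have := Nat.cast_injective this
        omega
      · have : ((fusion p S.x).card : ℂ) = ((p - 1 : ℕ) : ℂ) := by linear_combination e
        have := Nat.cast_injective this
        omega
    · exact one_ne_zero (hp1.symm.trans (hO _ h hB' 1 one_ne_zero))
  have hδtriv : δ (Chars.trivialIrr G) = 1 := by
    have e := (hA _ htriv).2 1 one_ne_zero
    rw [show profile S (Chars.trivialIrr G) 1 = 1 by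
      simp [profile, avgVal, finsum_eq_sum_of_fintype, Nat.card_eq_fintype_card, Chars.trivialIrr]] at e
    exact_mod_cast e.symm
  let e : ZMod p → IrrCharacter G := fun b =>
    if h : b ≠ 0 then (P.existsUnique_B h).choose else Chars.trivialIrr G
  have he : ∀ b ∈ reps S, e b ∈ B ∧ ∃ u ∈ fusion p S.x, a (e b) * u = b := fun b hb => by
    simp only [e, dif_pos (reps_ne_zero S hb)]
    exact (P.existsUnique_B (reps_ne_zero S hb)).choose_spec.1
  have heval : ∀ b ∈ reps S, ∀ j : ZMod p, j ≠ 0 → profile S (e b) j = (ε : ℂ) * eta S (b * j) := by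
    intro b hb j hj
    obtain ⟨hm, u, hu, hau⟩ := he b hb
    rw [heta _ hm j hj]
    congr 1
    rw [show b * j = a (e b) * j * u by rw [mul_right_comm, hau], eta_mul_fusion S _ hu]
  refine ⟨⟨A, B, δ, ε, e, hε, hdisj, hAc, htriv, hδtriv, fun χ hχ => (hA χ hχ).1,
    fun b hb => (he b hb).1, ?_, ?_, ?_, ?_, ?_, ?_⟩⟩
  · intro b₁ h₁ b₂ h₂ heq
    obtain ⟨-, u₁, hu₁, e₁⟩ := he b₁ h₁
    obtain ⟨-, u₂, hu₂, e₂⟩ := he b₂ h₂
    refine (rep_unique S h₁ h₂ hu₂ hu₁ ?_).1
    rw [← e₁, ← e₂, heq]; ring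
  · intro θ hθ
    obtain ⟨b, hb, u, hu, hbu⟩ := exists_rep S (hB θ hθ).1
    refine ⟨b, hb, ?_⟩
    simp only [e, dif_pos (reps_ne_zero S hb)]
    refine ((P.existsUnique_B (reps_ne_zero S hb)).choose_spec.2 θ ⟨hθ, u⁻¹,
      Cfsg.Agent.Lib.SmallGroups.PrimeChar.inv_mem_fusion S.order_x hu, ?_⟩).symm
    show a θ * u⁻¹ = b
    rw [← hbu, mul_inv_cancel_right₀ (fusion_ne_zero S hu)]
  · intro χ hχ j hj
    have h := (hA χ hχ).2 j hj
    refine ⟨?_, by rw [colVal_trivial, h]⟩
    rw [apply_xp_of_profile hsq χ hj (by rw [h]; rcases (hA χ hχ).1 with e | e <;> simp [e]) hj, h]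
  · intro b hb j hj
    refine ⟨?_, by rw [colVal_trivial, heval b hb j hj]⟩
    obtain ⟨j₀, hj₀, hne⟩ := hB0 (e b) (he b hb).1
    rw [apply_xp_of_profile hsq _ hj₀ hne hj, heval b hb j hj]
  · intro χ h1 h2 j hj
    rw [colVal_trivial, hO χ h1 h2 j hj]
  · intro b hb g hg
    exact hrel _ (he b hb).1 g hg

end Cfsg.Agent.Lib.SingleColumn
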