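/-
The column with a nontrivial degree on `V` cannot occur when the conjugates of `x` generate.
-/
import Mathlib
import Cfsg.Agent.Lib.SingleColumn.Counting

set_option autoImplicit false
set_option linter.unusedSectionVars false
set_option linter.style.haveILetI false

namespace Cfsg.Agent.Lib.SingleColumn

open scoped ComplexConjugate
open Cfsg Cfsg.Agent.Lib Finset Subgroup
open Cfsg.Agent.Lib.DefectOne
open Cfsg.Agent.Lib.SmallGroups.PrimeChar (xp fusion one_mem_fusion mul_mem_fusion inv_mem_fusion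
  ne_zero_of_mem_fusion xp_one xp_zero)

variable {G : Type*} [Group G] [Fintype G] {p : ℕ} [hp : Fact p.Prime] {S : Local p G}

noncomputable local instance instFintypeVLarge : Fintype S.V := Fintype.ofFinite _

/-- An automizer of even order contains the inversion. -/
theorem neg_one_mem_fusion (h : Even (fusion p S.x).card) : (-1 : ZMod p) ∈ fusion p S.x := by
  classical
  let E : Subgroup (ZMod p)ˣ :=
    { carrier := {u | (u : ZMod p) ∈ fusion p S.x}
      one_mem' := by simpa using one_mem_fusion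
      mul_mem' := fun hu hv => by
        simpa using mul_mem_fusion S.order_x hu hv
      inv_mem' := fun {u} hu => by
        show ((u⁻¹ : (ZMod p)ˣ) : ZMod p) ∈ fusion p S.x
        rw [Units.val_inv_eq_inv_val]
        exact inv_mem_fusion S.order_x hu }
  have hE : Nat.card E = (fusion p S.x).card := by
    rw [← Nat.card_eq_finsetCard]
    exact Nat.card_congr
      { toFun := fun u => ⟨((u : (ZMod p)ˣ) : ZMod p), u.2⟩
        invFun := fun u => ⟨Units.mk0 u.1 (ne_zero_of_mem_fusion S.order_x u.2), u.2⟩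
        left_inv := fun u => Subtype.ext (Units.ext rfl)
        right_inv := fun u => rfl }
  haveI : Fact (Nat.Prime 2) := ⟨Nat.prime_two⟩
  obtain ⟨u, hu⟩ := exists_prime_orderOf_dvd_card' (G := E) 2 (hE ▸ h.two_dvd)
  have h2 : ((u : (ZMod p)ˣ) : ZMod p) ^ 2 = 1 := by
    have := pow_orderOf_eq_one u
    rw [hu] at this
    simpa using congrArg (fun a : E => ((a : (ZMod p)ˣ) : ZMod p)) this
  rcases sq_eq_one_iff.mp h2 with e | e
  · have h1 : u = 1 := Subtype.ext (Units.ext (by simpa using e))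
    rw [h1, orderOf_one] at hu
    norm_num at hu
  · exact e ▸ u.2

theorem Col.norm_le {ζ : IrrCharacter G} (C : Col S ζ) (v : S.V) :
    ‖(C.φ : S.V → ℂ) v‖ ≤ (C.d : ℝ) := by
  have h := norm_irr_le C.φ v
  have e : charDegree (C.φ : S.V → ℂ) = C.d := by
    rw [charDegree, C.hd, Complex.natCast_re, Nat.floor_natCast]
  rwa [e] at h

theorem inv_le_two_div {n : ℕ} (h : p ≤ 2 * n + 1) : (1 : ℝ) / n ≤ 2 / ((p : ℝ) - 1) := by
  have hp2 := hp.out.two_le
  have hn : (0 : ℝ) < n := by exact_mod_cast (by omega : 0 < n)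
  have hp1 : (0 : ℝ) < (p : ℝ) - 1 := by
    have : (2 : ℝ) ≤ p := by exact_mod_cast hp2
    linarith
  rw [div_le_div_iff₀ hn hp1]
  have : (p : ℝ) ≤ 2 * n + 1 := by exact_mod_cast h
  linarith

/-- The large column is impossible. -/
theorem false_of_large (hsq : ¬ p ^ 2 ∣ Nat.card G) (hp5 : 5 < p)
    (hgen : Subgroup.normalClosure ({S.x} : Set G) = ⊤) {ζ : IrrCharacter G}
    (hdeg : (ζ : G → ℂ) 1 = ((p - 2 : ℕ) : ℂ)) (C : Col S ζ) (hd : 3 ≤ C.d) {m₀ : ℕ} {a : ZMod p}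
    (hm₀ : 1 ≤ m₀) (ha : a ≠ 0) (hsd : C.d * (m₀ + (fusion p S.x).card) = p - 2)
    (hval : ∀ j, colVal S ζ C.φ j = (m₀ : ℂ) + eta S (a * j)) : False := by
  classical
  set f := (fusion p S.x).card with hf
  set t := (reps S).card with ht
  have hft : f * t = p - 1 := card_reps S
  have hbound := card_reps_mul_sq_le hsq C (c := (m₀ : ℤ)) (Or.inl rfl : (1 : ℤ) = 1 ∨ _) ha
    (fun j _ => by rw [hval]; push_cast; ring)
  -- the arithmetic
  obtain ⟨rfl, htf, hdf⟩ : m₀ = 1 ∧ t = f ∧ C.d + 1 = f := by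
    have hb : t * m₀ ^ 2 ≤ f + 2 * m₀ := by
      have hb' : (t : ℤ) * (m₀ : ℤ) ^ 2 ≤ (f : ℤ) + 2 * (m₀ : ℤ) := by linarith
      exact_mod_cast hb'
    have hlt : C.d < t := by
      by_contra hh
      have h1 := Nat.mul_le_mul_right (m₀ + f) (not_lt.mp hh)
      rw [hsd, Nat.mul_add, mul_comm t f, hft] at h1
      omega
    obtain ⟨j, hj⟩ := Nat.exists_eq_add_of_lt hlt
    have key : m₀ * t + 1 = (j + 1) * (m₀ + f) := by
      have e1 : t * (m₀ + f) = m₀ * t + f * t := by ring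
      have e2 : t * (m₀ + f) = C.d * (m₀ + f) + (j + 1) * (m₀ + f) := by rw [hj]; ring
      omega
    have h3 : m₀ * ((j + 1) * (m₀ + f)) ≤ f + 3 * m₀ := by
      rw [← key]; nlinarith
    have hm3 : m₀ ≤ 2 := by
      by_contra hh
      have h4 : 3 * (1 * (3 + f)) ≤ m₀ * ((j + 1) * (m₀ + f)) :=
        Nat.mul_le_mul (by omega) (Nat.mul_le_mul (by omega) (by omega))
      nlinarith
    rcases (by omega : m₀ = 1 ∨ m₀ = 2) with rfl | rfl
    · have hj0 : j = 0 := by
        by_contra hh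
        have h4 : 2 * (1 + f) ≤ (j + 1) * (1 + f) := Nat.mul_le_mul_right _ (by omega)
        have hf1 : f ≤ 1 := by omega
        rcases (by omega : f = 0 ∨ f = 1) with hf0 | hf0 <;> rw [hf0] at hft h3 key <;> omega
      subst hj0
      exact ⟨rfl, by omega, by omega⟩
    · exfalso
      have h4 : 1 * (2 + f) ≤ (j + 1) * (2 + f) := Nat.mul_le_mul_right _ (by omega)
      have hf2 : f ≤ 2 := by omega
      rcases (by omega : f = 0 ∨ f = 1 ∨ f = 2) with hf0 | hf0 | hf0 <;>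
        rw [hf0] at hft h3 key <;> omega
  have hp1 : p = f * f + 1 := by
    rw [htf] at hft; have := hp.out.two_le; omega
  have hfeven : Even f := by
    rcases Nat.even_or_odd f with h | h
    · exact h
    · have : Even p := hp1 ▸ (h.mul h).add_one
      rw [hp.out.even_iff] at this
      omega
  have hf4 : 4 ≤ f := by
    obtain ⟨k, hk⟩ := hfeven
    by_contra hh
    rcases (by omega : f = 0 ∨ f = 2) with h | h <;> rw [h] at hp1 <;> omega
  have hneg := neg_one_mem_fusion (S := S) hfeven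
  have hu : ∃ u ∈ fusion p S.x, u ≠ 1 := ⟨-1, hneg, fun h => by
    haveI : Fact (2 < p) := ⟨by omega⟩
    exact ZMod.neg_one_ne_one h⟩
  have hfp : f + 1 < p := by rw [hp1]; nlinarith
  obtain ⟨F⟩ := exists_family hsq C (c := 1) (s := 1) (Or.inl rfl) ha
    (fun j _ => by rw [hval]; push_cast; ring) (by rw [← hf, ← ht, htf]; ring)
  obtain ⟨Q⟩ := nonempty_princ S hsq hfp
  have hbig : ∀ χ : IrrCharacter G, χ ≠ Chars.trivialIrr G → p ≤ 2 * degOf χ + 1 := fun χ hχ =>
    le_two_mul_degree_of_ne hsq hgen hu χ fun h => hχ (eq_trivial_of_apply_eq hgen χ h)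
  have hx1 : xp p S.x (1 : ZMod p) = S.x := xp_one
  -- the character-weighted count
  set N : ℕ := ((fusion p S.x ×ˢ fusion p S.x).filter fun w => (1 : ZMod p) + 1 * w.1 + 1 * w.2 = 0).card
    with hN
  have hcube : ∑ b ∈ reps S, (1 + eta S b) ^ 3 = (2 : ℂ) * p - 2 * f - 2 + p * N := by
    have e1 : ∑ b ∈ reps S, eta S b = -1 := by simpa using sum_reps_eta_self S 1 one_ne_zero
    have e2 : ∑ b ∈ reps S, eta S b * eta S b = (p : ℂ) - f := by
      have := sum_reps_eta_pair S 1 1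
      simp only [mul_one] at this
      rw [this, show ((fusion p S.x).filter fun w : ZMod p => (1 : ZMod p) + 1 * w = 0) = {-1} by
        ext w
        simp only [mem_filter, mem_singleton, one_mul]
        exact ⟨fun h => by linear_combination h.2, fun h => ⟨h ▸ hneg, by rw [h]; ring⟩⟩,
        card_singleton, Nat.cast_one, mul_one]
    have e3 : ∑ b ∈ reps S, eta S b * eta S b * eta S b = (p : ℂ) * N - (f : ℂ) ^ 2 := by
      have := sum_reps_eta_triple S 1 1 1
      simp only [mul_one] at this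
      exact this
    have hpf : (p : ℂ) = (f : ℂ) * f + 1 := by rw [hp1]; push_cast; ring
    rw [sum_congr rfl (g := fun b => 1 + 3 * eta S b + 3 * (eta S b * eta S b) +
      eta S b * eta S b * eta S b) fun b _ => by ring]
    simp only [sum_add_distrib, ← mul_sum, e1, e2, e3, sum_const, nsmul_eq_mul, mul_one, ← ht, htf]
    linear_combination hpf
  have hψne : ∀ ψ : IrrCharacter G, ∀ δ : ℤ,
      (∀ j : ZMod p, j ≠ 0 → ∀ v : S.V, (ψ : G → ℂ) (pt S (j, v)) = (δ : ℂ) * (C.φ : S.V → ℂ) v) →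
      (δ = 1 ∨ δ = -1) → ψ ≠ Chars.trivialIrr G := by
    intro ψ δ hv hδ h
    have e := hv 1 one_ne_zero 1
    rw [h, C.hd] at e
    simp only [Chars.trivialIrr] at e
    rcases hδ with rfl | rfl <;> push_cast at e
    · rw [one_mul, eq_comm, Nat.cast_eq_one] at e
      omega
    · have : ((C.d + 1 : ℕ) : ℂ) = ((0 : ℕ) : ℂ) := by push_cast; linear_combination e
      have := Nat.cast_injective this
      omega
  have hval₁ : ∀ ψ : IrrCharacter G, ∀ δ : ℤ,
      (∀ j : ZMod p, j ≠ 0 → ∀ v : S.V, (ψ : G → ℂ) (pt S (j, v)) = (δ : ℂ) * (C.φ : S.V → ℂ) v) →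
      (ψ : G → ℂ) S.x = (δ : ℂ) * C.d := fun ψ δ hv => by
    have e := hv 1 one_ne_zero 1
    rw [C.hd] at e
    simpa [pt, hx1] using e
  set R₁ : ℝ := (1 : ℝ) * F.δ₁ / degOf F.ψ₁ + (1 : ℝ) * F.δ₂ / degOf F.ψ₂
  set X : ℝ := (C.d : ℝ) ^ 2 * (((2 : ℝ) * p - 2 * f - 2 + p * N) / ((p : ℝ) - 2) + R₁) with hX
  have hL : ∑ χ : IrrCharacter G, (χ : G → ℂ) S.x * (χ : G → ℂ) S.x *
      conj (colVal S χ C.φ (-1)) / (χ : G → ℂ) 1 = (X : ℂ) := by
    rw [F.sum_eq _ fun χ h1 h2 h3 => by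
      rw [F.vanish χ h1 h2 h3 (-1) (neg_ne_zero.mpr one_ne_zero)]; simp]
    have hterm : ∀ b ∈ reps S, (F.fam b : G → ℂ) S.x * (F.fam b : G → ℂ) S.x *
        conj (colVal S (F.fam b) C.φ (-1)) / (F.fam b : G → ℂ) 1 =
        (C.d : ℂ) ^ 2 * (1 + eta S b) ^ 3 / ((p : ℂ) - 2) := by
      intro b hb
      have e1 := F.val_fam b hb 1 one_ne_zero 1
      rw [C.hd, mul_one] at e1
      simp only [pt, hx1, OneMemClass.coe_one, mul_one] at e1
      rw [e1, F.col_fam b hb (-1) (neg_ne_zero.mpr one_ne_zero),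
        F.reg_fam b hb 1 (by rw [orderOf_one]; exact hp.out.not_dvd_one), hdeg,
        Nat.cast_sub (by omega : 2 ≤ p)]
      push_cast
      simp only [one_mul, map_add, map_one, conj_eta, mul_neg, neg_neg, mul_one]
      ring
    rw [sum_congr rfl hterm, hval₁ _ _ F.val₁, hval₁ _ _ F.val₂,
      F.col₁ (-1) (neg_ne_zero.mpr one_ne_zero), F.col₂ (-1) (neg_ne_zero.mpr one_ne_zero),
      map_intCast, map_intCast, apply_one_eq_degOf, apply_one_eq_degOf, ← sum_div, ← mul_sum, hcube,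
      hX]
    simp only [R₁]
    push_cast
    rcases F.unit₁ with h₁ | h₁ <;> rcases F.unit₂ with h₂ | h₂ <;> rw [h₁, h₂] <;> push_cast <;> ring
  set b₁ := Q.e with hb₁
  obtain ⟨b₀, hb₀⟩ : (reps S).Nonempty := card_pos.mp (by omega)
  have hydeg : ∀ b ∈ reps S, degOf (Q.e b) = degOf (Q.e b₀) := by
    intro b hb
    have e1 := Q.regular b hb 1 (by rw [orderOf_one]; exact hp.out.not_dvd_one)
    rw [← Q.regular b₀ hb₀ 1 (by rw [orderOf_one]; exact hp.out.not_dvd_one)] at e1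
    rw [apply_one_eq_degOf, apply_one_eq_degOf] at e1
    rcases Q.unit with h | h <;> rw [h] at e1 <;> push_cast at e1
    · exact Nat.cast_injective (R := ℂ) (by linear_combination e1)
    · exact Nat.cast_injective (R := ℂ) (by linear_combination -e1)
  set Y : ℝ := ∑ χ ∈ Q.A, (Q.δ χ : ℝ) / degOf χ +
    (Q.ε : ℝ) * ((p : ℝ) * N - (f : ℝ) ^ 2) / degOf (Q.e b₀) with hY
  have hR : ∑ χ : IrrCharacter G, (χ : G → ℂ) S.x * (χ : G → ℂ) S.x *
      conj (colVal S χ (Chars.trivialIrr S.V) (-1)) / (χ : G → ℂ) 1 = (Y : ℂ) := by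
    have hne : (-1 : ZMod p) ≠ 0 := neg_ne_zero.mpr one_ne_zero
    rw [Q.sum_eq _ fun χ h1 h2 => by rw [Q.valO χ h1 h2 _ hne]; simp]
    rw [hY, Complex.ofReal_add, Complex.ofReal_sum]
    congr 1
    · refine sum_congr rfl fun χ hχ => ?_
      have e1 := (Q.valA χ hχ 1 one_ne_zero).1
      rw [hx1] at e1
      rw [e1, (Q.valA χ hχ _ hne).2, map_intCast, apply_one_eq_degOf]
      push_cast
      rcases Q.signA χ hχ with h | h <;> rw [h] <;> push_cast <;> ring
    · have hterm : ∀ b ∈ reps S, (Q.e b : G → ℂ) S.x * (Q.e b : G → ℂ) S.x *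
          conj (colVal S (Q.e b) (Chars.trivialIrr S.V) (-1)) / (Q.e b : G → ℂ) 1 =
          (Q.ε : ℂ) * (eta S b * eta S b * eta S b) / (degOf (Q.e b₀) : ℂ) := by
        intro b hb
        have e1 := (Q.valB b hb 1 one_ne_zero).1
        rw [hx1] at e1
        rw [e1, (Q.valB b hb _ hne).2, map_mul, map_intCast, conj_eta, apply_one_eq_degOf, hydeg b hb,
          mul_neg, mul_one, neg_neg]
        rcases Q.unit with h | h <;> rw [h] <;> push_cast <;> ring
      have e3 : ∑ b ∈ reps S, eta S b * eta S b * eta S b = (p : ℂ) * N - (f : ℂ) ^ 2 := by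
        have := sum_reps_eta_triple S 1 1 1
        simp only [mul_one] at this
        exact this
      rw [sum_congr rfl hterm, ← sum_div, ← mul_sum, e3]
      push_cast
      ring
  -- positivity
  let T : S.V → ℝ := fun v => tripleR S.x S.x (pt S (-1, v))
  have hTφ : (∑ v : S.V, (C.φ : S.V → ℂ) v * (T v : ℂ)) = (Nat.card S.V : ℂ) * (X : ℂ) := by
    simp only [T, ofReal_tripleR]
    rw [sum_mul_triple, hL]
  have hT1 : ∑ v : S.V, T v = (Nat.card S.V : ℝ) * Y := by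
    apply Complex.ofReal_injective
    push_cast
    rw [← hR, ← sum_mul_triple]
    simp only [T, ofReal_tripleR]
    exact sum_congr rfl fun v _ => by simp [Chars.trivialIrr]
  have hmain : X ≤ (C.d : ℝ) * Y := by
    have h1 : ‖∑ v : S.V, (C.φ : S.V → ℂ) v * (T v : ℂ)‖ ≤ ∑ v : S.V, (C.d : ℝ) * T v := by
      refine (norm_sum_le _ _).trans (sum_le_sum fun v _ => ?_)
      rw [norm_mul, Complex.norm_real, Real.norm_of_nonneg (tripleR_nonneg _ _ _)]
      exact mul_le_mul_of_nonneg_right (C.norm_le v) (tripleR_nonneg _ _ _)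
    rw [hTφ, ← mul_sum, hT1, norm_mul, Complex.norm_natCast, Complex.norm_real, Real.norm_eq_abs] at h1
    have hV : (0 : ℝ) < Nat.card S.V := by exact_mod_cast Nat.card_pos
    have : |X| ≤ (C.d : ℝ) * Y := le_of_mul_le_mul_left (by linarith) hV
    exact (le_abs_self X).trans this
  -- the bounds
  have hpR : (p : ℝ) = (f : ℝ) * f + 1 := by rw [hp1]; push_cast; ring
  have hfR : (4 : ℝ) ≤ f := by exact_mod_cast hf4
  have hdR : (C.d : ℝ) = (f : ℝ) - 1 := by
    have : (C.d : ℝ) + 1 = f := by exact_mod_cast hdf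
    linarith
  have hR₁ : -(4 / ((p : ℝ) - 1)) ≤ R₁ := by
    have h₁ := inv_le_two_div (hbig _ (hψne _ _ F.val₁ F.unit₁))
    have h₂ := inv_le_two_div (hbig _ (hψne _ _ F.val₂ F.unit₂))
    have n₁ : 0 ≤ (1 : ℝ) / degOf F.ψ₁ := by positivity
    have n₂ : 0 ≤ (1 : ℝ) / degOf F.ψ₂ := by positivity
    have h4 : (4 : ℝ) / ((p : ℝ) - 1) = 2 * (2 / ((p : ℝ) - 1)) := by ring
    simp only [R₁]
    rcases F.unit₁ with u₁ | u₁ <;> rcases F.unit₂ with u₂ | u₂ <;>
      rw [u₁, u₂] <;> push_cast <;> ring_nf at n₁ n₂ h₁ h₂ h4 ⊢ <;> linarith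
  have hY' : Y ≤ 1 + (((f : ℝ) - 1) + (p * N + (f : ℝ) ^ 2)) * (2 / ((p : ℝ) - 1)) := by
    have hA : ∑ χ ∈ Q.A, (Q.δ χ : ℝ) / degOf χ ≤ 1 + ((f : ℝ) - 1) * (2 / ((p : ℝ) - 1)) := by
      rw [← add_sum_erase Q.A _ Q.triv, Q.δ_triv]
      have h1 : degOf (Chars.trivialIrr G) = 1 := by
        have := apply_one_eq_degOf (Chars.trivialIrr G)
        simp only [Chars.trivialIrr] at this
        exact Nat.cast_injective (R := ℂ) (by rw [← Chars.trivialIrr] at *; simpa using this.symm)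
      rw [h1, Int.cast_one, Nat.cast_one, div_one]
      refine add_le_add le_rfl ?_
      calc ∑ χ ∈ Q.A.erase (Chars.trivialIrr G), (Q.δ χ : ℝ) / degOf χ
          ≤ ∑ _χ ∈ Q.A.erase (Chars.trivialIrr G), 2 / ((p : ℝ) - 1) := sum_le_sum fun χ hχ => by
            have h := inv_le_two_div (hbig χ (ne_of_mem_erase hχ))
            have hn : 0 ≤ (1 : ℝ) / degOf χ := by positivity
            rcases Q.signA χ (mem_of_mem_erase hχ) with e | e <;>
              rw [e] <;> push_cast <;> ring_nf at h hn ⊢ <;> linarith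
        _ = _ := by
            rw [sum_const, card_erase_of_mem Q.triv, Q.cardA, nsmul_eq_mul, ← hf,
              Nat.cast_sub (by omega : 1 ≤ f), Nat.cast_one]
    have hne : Q.e b₀ ≠ Chars.trivialIrr G := fun h =>
      (Finset.disjoint_left.mp Q.disj Q.triv) (h ▸ Q.mem_e b₀ hb₀)
    have hy := inv_le_two_div (hbig _ hne)
    have hB : (Q.ε : ℝ) * ((p : ℝ) * N - (f : ℝ) ^ 2) / degOf (Q.e b₀) ≤
        ((p : ℝ) * N + (f : ℝ) ^ 2) * (2 / ((p : ℝ) - 1)) := by
      have hn : 0 ≤ (1 : ℝ) / degOf (Q.e b₀) := by positivity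
      have habs : (Q.ε : ℝ) * ((p : ℝ) * N - (f : ℝ) ^ 2) ≤ (p : ℝ) * N + (f : ℝ) ^ 2 := by
        have : 0 ≤ (p : ℝ) * N := mul_nonneg (Nat.cast_nonneg _) (Nat.cast_nonneg _)
        have : 0 ≤ (f : ℝ) ^ 2 := sq_nonneg _
        rcases Q.unit with e | e <;> rw [e] <;> push_cast <;> linarith
      calc (Q.ε : ℝ) * ((p : ℝ) * N - (f : ℝ) ^ 2) / degOf (Q.e b₀)
          = ((Q.ε : ℝ) * ((p : ℝ) * N - (f : ℝ) ^ 2)) * (1 / degOf (Q.e b₀)) := by ring
        _ ≤ ((p : ℝ) * N + (f : ℝ) ^ 2) * (1 / degOf (Q.e b₀)) := mul_le_mul_of_nonneg_right habs hn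
        _ ≤ _ := mul_le_mul_of_nonneg_left hy
            (add_nonneg (mul_nonneg (Nat.cast_nonneg _) (Nat.cast_nonneg _)) (sq_nonneg _))
    rw [hY]
    linarith
  have hN0 : (0 : ℝ) ≤ N := Nat.cast_nonneg _
  have hp2R : (0 : ℝ) < (p : ℝ) - 2 := by rw [hpR]; nlinarith
  set W : ℝ := (2 : ℝ) * p - 2 * f - 2 + p * N
  have hW0 : 0 ≤ W := by simp only [W]; rw [hpR]; nlinarith
  have hW : W / ((f : ℝ) * f) ≤ W / ((p : ℝ) - 2) :=
    div_le_div_of_nonneg_left hW0 hp2R (by rw [hpR]; linarith)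
  have hd0 : (0 : ℝ) ≤ C.d := Nat.cast_nonneg _
  have hfin : (C.d : ℝ) ^ 2 * (W / ((f : ℝ) * f) - 4 / ((f : ℝ) * f)) ≤
      (C.d : ℝ) * (1 + (((f : ℝ) - 1) + (p * N + (f : ℝ) ^ 2)) * (2 / ((f : ℝ) * f))) := by
    have e : ((p : ℝ) - 1) = (f : ℝ) * f := by rw [hpR]; ring
    rw [e] at hR₁ hY'
    calc _ ≤ X := by
          rw [hX]
          exact mul_le_mul_of_nonneg_left (by linarith) (by positivity)
      _ ≤ _ := hmain.trans (mul_le_mul_of_nonneg_left hY' hd0)
  have hff : (0 : ℝ) < (f : ℝ) * f := by nlinarith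
  have key : (C.d : ℝ) * ((C.d : ℝ) * (W - 4)) ≤
      (C.d : ℝ) * ((f : ℝ) * f + (((f : ℝ) - 1) + (p * N + (f : ℝ) ^ 2)) * 2) := by
    have := mul_le_mul_of_nonneg_right hfin hff.le
    field_simp at this ⊢
    linarith
  have key2 := le_of_mul_le_mul_left key (by rw [hdR]; linarith)
  simp only [W] at key2
  rw [hdR, hpR] at key2
  nlinarith [mul_nonneg (mul_nonneg (by linarith : (0 : ℝ) ≤ (f : ℝ) - 4)
    (add_nonneg (mul_nonneg (Nat.cast_nonneg _) (Nat.cast_nonneg _)) zero_le_one : (0 : ℝ) ≤ (f : ℝ) * f + 1)) hN0,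
    mul_nonneg (mul_nonneg (by linarith : (0 : ℝ) ≤ (f : ℝ) - 4) (by linarith : (0 : ℝ) ≤ (f : ℝ))) (by linarith : (0 : ℝ) ≤ (f : ℝ) - 1)]

end Cfsg.Agent.Lib.SingleColumn
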