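/-
A column of degree one when the conjugates of `x` generate.
-/
import Mathlib
import Cfsg.Agent.Lib.SingleColumn.CaseLarge
import Cfsg.Agent.Lib.DetHom
import Cfsg.Agent.Lib.SmallDegree.FTBound

set_option autoImplicit false
set_option linter.unusedSectionVars false
set_option linter.style.haveILetI false

namespace Cfsg.Agent.Lib.SingleColumn

open scoped ComplexConjugate
open Cfsg Cfsg.Agent.Lib Finset Subgroup
open Cfsg.Agent.Lib.DefectOne
open Cfsg.Agent.Lib.SmallGroups.PrimeChar (xp fusion one_mem_fusion xp_one xp_zero xp_add)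

variable {G : Type*} [Group G] [Fintype G] {p : ℕ} [hp : Fact p.Prime] (S : Local p G)

noncomputable local instance instFintypeVTight : Fintype S.V := Fintype.ofFinite _

/-- A faithful character of degree `p - 2` with one linear column, in a group generated by the
conjugates of `x`. -/
structure Tight (ζ : IrrCharacter G) where
  hsq : ¬ p ^ 2 ∣ Nat.card G
  hp5 : 5 < p
  hgen : Subgroup.normalClosure ({S.x} : Set G) = ⊤
  hdeg : (ζ : G → ℂ) 1 = ((p - 2 : ℕ) : ℂ)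
  hfaith : ∀ g : G, (ζ : G → ℂ) g = (ζ : G → ℂ) 1 → g = 1
  hx : S.x ∉ center G
  C : Col S ζ
  hd : C.d = 1
  hsd : colSum S ζ C.φ = p - 2
  hf : (fusion p S.x).card = 2
  a : ZMod p
  ha : a ≠ 0
  hval : ∀ j : ZMod p, j ≠ 0 → colVal S ζ C.φ j = -eta S (a * j)

variable {S}

theorem mem_kerRep_conj {G : Type*} [Group G] {n : ℕ} (ρ : Representation ℂ G (Fin n → ℂ)) {g : G}
    (h : ρ g = 1) (c : G) : ρ (c * g * c⁻¹) = 1 := by
  rw [map_mul, map_mul, h, mul_one, ← map_mul, mul_inv_cancel, map_one]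

/-- Inverting `x` forces being outside the kernel of a nontrivial character. -/
theorem apply_ne_one_of_inverts (hp2 : p ≠ 2) (hgen : Subgroup.normalClosure ({S.x} : Set G) = ⊤)
    (χ : IrrCharacter G) (hne : χ ≠ Chars.trivialIrr G) {u : G} (hu : u * S.x * u⁻¹ = S.x⁻¹) :
    (χ : G → ℂ) u ≠ (χ : G → ℂ) 1 := by
  intro h
  refine hne (eq_trivial_of_apply_eq hgen χ ?_)
  obtain ⟨n, ρ, -, hρ⟩ := χ.2
  rw [← hρ, ← Chars.rep_eq_one_iff] at h ⊢
  have e : ρ S.x⁻¹ = ρ S.x := by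
    have hu' : ρ u⁻¹ = 1 := by
      have := congrArg (fun T => ρ u⁻¹ * T) h
      simpa [← map_mul] using this.symm
    rw [← hu, map_mul, map_mul, h, hu', one_mul, mul_one]
  have h2 : ρ (S.x ^ 2) = 1 := by
    rw [pow_two, map_mul]
    nth_rewrite 1 [← e]
    rw [← map_mul, inv_mul_cancel, map_one]
  obtain ⟨k, hk⟩ := hp.out.odd_of_ne_two hp2
  have : S.x = (S.x ^ 2) ^ (k + 1) := by
    rw [← pow_mul, show 2 * (k + 1) = p + 1 by omega, pow_succ, S.x_pow_p, one_mul]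
  rw [this, map_pow, h2, one_pow]

/-- A character constant and nonzero off the identity of `⟨x⟩`. -/
theorem dvd_degree_sub (χ : IrrCharacter G) {δ : ℤ}
    (h : ∀ j : ZMod p, j ≠ 0 → (χ : G → ℂ) (xp p S.x j) = (δ : ℂ)) :
    (p : ℤ) ∣ (degOf χ : ℤ) - δ := by
  classical
  refine ⟨((∑ φ, mN S (χ : G → ℂ) (0, φ) * degV S φ : ℕ) : ℤ) - δ, ?_⟩
  have e1 : ∑ j : ZMod p, (χ : G → ℂ) (xp p S.x j) = (p : ℂ) * pdeg S (χ : G → ℂ) 0 := by
    simp only [apply_xp_eq S (Chars.irr_isClassFunction χ)]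
    rw [sum_comm, sum_eq_single 0 (fun k _ hk => ?_) (by simp)]
    · simp [mul_comm]
    · rw [← mul_sum, sum_congr rfl (g := fun j : ZMod p => (ZMod.stdAddChar (j * k) : ℂ)) fun j _ => by
        rw [mul_comm], AddChar.sum_mulShift k (ZMod.isPrimitive_stdAddChar p), if_neg hk]
      simp
  rw [← add_sum_erase univ _ (mem_univ (0 : ZMod p)), xp_zero, apply_one_eq_degOf,
    sum_congr rfl fun j hj => h j (ne_of_mem_erase hj), sum_const, card_erase_of_mem (mem_univ _),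
    card_univ, ZMod.card, nsmul_eq_mul, pdeg_eq S (Chars.irr_isCharacter χ),
    Nat.cast_sub hp.out.one_le, Nat.cast_one] at e1
  rw [← Int.cast_inj (α := ℂ)]
  push_cast at e1 ⊢
  linear_combination e1

namespace Tight

variable {ζ : IrrCharacter G} (T : Tight S ζ)
include T

theorem two_ne : p ≠ 2 := by
  have := T.hp5
  omega

theorem three_le_sub : 5 ≤ p - 2 := by
  have h6 : p ≠ 6 := fun e => absurd (e ▸ hp.out) (by norm_num)
  have := T.hp5
  omega

theorem neg_one_mem : (-1 : ZMod p) ∈ fusion p S.x :=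
  neg_one_mem_fusion (S := S) (T.hf ▸ even_two)

theorem neg_one_ne_one : (-1 : ZMod p) ≠ 1 := by
  haveI : Fact (2 < p) := ⟨by have := T.hp5; omega⟩
  exact ZMod.neg_one_ne_one

theorem fusion_eq : fusion p S.x = {1, -1} := by
  classical
  refine (eq_of_subset_of_card_le (fun u hu => ?_) ?_).symm
  · rcases mem_insert.mp hu with h | h
    · exact h ▸ one_mem_fusion
    · exact mem_singleton.mp h ▸ T.neg_one_mem
  · rw [T.hf, card_pair T.neg_one_ne_one.symm]

theorem mem_fusion_iff {u : ZMod p} : u ∈ fusion p S.x ↔ u = 1 ∨ u = -1 := by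
  classical
  rw [T.fusion_eq, mem_insert, mem_singleton]

theorem card_reps_eq : 2 * (reps S).card + 1 = p := by
  have h := card_reps S
  rw [T.hf] at h
  have := hp.out.one_le
  omega

theorem exists_inverts : ∃ g : G, Nrm S g ∧ g * S.x * g⁻¹ = S.x⁻¹ := by
  obtain ⟨g, hg, he⟩ := exists_nrm S T.neg_one_mem
  refine ⟨g, hg, ?_⟩
  rw [expo_spec S hg, he]
  refine eq_inv_of_mul_eq_one_left ?_
  nth_rewrite 2 [← xp_one (p := p) (x := S.x)]
  rw [← xp_add S.order_x, neg_add_cancel, xp_zero]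

/-- An involution inverting `x` exists, given the exponent of the complement. -/
theorem exists_involution {m : ℕ} (hm : Odd m) (hV : ∀ v : S.V, v ^ m = 1) :
    ∃ u : G, orderOf u = 2 ∧ u * S.x * u⁻¹ = S.x⁻¹ := by
  obtain ⟨g, -, hg⟩ := T.exists_inverts
  obtain ⟨k, hk⟩ := (hp.out.odd_of_ne_two T.two_ne).mul hm
  have hg2 : Commute (g * g) S.x := by
    refine (mul_inv_eq_iff_eq_mul).mp ?_
    calc g * g * S.x * (g * g)⁻¹ = g * (g * S.x * g⁻¹) * g⁻¹ := by group
      _ = g * S.x⁻¹ * g⁻¹ := by rw [hg]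
      _ = (g * S.x * g⁻¹)⁻¹ := by group
      _ = S.x := by rw [hg, inv_inv]
  have hpow : (g * g) ^ (p * m) = 1 := by
    obtain ⟨i, v, hv, e⟩ := S.factor _ hg2
    rw [e, ((S.commute v hv).pow_left i).mul_pow, ← pow_mul, mul_comm i, mul_assoc,
      pow_mul, S.x_pow_p, one_pow, one_mul, mul_comm p, pow_mul]
    have := congrArg (Subtype.val : S.V → G) (hV ⟨v, hv⟩)
    simp only [SubmonoidClass.coe_pow, OneMemClass.coe_one] at this
    rw [this, one_pow]
  set u := g ^ (p * m)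
  have hu2 : u * u = 1 := by
    rw [← (Commute.refl g).mul_pow]
    exact hpow
  have hux : u * S.x * u⁻¹ = S.x⁻¹ := by
    have e : u = g * (g * g) ^ k := by
      simp only [u, hk]
      rw [pow_succ', pow_mul, pow_two]
    rw [e]
    calc g * (g * g) ^ k * S.x * (g * (g * g) ^ k)⁻¹
        = g * ((g * g) ^ k * S.x * ((g * g) ^ k)⁻¹) * g⁻¹ := by group
      _ = g * S.x * g⁻¹ := by rw [(hg2.pow_left k).eq, mul_inv_cancel_right]
      _ = _ := hg
  refine ⟨u, orderOf_eq_prime (by rw [pow_two]; exact hu2) ?_, hux⟩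
  intro h1
  rw [h1, one_mul, inv_one, mul_one] at hux
  have h2 : S.x ^ 2 = 1 := by
    rw [pow_two]; nth_rewrite 1 [hux]; exact inv_mul_cancel _
  have := Nat.le_of_dvd two_pos (S.order_x ▸ orderOf_dvd_of_pow_eq_one h2)
  have := T.hp5
  omega

theorem commutator_eq_top : commutator G = ⊤ := by
  obtain ⟨g, -, hg⟩ := T.exists_inverts
  have hmem : S.x⁻¹ * S.x⁻¹ ∈ commutator G := by
    rw [commutator_def]
    have := Subgroup.commutator_mem_commutator (mem_top g) (mem_top S.x)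
    rwa [commutatorElement_def, hg] at this
  have hx : S.x ∈ commutator G := by
    obtain ⟨k, hk⟩ := hp.out.odd_of_ne_two T.two_ne
    have e : S.x = ((S.x⁻¹ * S.x⁻¹) ^ (k + 1))⁻¹ := by
      rw [← mul_inv_rev, inv_pow, inv_inv, ← pow_two, ← pow_mul, show 2 * (k + 1) = p + 1 by omega,
        pow_succ, S.x_pow_p, one_mul]
    rw [e]
    exact inv_mem (pow_mem hmem _)
  rw [eq_top_iff, ← T.hgen]
  exact Subgroup.normalClosure_le_normal (Set.singleton_subset_iff.mpr hx)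

theorem hom_eq_one (μ : G →* ℂˣ) (g : G) : μ g = 1 :=
  MonoidHom.mem_ker.mp ((Abelianization.commutator_subset_ker μ) (T.commutator_eq_top ▸ mem_top g))

theorem apply_coe (v : S.V) :
    (ζ : G → ℂ) (v : G) = ((p - 2 : ℕ) : ℂ) * (T.C.φ : S.V → ℂ) v := by
  have e := T.C.apply_pt 0 v
  rw [colVal_zero, T.hsd] at e
  simpa [pt, xp_zero] using e

theorem exists_hom : ∃ μ : S.V →* ℂˣ, (T.C.φ : S.V → ℂ) = fun v => ((μ v : ℂˣ) : ℂ) := by
  refine Chars.exists_hom_of_degree_one (Chars.irr_isCharacter _) ?_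
  rw [T.C.hd, T.hd, Nat.cast_one]

theorem φ_mul (v w : S.V) :
    (T.C.φ : S.V → ℂ) (v * w) = (T.C.φ : S.V → ℂ) v * (T.C.φ : S.V → ℂ) w := by
  obtain ⟨μ, hμ⟩ := T.exists_hom
  simp [hμ]

theorem φ_pow (v : S.V) (k : ℕ) : (T.C.φ : S.V → ℂ) (v ^ k) = (T.C.φ : S.V → ℂ) v ^ k := by
  obtain ⟨μ, hμ⟩ := T.exists_hom
  simp [hμ]

theorem φ_one : (T.C.φ : S.V → ℂ) 1 = 1 := by
  rw [T.C.hd, T.hd, Nat.cast_one]

theorem eq_one_of_φ {v : S.V} (h : (T.C.φ : S.V → ℂ) v = 1) : v = 1 :=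
  Subtype.ext (T.hfaith _ (by rw [T.apply_coe, h, mul_one, T.hdeg]))

theorem φ_pow_card (v : S.V) : (T.C.φ : S.V → ℂ) v ^ Nat.card S.V = 1 := by
  rw [← T.φ_pow, pow_card_eq_one', T.φ_one]

theorem norm_φ (v : S.V) : ‖(T.C.φ : S.V → ℂ) v‖ = 1 :=
  Complex.norm_eq_one_of_pow_eq_one (T.φ_pow_card v) Nat.card_pos.ne'

theorem V_le_center : S.V ≤ center G := fun v hv =>
  mem_center_of_norm ζ T.hdeg T.hfaith (by
    rw [show (ζ : G → ℂ) v = _ from T.apply_coe ⟨v, hv⟩, norm_mul, T.norm_φ, mul_one, Complex.norm_natCast])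

theorem center_eq : center G = S.V := by
  refine le_antisymm (fun z hz => ?_) T.V_le_center
  obtain ⟨i, v, hv, rfl⟩ := S.factor z ((mem_center_iff.mp hz S.x).symm)
  have hxi : S.x ^ i ∈ center G := by
    have := mul_mem hz (inv_mem (T.V_le_center hv))
    rwa [mul_inv_cancel_right] at this
  have h1 : S.x ^ i = 1 := by
    by_contra h
    have hnd : ¬ p ∣ i := fun hd => h (by
      obtain ⟨c, rfl⟩ := hd
      rw [pow_mul, S.x_pow_p, one_pow])
    have hcop : i.Coprime (orderOf S.x) := by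
      rw [S.order_x]
      exact ((Nat.Prime.coprime_iff_not_dvd hp.out).mpr hnd).symm
    obtain ⟨l, hl⟩ := exists_pow_eq_self_of_coprime hcop
    exact T.hx (hl ▸ pow_mem hxi l)
  rwa [h1, one_mul]

/-- A character scalar on the complement. -/
theorem pow_eq_one_of_scalar (χ : IrrCharacter G) {e : ℕ}
    (h : ∀ v : S.V, (χ : G → ℂ) (v : G) = (e : ℂ) * (T.C.φ : S.V → ℂ) v) (v : S.V) :
    (T.C.φ : S.V → ℂ) v ^ e = 1 := by
  obtain ⟨μ, hμ⟩ := T.exists_hom
  have hfun : (fun w : S.V => (χ : G → ℂ) (S.V.subtype w)) = (e : ℂ) • fun w => ((μ w : ℂˣ) : ℂ) :=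
    funext fun w => by rw [Subgroup.subtype_apply, h w, hμ]; rfl
  have e1 : DetHom.det (fun w : S.V => (χ : G → ℂ) (S.V.subtype w)) v = 1 := by
    rw [DetHom.det_comp S.V.subtype (Chars.irr_isCharacter χ)]
    exact T.hom_eq_one _ _
  rw [hfun, DetHom.det_natCast_smul (hμ ▸ Chars.irr_isCharacter _), MonoidHom.pow_apply,
    DetHom.det_hom] at e1
  have e2 := congrArg Units.val e1
  rw [Units.val_pow_eq_pow_val, Units.val_one] at e2
  rw [hμ]
  exact e2

theorem φ_pow_sub (v : S.V) : (T.C.φ : S.V → ℂ) v ^ (p - 2) = 1 :=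
  T.pow_eq_one_of_scalar ζ T.apply_coe v

theorem pow_sub (v : S.V) : v ^ (p - 2) = 1 :=
  T.eq_one_of_φ (by rw [T.φ_pow, T.φ_pow_sub])

theorem odd_sub : Odd (p - 2) := by
  obtain ⟨k, hk⟩ := hp.out.odd_of_ne_two T.two_ne
  have := T.hp5
  exact ⟨k - 1, by omega⟩

/-- The value of a block character on a central translate. -/
theorem apply_of_const (χ : IrrCharacter G) {δ : ℤ} (hδ : δ = 1 ∨ δ = -1)
    (h : ∀ j : ZMod p, j ≠ 0 → ∀ v : S.V,
      (χ : G → ℂ) (pt S (j, v)) = (δ : ℂ) * (T.C.φ : S.V → ℂ) v) (v : S.V) (g : G) :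
    (χ : G → ℂ) ((v : G) * g) = (T.C.φ : S.V → ℂ) v * (χ : G → ℂ) g := by
  obtain ⟨c, -, hc⟩ := SmallDegree.exists_central_scalar χ (T.V_le_center v.2)
  have e1 := h 1 one_ne_zero v
  have e2 := h 1 one_ne_zero 1
  simp only [pt, OneMemClass.coe_one, mul_one, xp_one, T.φ_one] at e1 e2
  rw [(S.commute v v.2).eq, hc, e2, mul_comm c] at e1
  have hδ0 : (δ : ℂ) ≠ 0 := by rcases hδ with rfl | rfl <;> simp
  rw [hc g, mul_left_cancel₀ hδ0 e1]

end Tight

end Cfsg.Agent.Lib.SingleColumn
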