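/-
The block of the linear column when the complement is nontrivial.
-/
import Mathlib
import Cfsg.Agent.Lib.SingleColumn.Tight

set_option autoImplicit false
set_option linter.unusedSectionVars false
set_option linter.style.haveILetI false

namespace Cfsg.Agent.Lib.SingleColumn

open scoped ComplexConjugate
open Cfsg Cfsg.Agent.Lib Finset Subgroup
open Cfsg.Agent.Lib.DefectOne
open Cfsg.Agent.Lib.SmallGroups.PrimeChar (xp fusion one_mem_fusion xp_one xp_zero)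

variable {G : Type*} [Group G] [Fintype G] {p : ℕ} [hp : Fact p.Prime] {S : Local p G}

noncomputable local instance instFintypeVBlock : Fintype S.V := Fintype.ofFinite _

/-- The conjugates of the faithful character and the characters `P`, `M` of opposite signs. -/
structure Blk {ζ : IrrCharacter G} (T : Tight S ζ) where
  fam : ZMod p → IrrCharacter G
  P : IrrCharacter G
  M : IrrCharacter G
  inj : Set.InjOn fam (reps S : Set (ZMod p))
  notP : ∀ b ∈ reps S, fam b ≠ P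
  fam_x : ∀ b ∈ reps S, ∀ j : ZMod p, j ≠ 0 → (fam b : G → ℂ) (xp p S.x j) = -eta S (b * j)
  P_x : ∀ j : ZMod p, j ≠ 0 → (P : G → ℂ) (xp p S.x j) = 1
  M_x : ∀ j : ZMod p, j ≠ 0 → (M : G → ℂ) (xp p S.x j) = -1
  fam_reg : ∀ b ∈ reps S, ∀ g : G, ¬ p ∣ orderOf g → (fam b : G → ℂ) g = (ζ : G → ℂ) g
  fam_col : ∀ b ∈ reps S, ∀ j : ZMod p, j ≠ 0 → colVal S (fam b) T.C.φ j = -eta S (b * j)
  P_col : ∀ j : ZMod p, j ≠ 0 → colVal S P T.C.φ j = 1
  M_col : ∀ j : ZMod p, j ≠ 0 → colVal S M T.C.φ j = -1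
  P_V : ∀ v : S.V, (P : G → ℂ) (v : G) = (degOf P : ℂ) * (T.C.φ : S.V → ℂ) v
  sum_eq : ∀ h : IrrCharacter G → ℂ,
    (∀ χ : IrrCharacter G, (∀ j : ZMod p, j ≠ 0 → colVal S χ T.C.φ j = 0) → h χ = 0) →
    ∑ χ, h χ = ∑ b ∈ reps S, h (fam b) + h P + h M
  rel : ∀ g : G, ¬ p ∣ orderOf g → (ζ : G → ℂ) g + (P : G → ℂ) g = (M : G → ℂ) g
  deg_M : degOf M = degOf P + (p - 2)
  deg_P : p + 1 ≤ degOf P
  congr_P : (p : ℤ) ∣ (degOf P : ℤ) - 1

namespace Tight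

variable {ζ : IrrCharacter G} (T : Tight S ζ)
include T

theorem exists_ne_one_φ (hV : S.V ≠ ⊥) : ∃ v : S.V, (T.C.φ : S.V → ℂ) v ≠ 1 := by
  obtain ⟨v, hv, hv1⟩ := (Subgroup.bot_or_exists_ne_one S.V).resolve_left hV
  exact ⟨⟨v, hv⟩, fun h => hv1 (congrArg Subtype.val (T.eq_one_of_φ h))⟩

theorem degree_ge (hV : S.V ≠ ⊥) (χ : IrrCharacter G)
    (hχ : ∀ v : S.V, (χ : G → ℂ) (v : G) = (degOf χ : ℂ) * (T.C.φ : S.V → ℂ) v) :
    p ≤ 2 * degOf χ + 1 := by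
  have hne : χ ≠ Chars.trivialIrr G := by
    rintro rfl
    obtain ⟨v, hv⟩ := T.exists_ne_one_φ hV
    have e := hχ v
    have e1 := apply_one_eq_degOf (Chars.trivialIrr G)
    simp only [Chars.trivialIrr] at e e1
    exact hv (by rw [← Chars.trivialIrr] at *; simpa [← e1] using e.symm)
  exact le_two_mul_degree_of_ne T.hsq T.hgen ⟨-1, T.neg_one_mem, T.neg_one_ne_one⟩ χ
    fun h => hne (eq_trivial_of_apply_eq T.hgen χ h)

/-- The block exists. -/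
theorem exists_blk (hV : S.V ≠ ⊥) : Nonempty (Blk T) := by
  classical
  have hp5 := T.hp5
  obtain ⟨F⟩ := exists_family T.hsq T.C (c := 0) (s := -1) (Or.inr rfl) T.ha
    (fun j hj => by rw [T.hval j hj]; push_cast; ring) (by rw [T.hf]; norm_num)
  have hxp : ∀ j : ZMod p, pt S (j, (1 : S.V)) = xp p S.x j := fun j => by simp [pt]
  have h0 : ¬ p ∣ orderOf (1 : G) := by rw [orderOf_one]; exact hp.out.not_dvd_one
  have hrel1 := F.regular 1 h0
  rw [T.hdeg, apply_one_eq_degOf, apply_one_eq_degOf] at hrel1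
  have hV₁ : ∀ v : S.V, (F.ψ₁ : G → ℂ) (v : G) = (degOf F.ψ₁ : ℂ) * (T.C.φ : S.V → ℂ) v := fun v => by
    have e := T.apply_of_const F.ψ₁ F.unit₁ F.val₁ v 1
    rw [mul_one, apply_one_eq_degOf, mul_comm] at e
    exact e
  have hV₂ : ∀ v : S.V, (F.ψ₂ : G → ℂ) (v : G) = (degOf F.ψ₂ : ℂ) * (T.C.φ : S.V → ℂ) v := fun v => by
    have e := T.apply_of_const F.ψ₂ F.unit₂ F.val₂ v 1
    rw [mul_one, apply_one_eq_degOf, mul_comm] at e
    exact e
  have hx₁ : ∀ j : ZMod p, j ≠ 0 → (F.ψ₁ : G → ℂ) (xp p S.x j) = (F.δ₁ : ℂ) := fun j hj => by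
    rw [← hxp, F.val₁ j hj, T.φ_one, mul_one]
  have hx₂ : ∀ j : ZMod p, j ≠ 0 → (F.ψ₂ : G → ℂ) (xp p S.x j) = (F.δ₂ : ℂ) := fun j hj => by
    rw [← hxp, F.val₂ j hj, T.φ_one, mul_one]
  have hd₁ := dvd_degree_sub F.ψ₁ hx₁
  have hd₂ := dvd_degree_sub F.ψ₂ hx₂
  have hb₁ := T.degree_ge hV _ hV₁
  have hb₂ := T.degree_ge hV _ hV₂
  have hbig : ∀ (n : ℕ) (δ : ℤ), p ≤ 2 * n + 1 → (δ = 1 ∨ δ = -1) → (p : ℤ) ∣ (n : ℤ) - δ →
      p ≤ n + 1 ∧ (δ = 1 → p + 1 ≤ n) := by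
    intro n δ hn hδ hd
    obtain ⟨k, hk⟩ := hd
    have hpos : 0 < k := by
      by_contra h
      have : (p : ℤ) * k ≤ 0 := mul_nonpos_of_nonneg_of_nonpos (by positivity) (by omega)
      omega
    have hk1 : (p : ℤ) ≤ (p : ℤ) * k := le_mul_of_one_le_right (by positivity) (by omega)
    omega
  -- the signs are opposite
  have hopp : F.δ₁ = -F.δ₂ := by
    have e : ((p - 2 : ℕ) : ℤ) + F.δ₁ * degOf F.ψ₁ + F.δ₂ * degOf F.ψ₂ = 0 := by
      rw [← Int.cast_inj (α := ℂ)]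
      push_cast at hrel1 ⊢
      linear_combination hrel1
    obtain ⟨h₁, -⟩ := hbig _ _ hb₁ F.unit₁ hd₁
    obtain ⟨h₂, -⟩ := hbig _ _ hb₂ F.unit₂ hd₂
    rcases F.unit₁ with u₁ | u₁ <;> rcases F.unit₂ with u₂ | u₂ <;> rw [u₁, u₂] at e <;>
      rw [u₁, u₂] <;> omega
  have mk : ∀ (P M : IrrCharacter G), (∀ b ∈ reps S, F.fam b ≠ P) →
      (∀ j : ZMod p, j ≠ 0 → (P : G → ℂ) (xp p S.x j) = 1) →
      (∀ j : ZMod p, j ≠ 0 → (M : G → ℂ) (xp p S.x j) = -1) →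
      (∀ j : ZMod p, j ≠ 0 → colVal S P T.C.φ j = 1) →
      (∀ j : ZMod p, j ≠ 0 → colVal S M T.C.φ j = -1) →
      (∀ v : S.V, (P : G → ℂ) (v : G) = (degOf P : ℂ) * (T.C.φ : S.V → ℂ) v) →
      (∀ h : IrrCharacter G → ℂ,
        (∀ χ : IrrCharacter G, (∀ b ∈ reps S, χ ≠ F.fam b) → χ ≠ P → χ ≠ M → h χ = 0) →
        ∑ χ, h χ = ∑ b ∈ reps S, h (F.fam b) + h P + h M) →
      (∀ χ : IrrCharacter G, (∀ b ∈ reps S, χ ≠ F.fam b) → χ ≠ P → χ ≠ M →
        ∀ j : ZMod p, j ≠ 0 → colVal S χ T.C.φ j = 0) →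
      (∀ g : G, ¬ p ∣ orderOf g → (ζ : G → ℂ) g + (P : G → ℂ) g = (M : G → ℂ) g) →
      Nonempty (Blk T) := by
    intro P M hnot hPx hMx hPc hMc hPV hsum hvan hrel
    have hdeg : degOf M = degOf P + (p - 2) := by
      have e := hrel 1 h0
      rw [T.hdeg, apply_one_eq_degOf, apply_one_eq_degOf, ← Nat.cast_add] at e
      rw [← Nat.cast_injective e, add_comm]
    have hcong : (p : ℤ) ∣ (degOf P : ℤ) - 1 :=
      dvd_degree_sub P (δ := 1) fun j hj => by rw [hPx j hj, Int.cast_one]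
    refine ⟨⟨F.fam, P, M, F.inj, hnot, ?_, hPx, hMx, F.reg_fam, ?_, hPc, hMc, hPV, ?_, hrel, hdeg,
      (hbig _ 1 (T.degree_ge hV P hPV) (Or.inl rfl) hcong).2 rfl, hcong⟩⟩
    · intro b hb j hj
      rw [← hxp, F.val_fam b hb j hj, T.φ_one]
      push_cast; ring
    · intro b hb j hj
      rw [F.col_fam b hb j hj]
      push_cast; ring
    · exact fun h h0 => hsum h fun χ h1 h2 h3 => h0 χ (hvan χ h1 h2 h3)
  rcases F.unit₁ with u₁ | u₁
  · have u₂ : F.δ₂ = -1 := by omega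
    refine mk F.ψ₁ F.ψ₂ F.notMem₁ (fun j hj => by rw [hx₁ j hj, u₁, Int.cast_one])
      (fun j hj => by rw [hx₂ j hj, u₂]; norm_num) (fun j hj => by rw [F.col₁ j hj, u₁, Int.cast_one])
      (fun j hj => by rw [F.col₂ j hj, u₂]; norm_num) hV₁ (fun h h0 => F.sum_eq h h0) F.vanish
      fun g hg => ?_
    have e := F.regular g hg
    rw [u₁, u₂] at e
    push_cast at e
    linear_combination e
  · have u₂ : F.δ₂ = 1 := by omega
    refine mk F.ψ₂ F.ψ₁ F.notMem₂ (fun j hj => by rw [hx₂ j hj, u₂, Int.cast_one])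
      (fun j hj => by rw [hx₁ j hj, u₁]; norm_num) (fun j hj => by rw [F.col₂ j hj, u₂, Int.cast_one])
      (fun j hj => by rw [F.col₁ j hj, u₁]; norm_num) hV₂
      (fun h h0 => by rw [F.sum_eq h fun χ a b c => h0 χ a c b]; ring)
      (fun χ a b c => F.vanish χ a c b) fun g hg => ?_
    have e := F.regular g hg
    rw [u₁, u₂] at e
    push_cast at e
    linear_combination e

end Tight

end Cfsg.Agent.Lib.SingleColumn
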