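/-
Weighted structure constants when the complement is nontrivial.
-/
import Mathlib
import Cfsg.Agent.Lib.SingleColumn.Block
import Cfsg.Agent.Lib.SmallGroups.PrimeChar.Involutions
import Cfsg.Agent.Lib.CharCount.Basic

set_option autoImplicit false
set_option linter.unusedSectionVars false
set_option linter.style.haveILetI false

namespace Cfsg.Agent.Lib.SingleColumn

open scoped ComplexConjugate
open Cfsg Cfsg.Agent.Lib Finset Subgroup
open Cfsg.Agent.Lib.DefectOne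
open Cfsg.Agent.Lib.SmallGroups.PrimeChar (xp fusion one_mem_fusion xp_one xp_zero xp_add)

variable {G : Type*} [Group G] [Fintype G] {p : ℕ} [hp : Fact p.Prime] {S : Local p G}

noncomputable local instance instFintypeVCentral : Fintype S.V := Fintype.ofFinite _

/-- The characters of the principal column. -/
structure PData {ζ : IrrCharacter G} (T : Tight S ζ) where
  chi : IrrCharacter G
  e : ZMod p → IrrCharacter G
  a : ℤ
  ε : ℤ
  sign_a : a = 1 ∨ a = -1
  sign_ε : ε = 1 ∨ ε = -1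
  chi_ne : chi ≠ Chars.trivialIrr G
  chi_x : ∀ j : ZMod p, j ≠ 0 → (chi : G → ℂ) (xp p S.x j) = a
  chi_col : ∀ j : ZMod p, j ≠ 0 → colVal S chi (Chars.trivialIrr S.V) j = a
  triv_col : ∀ j : ZMod p, j ≠ 0 → colVal S (Chars.trivialIrr G) (Chars.trivialIrr S.V) j = 1
  e_x : ∀ b ∈ reps S, ∀ j : ZMod p, j ≠ 0 → (e b : G → ℂ) (xp p S.x j) = (ε : ℂ) * eta S (b * j)
  e_col : ∀ b ∈ reps S, ∀ j : ZMod p, j ≠ 0 →
    colVal S (e b) (Chars.trivialIrr S.V) j = (ε : ℂ) * eta S (b * j)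
  sum_eq : ∀ h : IrrCharacter G → ℂ,
    (∀ χ : IrrCharacter G, (∀ j : ZMod p, j ≠ 0 → colVal S χ (Chars.trivialIrr S.V) j = 0) → h χ = 0) →
    ∑ χ, h χ = h (Chars.trivialIrr G) + h chi + ∑ b ∈ reps S, h (e b)
  rel : ∀ b ∈ reps S, ∀ g : G, ¬ p ∣ orderOf g →
    (ε : ℂ) * (e b : G → ℂ) g = 1 + (a : ℂ) * (chi : G → ℂ) g
  chi_big : p ≤ 2 * degOf chi + 1
  congr_chi : (p : ℤ) ∣ (degOf chi : ℤ) - a

namespace Tight

variable {ζ : IrrCharacter G} (T : Tight S ζ)
include T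

theorem exists_pdata : Nonempty (PData T) := by
  classical
  obtain ⟨Q⟩ := nonempty_princ S T.hsq (by rw [T.hf]; have := T.hp5; omega)
  have hc : (Q.A.erase (Chars.trivialIrr G)).card = 1 := by
    rw [card_erase_of_mem Q.triv, Q.cardA, T.hf]
  obtain ⟨χ, hχ⟩ := card_eq_one.mp hc
  have hmem : χ ∈ Q.A.erase (Chars.trivialIrr G) := hχ ▸ mem_singleton_self χ
  obtain ⟨hne, hA⟩ := mem_erase.mp hmem
  refine ⟨⟨χ, Q.e, Q.δ χ, Q.ε, Q.signA χ hA, Q.unit, hne, fun j hj => (Q.valA χ hA j hj).1,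
    fun j hj => (Q.valA χ hA j hj).2, fun j hj => ?_, fun b hb j hj => (Q.valB b hb j hj).1,
    fun b hb j hj => (Q.valB b hb j hj).2, fun h h0 => ?_, fun b hb g hg => ?_, ?_,
    dvd_degree_sub χ fun j hj => (Q.valA χ hA j hj).1⟩⟩
  · rw [(Q.valA _ Q.triv j hj).2, Q.δ_triv, Int.cast_one]
  · rw [Q.sum_eq h fun ψ h1 h2 => h0 ψ fun j hj => Q.valO ψ h1 h2 j hj,
      ← add_sum_erase _ _ Q.triv, hχ, sum_singleton]
  · rw [Q.regular b hb g hg, ← add_sum_erase _ _ Q.triv, hχ, sum_singleton, Q.δ_triv]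
    simp [Chars.trivialIrr]
  · exact le_two_mul_degree_of_ne T.hsq T.hgen ⟨-1, T.neg_one_mem, T.neg_one_ne_one⟩ χ
      fun h => hne (eq_trivial_of_apply_eq T.hgen χ h)

theorem card_triple_one :
    ((fusion p S.x ×ˢ fusion p S.x).filter fun w : ZMod p × ZMod p =>
      (1 : ZMod p) + 1 * w.1 + (-2) * w.2 = 0).card = 1 := by
  classical
  have hp5 := T.hp5
  have hnat : ∀ k : ℕ, 0 < k → k < p → (k : ZMod p) ≠ 0 := fun k h0 hk h => by
    have := Nat.le_of_dvd h0 ((ZMod.natCast_eq_zero_iff k p).mp h)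
    omega
  have h2 := hnat 2 (by norm_num) (by omega)
  have h4 := hnat 4 (by norm_num) (by omega)
  push_cast at h2 h4
  refine card_eq_one.mpr ⟨(1, 1), ?_⟩
  ext ⟨w₁, w₂⟩
  simp only [mem_filter, mem_product, mem_singleton, Prod.mk.injEq, T.mem_fusion_iff]
  constructor
  · rintro ⟨⟨rfl | rfl, rfl | rfl⟩, he⟩
    · exact ⟨rfl, rfl⟩
    · exact absurd (by linear_combination he) h4
    · exact absurd (by linear_combination -he) h2
    · exact absurd (by linear_combination he) h2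
  · rintro ⟨rfl, rfl⟩
    exact ⟨⟨Or.inl rfl, Or.inl rfl⟩, by ring⟩

theorem sum_eta_triple :
    ∑ b ∈ reps S, eta S b * eta S b * eta S (b * -2) = (p : ℂ) - 4 := by
  have := sum_reps_eta_triple S 1 1 (-2)
  simp only [mul_one] at this
  rw [this, T.card_triple_one, T.hf]
  norm_num

theorem two_ne_zero' : (2 : ZMod p) ≠ 0 := fun h2 => by
  have h : ((2 : ℕ) : ZMod p) = 0 := by exact_mod_cast h2
  have := Nat.le_of_dvd two_pos ((ZMod.natCast_eq_zero_iff 2 p).mp h)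
  have := T.hp5
  omega

theorem conj_φ (v : S.V) :
    conj ((T.C.φ : S.V → ℂ) v) = (T.C.φ : S.V → ℂ) v ^ (Nat.card S.V - 1) := by
  rw [← Complex.inv_eq_conj (T.norm_φ v)]
  refine inv_eq_of_mul_eq_one_right ?_
  rw [← pow_succ', Nat.sub_add_cancel Nat.card_pos, T.φ_pow_card]

theorem reg_one : ¬ p ∣ orderOf (1 : G) := by rw [orderOf_one]; exact hp.out.not_dvd_one

end Tight

namespace PData

variable {ζ : IrrCharacter G} {T : Tight S ζ} (Q : PData T)
include Q

theorem degOf_e {b b' : ZMod p} (hb : b ∈ reps S) (hb' : b' ∈ reps S) :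
    degOf (Q.e b) = degOf (Q.e b') := by
  have h := (Q.rel b hb 1 T.reg_one).trans (Q.rel b' hb' 1 T.reg_one).symm
  rw [apply_one_eq_degOf, apply_one_eq_degOf] at h
  rcases Q.sign_ε with e | e <;> rw [e] at h <;> push_cast at h
  · exact Nat.cast_injective (R := ℂ) (by linear_combination h)
  · exact Nat.cast_injective (R := ℂ) (by linear_combination -h)

theorem cases (b : ZMod p) (hb : b ∈ reps S) :
    (Q.ε = -1 ∧ Q.a = -1 ∧ degOf (Q.e b) + 1 = degOf Q.chi) ∨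
      (Q.ε = 1 ∧ Q.a = 1 ∧ degOf (Q.e b) = degOf Q.chi + 1 ∧ p + 1 ≤ degOf Q.chi) := by
  have hp5 := T.hp5
  have h := Q.rel b hb 1 T.reg_one
  rw [apply_one_eq_degOf, apply_one_eq_degOf] at h
  have h' : Q.ε * (degOf (Q.e b) : ℤ) = 1 + Q.a * (degOf Q.chi : ℤ) := by
    exact_mod_cast h
  have hy : 0 < degOf (Q.e b) := Nat.pos_of_ne_zero fun e =>
    Chars.irr_apply_one_ne_zero (Q.e b) (by rw [apply_one_eq_degOf, e, Nat.cast_zero])
  have hbig := Q.chi_big
  rcases Q.sign_ε with e | e <;> rcases Q.sign_a with a | a <;> rw [e, a] at h'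
  · refine Or.inr ⟨e, a, by omega, ?_⟩
    obtain ⟨k, hk⟩ := Q.congr_chi
    rw [a] at hk
    have hk0 : 0 < k := by
      by_contra hh
      have : (p : ℤ) * k ≤ 0 := mul_nonpos_of_nonneg_of_nonpos (by positivity) (by omega)
      omega
    have : (p : ℤ) ≤ p * k := le_mul_of_one_le_right (by positivity) (by omega)
    omega
  · omega
  · omega
  · exact Or.inl ⟨e, a, by omega⟩

end PData

namespace Blk

variable {ζ : IrrCharacter G} {T : Tight S ζ}

theorem degOf_fam' (B : Blk T) {b : ZMod p} (hb : b ∈ reps S) : degOf (B.fam b) = p - 2 := by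
  have e := B.fam_reg b hb 1 T.reg_one
  rw [T.hdeg, apply_one_eq_degOf] at e
  exact Nat.cast_injective e

variable (B : Blk T) (Q : PData T)
include B Q

/-- The two sums are tied by positivity. -/
theorem ineq (k : ℕ) (hk : 1 ≤ k) (hprime : ∀ q : ℕ, q.Prime → q ∣ Nat.card S.V → k ≤ q)
    (b₀ : ZMod p) (hb₀ : b₀ ∈ reps S) :
    (0 : ℝ) ≤ (1 + (Q.a : ℝ) / degOf Q.chi + (Q.ε : ℝ) * ((p : ℝ) - 4) / degOf (Q.e b₀)) +
      ((k : ℝ) - 1) *
        (1 / degOf B.P - 1 / degOf B.M - ((p : ℝ) - 4) / ((p : ℝ) - 2)) := by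
  classical
  have hp5 := T.hp5
  set m := Nat.card S.V with hm
  have hm1 : 1 ≤ m := Nat.card_pos
  have hx1 : xp p S.x (1 : ZMod p) = S.x := xp_one
  let W : S.V → ℂ := fun v => triple S.x S.x (pt S (2, v))
  set q : ℚ := 1 / degOf B.P - 1 / degOf B.M - ((p : ℚ) - 4) / ((p : ℚ) - 2) with hq
  set S₁ : ℚ := 1 + (Q.a : ℚ) / degOf Q.chi + (Q.ε : ℚ) * ((p : ℚ) - 4) / degOf (Q.e b₀) with hS₁
  have h2 := T.two_ne_zero'
  -- the sum weighted by the linear character
  have hL : ∑ v : S.V, (T.C.φ : S.V → ℂ) v * W v = (m : ℂ) * (q : ℂ) := by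
    simp only [W]
    rw [sum_mul_triple, ← hm]
    congr 1
    rw [B.sum_eq _ fun χ h => by rw [h 2 h2]; simp,
      sum_congr rfl (g := fun b => -(eta S b * eta S b * eta S (b * -2)) / ((p - 2 : ℕ) : ℂ)) fun b hb => ?_,
      ← sum_div, sum_neg_distrib, T.sum_eta_triple, ← hx1, B.P_x 1 one_ne_zero, B.M_x 1 one_ne_zero,
      B.P_col 2 h2, B.M_col 2 h2, apply_one_eq_degOf, apply_one_eq_degOf, hq,
      Nat.cast_sub (by omega : 2 ≤ p)]
    · push_cast
      simp only [map_neg, map_one]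
      ring
    · have e1 := B.fam_x b hb 1 one_ne_zero
      rw [hx1, mul_one] at e1
      rw [e1, B.fam_col b hb 2 h2, apply_one_eq_degOf, B.degOf_fam' hb, map_neg, conj_eta, mul_neg]
      ring
  -- the unweighted sum
  have hS : ∑ v : S.V, W v = (m : ℂ) * (S₁ : ℂ) := by
    have e : ∑ v : S.V, (Chars.trivialIrr S.V : S.V → ℂ) v * W v = (m : ℂ) * (S₁ : ℂ) := by
      simp only [W]
      rw [sum_mul_triple, ← hm]
      congr 1
      rw [Q.sum_eq _ fun χ h => by rw [h 2 h2]; simp,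
        sum_congr rfl (g := fun b => (Q.ε : ℂ) * (eta S b * eta S b * eta S (b * -2)) / (degOf (Q.e b₀) : ℂ))
          fun b hb => ?_, ← sum_div, ← mul_sum, T.sum_eta_triple, Q.triv_col 2 h2, Q.chi_col 2 h2, ← hx1,
        Q.chi_x 1 one_ne_zero, apply_one_eq_degOf Q.chi, map_intCast, hS₁]
      · push_cast
        simp only [Chars.trivialIrr, map_one]
        rcases Q.sign_a with h | h <;> rw [h] <;> push_cast <;> ring
      · have e1 := Q.e_x b hb 1 one_ne_zero
        rw [hx1, mul_one] at e1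
        rw [e1, Q.e_col b hb 2 h2, apply_one_eq_degOf, Q.degOf_e hb hb₀, map_mul, map_intCast,
          conj_eta, mul_neg]
        rcases Q.sign_ε with h | h <;> rw [h] <;> push_cast <;> ring
    rw [← e]
    exact sum_congr rfl fun v _ => by simp [Chars.trivialIrr]
  -- conjugate weights
  have hpow : ∀ e : ℕ, e.Coprime m →
      ∑ v : S.V, (T.C.φ : S.V → ℂ) v ^ e * W v = (m : ℂ) * (q : ℂ) := by
    intro e he
    obtain ⟨σ, hσ⟩ := GaloisChar.exists_ringEquiv_pow hm1 he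
    have h := congrArg σ hL
    rw [map_sum, map_mul, map_natCast, map_ratCast] at h
    rw [← h]
    exact sum_congr rfl fun v _ => by rw [map_mul, hσ _ (T.φ_pow_card v), gal_triple]
  have hpair : ∀ i ∈ range k, ∀ l ∈ range k,
      ∑ v : S.V, ((T.C.φ : S.V → ℂ) v ^ i * conj ((T.C.φ : S.V → ℂ) v ^ l)) * W v =
        (m : ℂ) * (if i = l then (S₁ : ℂ) else (q : ℂ)) := by
    intro i hi l hl
    have hexp : ∀ v : S.V, (T.C.φ : S.V → ℂ) v ^ i * conj ((T.C.φ : S.V → ℂ) v ^ l) =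
        (T.C.φ : S.V → ℂ) v ^ (i + (m - 1) * l) := fun v => by
      rw [map_pow, T.conj_φ, ← pow_mul, pow_add]
    simp only [hexp]
    by_cases hil : i = l
    · subst hil
      rw [if_pos rfl, ← hS]
      refine sum_congr rfl fun v _ => ?_
      rw [show i + (m - 1) * i = m * i by
        conv_rhs => rw [← Nat.sub_add_cancel hm1]
        ring, pow_mul, T.φ_pow_card, one_pow, one_mul]
    · rw [if_neg hil]
      refine hpow _ (Nat.coprime_of_dvd fun d hd h1 h2 => ?_)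
      have hdl := hprime d hd h2
      have h3 : (d : ℤ) ∣ (i : ℤ) - l := by
        have e1 : (d : ℤ) ∣ ((i + (m - 1) * l : ℕ) : ℤ) := Int.natCast_dvd_natCast.mpr h1
        have e2 : (d : ℤ) ∣ (m : ℤ) * l := Dvd.dvd.mul_right (Int.natCast_dvd_natCast.mpr h2) _
        have e3 := dvd_sub e1 e2
        rwa [Nat.cast_add, Nat.cast_mul, Nat.cast_sub hm1, Nat.cast_one,
          show (i : ℤ) + ((m : ℤ) - 1) * l - (m : ℤ) * l = i - l by ring] at e3
      have := mem_range.mp hi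
      have := mem_range.mp hl
      have := Int.eq_zero_of_abs_lt_dvd h3 (by rw [abs_lt]; omega)
      omega
  have htot : ((∑ v : S.V, Complex.normSq (∑ i ∈ range k, (T.C.φ : S.V → ℂ) v ^ i) *
      tripleR S.x S.x (pt S (2, v)) : ℝ) : ℂ) =
      (m : ℂ) * (k : ℂ) * ((S₁ : ℂ) + ((k : ℂ) - 1) * (q : ℂ)) := by
    push_cast
    simp only [ofReal_tripleR, ← Complex.mul_conj, map_sum, Finset.sum_mul_sum]
    rw [sum_congr rfl fun v _ => sum_mul _ _ _, sum_comm,
      sum_congr rfl (g := fun _ => (m : ℂ) * ((S₁ : ℂ) + ((k : ℂ) - 1) * (q : ℂ))) fun i hi => ?_,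
      sum_const, card_range, nsmul_eq_mul]
    · ring
    · rw [sum_congr rfl fun v _ => sum_mul _ _ _, sum_comm, sum_congr rfl fun l hl => hpair i hi l hl,
        ← mul_sum, ← add_sum_erase _ _ hi, if_pos rfl,
        sum_congr rfl fun l hl => if_neg (ne_of_mem_erase hl).symm, sum_const,
        card_erase_of_mem hi, card_range, nsmul_eq_mul, Nat.cast_sub hk, Nat.cast_one]
  have hnn : (0 : ℝ) ≤ ∑ v : S.V, Complex.normSq (∑ i ∈ range k, (T.C.φ : S.V → ℂ) v ^ i) *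
      tripleR S.x S.x (pt S (2, v)) :=
    sum_nonneg fun v _ => mul_nonneg (Complex.normSq_nonneg _) (tripleR_nonneg _ _ _)
  have hreal : ∑ v : S.V, Complex.normSq (∑ i ∈ range k, (T.C.φ : S.V → ℂ) v ^ i) *
      tripleR S.x S.x (pt S (2, v)) = (m : ℝ) * k * ((S₁ : ℝ) + ((k : ℝ) - 1) * (q : ℝ)) := by
    apply Complex.ofReal_injective
    rw [htot]
    push_cast
    rfl
  rw [hreal] at hnn
  have h0 : (0 : ℝ) ≤ (S₁ : ℝ) + ((k : ℝ) - 1) * (q : ℝ) :=
    nonneg_of_mul_nonneg_right hnn (mul_pos (Nat.cast_pos.mpr hm1) (Nat.cast_pos.mpr hk))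
  rw [hS₁, hq] at h0
  push_cast at h0
  exact h0

/-- The equation from products of two involutions. -/
theorem key_equation (hε : Q.ε = 1) (ha : Q.a = 1) {u : G} (hu : orderOf u = 2)
    (hux : u * S.x * u⁻¹ = S.x⁻¹) {b₀ : ZMod p} (hb₀ : b₀ ∈ reps S)
    (hy : degOf (Q.e b₀) = degOf Q.chi + 1) :
    ∃ X Y : ℕ, X ≠ 0 ∧ X ^ 2 * (degOf B.P * degOf B.M * (p - 2)) =
      Y ^ 2 * (degOf Q.chi * (degOf Q.chi + 1)) := by
  classical
  have hp5 := T.hp5
  have hreg : ¬ p ∣ orderOf u := fun h => by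
    rw [hu] at h
    have := Nat.le_of_dvd two_pos h
    omega
  have huu : u * u = 1 := by rw [← pow_two, ← hu]; exact pow_orderOf_eq_one u
  have hx1 : xp p S.x (1 : ZMod p) = S.x := xp_one
  obtain ⟨s, hs⟩ := Cfsg.Agent.Lib.SmallGroups.PrimeChar.exists_int_apply_involution ζ hu
  obtain ⟨w, hw⟩ := Cfsg.Agent.Lib.SmallGroups.PrimeChar.exists_int_apply_involution B.P hu
  obtain ⟨z, hz⟩ := Cfsg.Agent.Lib.SmallGroups.PrimeChar.exists_int_apply_involution Q.chi hu
  have hzero : ∀ v : S.V, v ≠ 1 → triple u u (pt S (1, v)) = 0 := by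
    intro v hv
    refine CharCount.sum_triple_eq_zero u u _ fun g hc => hv ?_
    set y := g * u * g⁻¹ with hy
    have hyy : y * y = 1 := by
      rw [hy, show g * u * g⁻¹ * (g * u * g⁻¹) = g * (u * u) * g⁻¹ by group, huu]; group
    obtain ⟨h, hh⟩ := isConj_iff.mp hc
    have hc1 : pt S (1, v) ^ p = (v : G) ^ p := by
      show (xp p S.x 1 * (v : G)) ^ p = _
      rw [(xp_commute S 1 v.2).mul_pow, hx1, S.x_pow_p, one_mul]
    have hcen : (v : G) ^ p ∈ center G := pow_mem (T.V_le_center v.2) p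
    have hwp : (u * y) ^ p = (v : G) ^ p := by
      have e1 : h * (u * y) ^ p * h⁻¹ = (v : G) ^ p := by
        rw [← conj_pow, hh, hc1]
      calc (u * y) ^ p = h⁻¹ * (h * (u * y) ^ p * h⁻¹) * h := by group
        _ = h⁻¹ * (v : G) ^ p * h := by rw [e1]
        _ = h⁻¹ * ((v : G) ^ p * h) := mul_assoc _ _ _
        _ = (v : G) ^ p := by rw [← mem_center_iff.mp hcen h, inv_mul_cancel_left]
    have hinv : u * (u * y) * u⁻¹ = (u * y)⁻¹ := by
      have hu' : u⁻¹ = u := inv_eq_of_mul_eq_one_right huu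
      have hy' : y⁻¹ = y := inv_eq_of_mul_eq_one_right hyy
      rw [mul_inv_rev, hu', hy', ← mul_assoc, huu, one_mul]
    have e2 : (v : G) ^ p = ((v : G) ^ p)⁻¹ := by
      conv_rhs => rw [← hwp, ← inv_pow, ← hinv, conj_pow, hwp]
      rw [mem_center_iff.mp hcen u, mul_inv_cancel_right]
    have e3 : v ^ (2 * p) = 1 := by
      refine Subtype.ext ?_
      rw [SubmonoidClass.coe_pow, two_mul, pow_add]
      nth_rewrite 1 [e2]
      exact inv_mul_cancel _
    have hco : Nat.Coprime (2 * p) (p - 2) := by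
      refine Nat.Coprime.mul_left ?_ ?_
      · exact (Nat.prime_two.coprime_iff_not_dvd).mpr fun h => by
          obtain ⟨i, hi⟩ := T.odd_sub; omega
      · exact (Nat.Prime.coprime_iff_not_dvd hp.out).mpr fun h => by
          have := Nat.le_of_dvd (by omega) h
          omega
    exact orderOf_eq_one_iff.mp (Nat.eq_one_of_dvd_coprimes hco (orderOf_dvd_of_pow_eq_one e3)
      (orderOf_dvd_of_pow_eq_one (T.pow_sub v)))
  have hsingle : ∀ φ : IrrCharacter S.V, (φ : S.V → ℂ) 1 = 1 →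
      (Nat.card S.V : ℂ) * ∑ χ : IrrCharacter G,
        (χ : G → ℂ) u * (χ : G → ℂ) u * conj (colVal S χ φ 1) / (χ : G → ℂ) 1 =
      triple u u (pt S (1, 1)) := by
    intro φ hφ
    rw [← sum_mul_triple, sum_eq_single (1 : S.V) (fun v _ hv => by rw [hzero v hv, mul_zero])
      (fun h => absurd (mem_univ _) h), hφ, one_mul]
  have heq := mul_left_cancel₀ (Nat.cast_ne_zero.mpr Nat.card_pos.ne' : (Nat.card S.V : ℂ) ≠ 0)
    ((hsingle (Chars.trivialIrr S.V) rfl).trans (hsingle T.C.φ T.φ_one).symm)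
  have hsumeta : ∑ b ∈ reps S, eta S (b * -1) = -1 :=
    sum_reps_eta_self S (-1) (neg_ne_zero.mpr one_ne_zero)
  have hM : (B.M : G → ℂ) u = (s : ℂ) + w := by rw [← B.rel u hreg, hs, hw]
  have hE : ∀ b ∈ reps S, (Q.e b : G → ℂ) u = 1 + (z : ℂ) := fun b hb => by
    have e := Q.rel b hb u hreg
    rw [hε, ha, hz, Int.cast_one, one_mul, one_mul] at e
    exact e
  have hsQ : ∑ b ∈ reps S, (Q.e b : G → ℂ) u * (Q.e b : G → ℂ) u *
      conj (colVal S (Q.e b) (Chars.trivialIrr S.V) 1) / (Q.e b : G → ℂ) 1 =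
      (1 + (z : ℂ)) * (1 + z) / ((degOf Q.chi : ℂ) + 1) * -1 := by
    rw [← hsumeta, mul_sum]
    refine sum_congr rfl fun b hb => ?_
    rw [hE b hb, Q.e_col b hb 1 one_ne_zero, apply_one_eq_degOf, Q.degOf_e hb hb₀, hy, hε,
      map_mul, map_intCast, conj_eta, mul_neg]
    push_cast; ring
  have hsB : ∑ b ∈ reps S, (B.fam b : G → ℂ) u * (B.fam b : G → ℂ) u *
      conj (colVal S (B.fam b) T.C.φ 1) / (B.fam b : G → ℂ) 1 =
      -((s : ℂ) * s) / ((p - 2 : ℕ) : ℂ) * -1 := by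
    rw [← hsumeta, mul_sum]
    refine sum_congr rfl fun b hb => ?_
    rw [B.fam_col b hb 1 one_ne_zero, B.fam_reg b hb u hreg, hs, apply_one_eq_degOf, B.degOf_fam' hb,
      map_neg, conj_eta, mul_neg]
    ring
  rw [Q.sum_eq _ fun χ h => by rw [h 1 one_ne_zero]; simp, B.sum_eq _ fun χ h => by
      rw [h 1 one_ne_zero]; simp, hsQ, hsB, Q.triv_col 1 one_ne_zero, Q.chi_col 1 one_ne_zero,
    B.P_col 1 one_ne_zero, B.M_col 1 one_ne_zero, hz, hw, hM, ha, apply_one_eq_degOf Q.chi,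
    apply_one_eq_degOf B.P, apply_one_eq_degOf B.M] at heq
  simp only [Chars.trivialIrr, map_one, map_neg, Int.cast_one, mul_one, div_one] at heq
  have hc0 : (degOf Q.chi : ℂ) ≠ 0 := Nat.cast_ne_zero.mpr (by have := Q.chi_big; omega)
  have hc1 : (degOf Q.chi : ℂ) + 1 ≠ 0 := by
    rw [← Nat.cast_one, ← Nat.cast_add]; exact Nat.cast_ne_zero.mpr (by omega)
  have hP0 : (degOf B.P : ℂ) ≠ 0 := Nat.cast_ne_zero.mpr (by have := B.deg_P; omega)
  have hMd : (degOf B.M : ℂ) = (degOf B.P : ℂ) + ((p - 2 : ℕ) : ℂ) := by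
    rw [B.deg_M, Nat.cast_add]
  have hM0 : (degOf B.M : ℂ) ≠ 0 := Nat.cast_ne_zero.mpr (by have := B.deg_M; omega)
  have hn0 : ((p - 2 : ℕ) : ℂ) ≠ 0 := Nat.cast_ne_zero.mpr (by omega)
  field_simp at heq
  rw [hMd] at heq
  have key : ((degOf Q.chi : ℤ) - z) ^ 2 * ((degOf B.P * degOf B.M * (p - 2) : ℕ) : ℤ) =
      ((((p - 2 : ℕ) : ℤ)) * w - s * degOf B.P) ^ 2 * ((degOf Q.chi * (degOf Q.chi + 1) : ℕ) : ℤ) := by
    rw [← Int.cast_inj (α := ℂ), B.deg_M]
    push_cast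
    linear_combination heq
  refine ⟨((degOf Q.chi : ℤ) - z).natAbs, (((p - 2 : ℕ) : ℤ) * w - s * degOf B.P).natAbs, ?_, ?_⟩
  · intro h
    refine apply_ne_one_of_inverts T.two_ne T.hgen Q.chi Q.chi_ne hux ?_
    rw [hz, apply_one_eq_degOf, show z = (degOf Q.chi : ℤ) by omega, Int.cast_natCast]
  · rw [← Int.natCast_inj]
    push_cast
    rw [sq_abs, sq_abs]
    exact_mod_cast key

end Blk

end Cfsg.Agent.Lib.SingleColumn
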