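/-
The order of the group when the centralizer of `x` is `⟨x⟩`.
-/
import Mathlib
import Cfsg.Agent.Lib.SingleColumn.Tight
import Cfsg.Agent.Lib.Blocks.FrobeniusSylow.TwoOrder

set_option autoImplicit false
set_option linter.unusedSectionVars false
set_option linter.style.haveILetI false

namespace Cfsg.Agent.Lib.SingleColumn

open scoped ComplexConjugate
open Cfsg Cfsg.Agent.Lib Finset Subgroup
open Cfsg.Agent.Lib.DefectOne
open Cfsg.Agent.Lib.Blocks Cfsg.Agent.Lib.Blocks.FrobeniusSylow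
open Cfsg.Agent.Lib.SmallGroups.PrimeChar (xp fusion one_mem_fusion xp_one xp_zero xp_add
  card_normalizer_zpowers)

variable {G : Type*} [Group G] [Fintype G] {p : ℕ} [hp : Fact p.Prime] {S : Local p G}

noncomputable local instance instFintypeVSelf : Fintype S.V := Fintype.ofFinite _

namespace Tight

variable {ζ : IrrCharacter G} (T : Tight S ζ)
include T

/-- A nontrivial character takes the degree only at `p`-regular elements. -/
theorem regular_of_apply_eq (χ : IrrCharacter G) (hne : χ ≠ Chars.trivialIrr G) {g : G}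
    (hg : (χ : G → ℂ) g = (χ : G → ℂ) 1) : ¬ p ∣ orderOf g := by
  intro hd
  refine hne (eq_trivial_of_apply_eq T.hgen χ ?_)
  obtain ⟨n, ρ, -, hρ⟩ := χ.2
  rw [← hρ, ← Chars.rep_eq_one_iff] at hg ⊢
  have ho : orderOf (g ^ (orderOf g / p)) = p := orderOf_pow_orderOf_div (orderOf_pos g).ne' hd
  obtain ⟨c, hc⟩ := exists_conj_mem_zpowers T.hsq S.order_x ho
  have hz : c * g ^ (orderOf g / p) * c⁻¹ ≠ 1 := fun e => by
    rw [conj_eq_one_iff] at e
    rw [e, orderOf_one] at ho
    exact hp.out.ne_one ho.symm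
  obtain ⟨j, hj⟩ := (mem_zpowers_iff_xp S.order_x).mp hc
  have hj0 : j ≠ 0 := fun e => hz (by rw [← hj, e, xp_zero])
  have h1 : ρ (xp p S.x j) = 1 := by
    rw [hj]
    exact mem_kerRep_conj ρ (by rw [map_pow, hg, one_pow]) c
  have e := Cfsg.Agent.Lib.SmallGroups.PrimeChar.xp_mul S.order_x j j⁻¹
  rw [mul_inv_cancel₀ hj0, xp_one] at e
  rw [e, map_pow, h1, one_pow]

/-- The order of the group, when the centralizer of `x` is `⟨x⟩`. -/
theorem card_eq_of_bot (hV : S.V = ⊥) : Nat.card G = p * (p - 1) * (p - 2) := by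
  classical
  have hp5 := T.hp5
  have hpZ : IsPGroup p (zpowers S.x) := IsPGroup.of_card (n := 1) (by
    rw [Nat.card_zpowers, S.order_x, pow_one])
  obtain ⟨Q, hQ⟩ := hpZ.exists_le_sylow
  have hQeq : (Q : Subgroup G) = zpowers S.x := by
    refine (Subgroup.eq_of_le_of_card_ge hQ ?_).symm
    obtain ⟨k, hk⟩ := Q.isPGroup'.exists_card_eq
    rw [Nat.card_zpowers, S.order_x, hk]
    refine le_of_le_of_eq (Nat.pow_le_pow_right hp.out.pos ?_) (pow_one p)
    by_contra h
    exact T.hsq ((pow_dvd_pow p (by omega : 2 ≤ k)).trans (hk ▸ Subgroup.card_subgroup_dvd_card _))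
  have hP : Nat.card (Q : Subgroup G) = p := by rw [hQeq, Nat.card_zpowers, S.order_x]
  have hCx : centralizer ({S.x} : Set G) = zpowers S.x := by
    refine le_antisymm (fun c hc => ?_)
      (zpowers_le.mpr (mem_centralizer_singleton_iff.mpr rfl))
    obtain ⟨i, v, hv, rfl⟩ := S.factor c (mem_centralizer_singleton_iff.mp hc)
    rw [hV, mem_bot] at hv
    rw [hv, mul_one]
    exact pow_mem (mem_zpowers _) _
  have hC : ∀ y ∈ (Q : Subgroup G), y ≠ 1 → centralizer ({y} : Set G) = (Q : Subgroup G) := by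
    intro y hy hy1
    rw [hQeq] at hy
    obtain ⟨j, rfl⟩ := (mem_zpowers_iff_xp S.order_x).mp hy
    rw [Cfsg.Agent.Lib.SmallGroups.PrimeChar.centralizer_xp S.order_x
      (fun e => hy1 (by rw [e, xp_zero])), hCx, hQeq]
  have hN : Nat.card (normalizer ((Q : Subgroup G) : Set G)) = 2 * p := by
    rw [hQeq, card_normalizer_zpowers S.order_x, hCx, Nat.card_zpowers, S.order_x, T.hf]
  let : Fintype (↥(Q : Subgroup G) →* ℂˣ) := Fintype.ofFinite _
  have h : Data Q 2 := data_two hP hN hC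
  obtain ⟨Sh⟩ := nonempty_twoShape h hP (by omega) hC
  have hdegC : charDegree (ζ : G → ℂ) = p - 2 := by
    rw [charDegree, T.hdeg, Complex.natCast_re, Nat.floor_natCast]
  have hzval : ∀ j : ZMod p, j ≠ 0 → (ζ : G → ℂ) (xp p S.x j) = -eta S (T.a * j) := fun j hj => by
    rw [T.C.apply_xp, T.hd, Nat.cast_one, mul_one, T.hval j hj]
  have hxQ : S.x ∈ (Q : Subgroup G) := hQeq ▸ mem_zpowers _
  -- the faithful character is exceptional
  have hζtriv : ζ ≠ Chars.trivialIrr G := fun e => by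
    have h1 := T.hdeg
    rw [e, show (Chars.trivialIrr G : G → ℂ) 1 = 1 from rfl, eq_comm, Nat.cast_eq_one] at h1
    omega
  have hζchi : ζ ≠ Sh.chi := fun e => by
    have h1 := Sh.degree_chi_eq hP
    rw [← e, hdegC] at h1
    have h2 : (p : ℤ) ∣ (-2 : ℤ) - Sh.a := by
      refine (Int.dvd_iff_dvd_of_dvd_sub ?_).mp h1
      rw [Nat.cast_sub (by omega : 2 ≤ p)]
      exact ⟨1, by ring⟩
    have h3 : (-2 : ℤ) - Sh.a = 0 := Int.eq_zero_of_abs_lt_dvd h2 (by
      rcases Sh.sign_a with ha | ha <;> rw [ha] <;> norm_num <;> omega)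
    rcases Sh.sign_a with ha | ha <;> rw [ha] at h3 <;> norm_num at h3
  have hζY : ζ ∈ Sh.Y := by
    by_contra hY
    obtain ⟨k, hk⟩ := CharCount.exists_nat_sum_subgroup ζ (Q : Subgroup G)
    rw [← Finset.add_sum_erase _ _ (Finset.mem_univ (1 : ↥(Q : Subgroup G))), OneMemClass.coe_one,
      Finset.sum_eq_zero (fun y hy => Sh.vanish ζ hζtriv hζchi hY y (Finset.ne_of_mem_erase hy)),
      add_zero, hP, T.hdeg, ← Nat.cast_mul] at hk
    have e : p - 2 = p * k := Nat.cast_injective hk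
    rcases Nat.eq_zero_or_pos k with rfl | h0
    · omega
    · have := Nat.le_mul_of_pos_right p h0
      omega
  -- the degrees
  have hd := Sh.degree_chi_eq hP
  have hdz := Sh.degree_ζ hζY
  rw [hdegC, Nat.cast_sub (by omega : 2 ≤ p)] at hdz
  set d := charDegree (Sh.chi : G → ℂ) with hddef
  have hδa : Sh.a = -1 ∧ d = p - 1 := by
    rcases Sh.sign_δ with e1 | e1 <;> rcases Sh.sign_a with e2 | e2 <;> rw [e1, e2] at hdz <;>
      rw [e2] at hd
    · exfalso
      have h4 : (p : ℤ) ∣ (-4 : ℤ) := by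
        refine (Int.dvd_iff_dvd_of_dvd_sub ?_).mp hd
        exact ⟨1, by push_cast at hdz ⊢; linarith⟩
      have := Int.le_of_dvd (by norm_num : (0:ℤ) < 4) (dvd_neg.mp h4)
      omega
    · exfalso
      push_cast at hdz
      omega
    · exfalso
      push_cast at hdz
      omega
    · exact ⟨e2, by push_cast at hdz; omega⟩
  have hker : ∀ η ∈ Sh.Y, ∀ g : G, (η : G → ℂ) g = (η : G → ℂ) 1 → g = 1 := by
    intro η hη g hg
    have hne : η ≠ Chars.trivialIrr G := fun e => Sh.triv_notMem (e ▸ hη)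
    have hreg := T.regular_of_apply_eq η hne hg
    have h1 := Sh.regular η hη g hreg
    have h2 := Sh.regular ζ hζY g hreg
    have h3 := Sh.regular η hη 1 one_regular
    have h4 := Sh.regular ζ hζY 1 one_regular
    have hδ0 : (Sh.δ : ℂ) ≠ 0 := by rcases Sh.sign_δ with e | e <;> simp [e]
    refine T.hfaith g (mul_left_cancel₀ hδ0 ?_)
    linear_combination h1 - h2 + h4 - h3 + (Sh.δ : ℂ) * hg
  exact Sh.card_eq h hP (by omega) hC hδa.1 hδa.2 hker

end Tight

end Cfsg.Agent.Lib.SingleColumn
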