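/-
The twisted symmetric and alternating squares against the block.
-/
import Mathlib
import Cfsg.Agent.Lib.SingleColumn.Block
import Cfsg.Agent.Lib.Chars.Indicator
import Cfsg.Agent.Lib.SmallGroups.PrimeChar.Involutions

set_option autoImplicit false
set_option linter.unusedSectionVars false
set_option linter.style.haveILetI false

namespace Cfsg.Agent.Lib.SingleColumn

open scoped ComplexConjugate
open Cfsg Cfsg.Agent.Lib Finset Subgroup
open Cfsg.Agent.Lib.DefectOne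
open Cfsg.Agent.Lib.SmallGroups.PrimeChar (xp fusion one_mem_fusion xp_one xp_zero xp_add)

variable {G : Type*} [Group G] [Fintype G] {p : ℕ} [hp : Fact p.Prime] {S : Local p G}

noncomputable local instance instFintypeVTwist : Fintype S.V := Fintype.ofFinite _

namespace Tight

variable {ζ : IrrCharacter G} (T : Tight S ζ)
include T

theorem eta_sq (i : ZMod p) : eta S i * eta S i = eta S (2 * i) + 2 := by
  rw [eta_mul, T.fusion_eq, sum_pair T.neg_one_ne_one.symm, mul_one, ← two_mul,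
    show i + i * (-1) = 0 by ring, eta_zero, T.hf, Nat.cast_ofNat]

/-- The twisted squares. -/
theorem exists_squares :
    ∃ Ψ₁ Ψ₂ : G → ℂ, IsCharacter G Ψ₁ ∧ IsCharacter G Ψ₂ ∧
      (∀ (j : ZMod p) (v : S.V), Ψ₁ (pt S (j, v)) = (T.C.φ : S.V → ℂ) v * Ψ₁ (xp p S.x j)) ∧
      (∀ (j : ZMod p) (v : S.V), Ψ₂ (pt S (j, v)) = (T.C.φ : S.V → ℂ) v * Ψ₂ (xp p S.x j)) ∧
      (∀ j : ZMod p, j ≠ 0 → Ψ₁ (xp p S.x j) = 1) ∧
      (∀ j : ZMod p, j ≠ 0 → Ψ₂ (xp p S.x j) = 1 + eta S (2 * T.a * j)) ∧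
      (2 * Ψ₁ 1 = ((p - 2 : ℕ) : ℂ) * ((p - 2 : ℕ) : ℂ) + ((p - 2 : ℕ) : ℂ)) ∧
      (2 * Ψ₂ 1 = ((p - 2 : ℕ) : ℂ) * ((p - 2 : ℕ) : ℂ) - ((p - 2 : ℕ) : ℂ)) ∧
      ∀ (u : G) (s : ℤ), u * u = 1 → (ζ : G → ℂ) u = s →
        2 * Ψ₁ u = (s : ℂ) * s + ((p - 2 : ℕ) : ℂ) ∧ 2 * Ψ₂ u = (s : ℂ) * s - ((p - 2 : ℕ) : ℂ) := by
  classical
  have hp5 := T.hp5
  obtain ⟨n, ρ, -, hρ⟩ := ζ.2
  obtain ⟨σ, α, hσ, hα, hadd, hsub⟩ := Chars.exists_sym_alt ρ
  simp only [hρ] at hadd hsub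
  -- the exponent
  set m := p - 2 with hm
  set t := (reps S).card with ht
  have hpt' : 2 * t + 1 = p := T.card_reps_eq
  have hco : Nat.Coprime p m := by
    refine (Nat.Prime.coprime_iff_not_dvd hp.out).mpr fun h => ?_
    have := Nat.le_of_dvd (by omega) h
    omega
  obtain ⟨e, he1, he2⟩ := Nat.chineseRemainder hco 1 t
  have hte : 2 * e % m = 1 := by
    have h1 : 2 * e % m = 2 * t % m := Nat.ModEq.mul_left 2 he2
    rw [h1, show 2 * t = m + 1 by omega, Nat.add_mod_left, Nat.mod_eq_of_lt (by omega)]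
  have hecop : Nat.Coprime e (p * m) := by
    refine Nat.Coprime.mul_right ?_ ?_
    · rw [Nat.Coprime, Nat.ModEq.gcd_eq he1, Nat.gcd_one_left]
    · refine Nat.Coprime.coprime_mul_left (k := 2) ?_
      rw [Nat.Coprime, Nat.gcd_comm, Nat.gcd_rec, hte, Nat.gcd_one_left]
  obtain ⟨τ, hτ⟩ := GaloisChar.exists_ringEquiv_pow (m := p * m) (Nat.mul_pos hp.out.pos (by omega)) hecop
  have hτφ : ∀ v : S.V, τ ((T.C.φ : S.V → ℂ) v ^ 2) = (T.C.φ : S.V → ℂ) v := by
    intro v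
    have h := T.φ_pow_sub v
    rw [hτ _ (by rw [← pow_mul, mul_comm 2, mul_comm p, mul_assoc, pow_mul, h, one_pow]), ← pow_mul,
      pow_eq_pow_mod (2 * e) h, hte, pow_one]
  have hτeta : ∀ i : ZMod p, τ (eta S i) = eta S i := by
    intro i
    rw [eta, map_sum]
    refine sum_congr rfl fun w _ => ?_
    have h : (ZMod.stdAddChar (i * w) : ℂ) ^ p = 1 := by
      rw [← AddChar.map_nsmul_eq_pow, nsmul_eq_mul, ZMod.natCast_self, zero_mul,
        AddChar.map_zero_eq_one]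
    rw [hτ _ (by rw [pow_mul, h, one_pow]), pow_eq_pow_mod e h]
    have : e % p = 1 := by rw [he1, Nat.mod_eq_of_lt (by omega)]
    rw [this, pow_one]
  have h2 : (2 : ℂ) ≠ 0 := two_ne_zero
  have hσ' : ∀ g : G, 2 * σ g = (ζ : G → ℂ) g * (ζ : G → ℂ) g + (ζ : G → ℂ) (g * g) := fun g => by
    linear_combination -(hadd g) - hsub g
  have hα' : ∀ g : G, 2 * α g = (ζ : G → ℂ) g * (ζ : G → ℂ) g - (ζ : G → ℂ) (g * g) := fun g => by
    linear_combination -(hadd g) + hsub g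
  have hsq : ∀ (j : ZMod p) (v : S.V), pt S (j, v) * pt S (j, v) = pt S (j + j, v * v) := by
    intro j v
    show xp p S.x j * v * (xp p S.x j * v) = xp p S.x (j + j) * ((v * v : S.V) : G)
    rw [xp_add S.order_x, Subgroup.coe_mul, (xp_commute S j v.2).symm.mul_mul_mul_comm]
  have hz : ∀ (j : ZMod p) (v : S.V), (ζ : G → ℂ) (pt S (j, v)) =
      (T.C.φ : S.V → ℂ) v * (ζ : G → ℂ) (xp p S.x j) := fun j v => by
    rw [T.C.apply_pt, T.C.apply_xp, T.hd, Nat.cast_one, mul_one, mul_comm]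
  have hzsq : ∀ (j : ZMod p) (v : S.V), (ζ : G → ℂ) (pt S (j, v) * pt S (j, v)) =
      (T.C.φ : S.V → ℂ) v ^ 2 * (ζ : G → ℂ) (xp p S.x (j + j)) := fun j v => by
    rw [hsq, hz, T.φ_mul, pow_two]
  have hxsq : ∀ j : ZMod p, xp p S.x j * xp p S.x j = xp p S.x (j + j) := fun j =>
    (xp_add S.order_x j j).symm
  have hval : ∀ j : ZMod p, j ≠ 0 → (ζ : G → ℂ) (xp p S.x j) = -eta S (T.a * j) := fun j hj => by
    rw [T.C.apply_xp, T.hd, Nat.cast_one, mul_one, T.hval j hj]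
  have hjj : ∀ j : ZMod p, j ≠ 0 → j + j ≠ 0 := by
    intro j hj h
    rw [← two_mul, mul_eq_zero] at h
    refine h.elim (fun h2 => ?_) hj
    have : ((2 : ℕ) : ZMod p) = 0 := by exact_mod_cast h2
    have := Nat.le_of_dvd two_pos ((ZMod.natCast_eq_zero_iff 2 p).mp this)
    omega
  refine ⟨fun g => τ (σ g), fun g => τ (α g), GaloisChar.isCharacter_gal (τ : ℂ →+* ℂ) hσ,
    GaloisChar.isCharacter_gal (τ : ℂ →+* ℂ) hα, fun j v => ?_, fun j v => ?_, fun j hj => ?_,
    fun j hj => ?_, ?_, ?_, fun u s hu hs => ⟨?_, ?_⟩⟩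
  · have e1 : σ (pt S (j, v)) = (T.C.φ : S.V → ℂ) v ^ 2 * σ (xp p S.x j) := by
      refine mul_left_cancel₀ h2 ?_
      rw [mul_left_comm, hσ', hσ', hzsq, hz, hxsq]; ring
    show τ (σ (pt S (j, v))) = _ * τ (σ (xp p S.x j))
    rw [e1, map_mul, hτφ]
  · have e1 : α (pt S (j, v)) = (T.C.φ : S.V → ℂ) v ^ 2 * α (xp p S.x j) := by
      refine mul_left_cancel₀ h2 ?_
      rw [mul_left_comm, hα', hα', hzsq, hz, hxsq]; ring
    show τ (α (pt S (j, v))) = _ * τ (α (xp p S.x j))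
    rw [e1, map_mul, hτφ]
  · have e1 : σ (xp p S.x j) = 1 := by
      refine mul_left_cancel₀ h2 ?_
      rw [hσ', hxsq, hval j hj, hval _ (hjj j hj), neg_mul_neg, T.eta_sq,
        show T.a * (j + j) = 2 * (T.a * j) by ring]
      ring
    show τ (σ (xp p S.x j)) = 1
    rw [e1, map_one]
  · have e1 : α (xp p S.x j) = 1 + eta S (2 * T.a * j) := by
      refine mul_left_cancel₀ h2 ?_
      rw [hα', hxsq, hval j hj, hval _ (hjj j hj), neg_mul_neg, T.eta_sq,
        show T.a * (j + j) = 2 * (T.a * j) by ring, mul_assoc 2 T.a]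
      ring
    show τ (α (xp p S.x j)) = _
    rw [e1, map_add, map_one, hτeta]
  · have e1 := congrArg τ (hσ' 1)
    rw [mul_one, T.hdeg] at e1
    simpa only [map_mul, map_add, map_natCast, map_ofNat] using e1
  · have e1 := congrArg τ (hα' 1)
    rw [mul_one, T.hdeg] at e1
    simpa only [map_mul, map_sub, map_natCast, map_ofNat] using e1
  · have e1 := congrArg τ (hσ' u)
    rw [hu, T.hdeg, hs] at e1
    simpa only [map_mul, map_add, map_natCast, map_intCast, map_ofNat] using e1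
  · have e1 := congrArg τ (hα' u)
    rw [hu, T.hdeg, hs] at e1
    simpa only [map_mul, map_sub, map_natCast, map_intCast, map_ofNat] using e1

end Tight

namespace Blk

variable {ζ : IrrCharacter G} {T : Tight S ζ} (B : Blk T)
include B

theorem degOf_fam {b : ZMod p} (hb : b ∈ reps S) : degOf (B.fam b) = p - 2 := by
  have e := B.fam_reg b hb 1 (by rw [orderOf_one]; exact hp.out.not_dvd_one)
  rw [T.hdeg, apply_one_eq_degOf] at e
  exact Nat.cast_injective e

/-- A character scalar on the complement, expanded on `x`. -/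
theorem exists_decomp {Ψ : G → ℂ} (hΨ : IsCharacter G Ψ)
    (hpt : ∀ (j : ZMod p) (v : S.V), Ψ (pt S (j, v)) = (T.C.φ : S.V → ℂ) v * Ψ (xp p S.x j))
    {D : ℕ} (hD : Ψ 1 = D) :
    ∃ k : IrrCharacter G → ℕ,
      (∀ g, Ψ g = ∑ χ : IrrCharacter G, (k χ : ℂ) * (χ : G → ℂ) g) ∧
      (∀ j : ZMod p, j ≠ 0 → Ψ (xp p S.x j) =
        -(∑ b ∈ reps S, (k (B.fam b) : ℂ) * eta S (b * j)) + k B.P - k B.M) ∧
      (∑ b ∈ reps S, k (B.fam b)) * (p - 2) + k B.P * degOf B.P ≤ D ∧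
      ((∑ b ∈ reps S, k (B.fam b)) * (p - 2) = D →
        ∀ χ : IrrCharacter G, (∀ b ∈ reps S, B.fam b ≠ χ) → k χ = 0) := by
  classical
  obtain ⟨k, hk⟩ := Chars.isCharacter_exists_nat_decomp hΨ
  have hkg : ∀ g, Ψ g = ∑ χ : IrrCharacter G, (k χ : ℂ) * (χ : G → ℂ) g := fun g => by
    rw [hk, Finset.sum_apply]; rfl
  have hV : (Nat.card S.V : ℂ) ≠ 0 := Nat.cast_ne_zero.mpr Nat.card_pos.ne'
  refine ⟨k, hkg, fun j hj => ?_, ?_⟩
  · have e : (Nat.card S.V : ℂ) * Ψ (xp p S.x j) =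
        (Nat.card S.V : ℂ) * ∑ χ : IrrCharacter G, (k χ : ℂ) * colVal S χ T.C.φ j := by
      have e2 : ∑ v : S.V, Ψ (pt S (j, v)) * conj ((T.C.φ : S.V → ℂ) v) =
          (Nat.card S.V : ℂ) * Ψ (xp p S.x j) := by
        simp only [hpt, mul_right_comm _ (Ψ _)]
        rw [← sum_mul, sum_apply_mul_conj, if_pos rfl]
      rw [← e2, mul_sum]
      simp only [hkg, sum_mul]
      rw [sum_comm]
      refine sum_congr rfl fun χ _ => ?_
      rw [sum_congr rfl fun v _ => mul_assoc (k χ : ℂ) _ _, ← mul_sum, sum_pt_mul_conj]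
      ring
    rw [mul_left_cancel₀ hV e, B.sum_eq _ fun χ h => by rw [h j hj, mul_zero], B.P_col j hj,
      B.M_col j hj, sum_congr rfl (g := fun b => -((k (B.fam b) : ℂ) * eta S (b * j))) fun b hb => by
        rw [B.fam_col b hb j hj, mul_neg], sum_neg_distrib]
    ring
  · have hsum : ∑ χ : IrrCharacter G, k χ * degOf χ = D := by
      rw [← Nat.cast_inj (R := ℂ), ← hD, hkg]
      push_cast
      exact sum_congr rfl fun χ _ => by rw [apply_one_eq_degOf]
    have himg : ∑ χ ∈ (reps S).image B.fam, k χ * degOf χ = (∑ b ∈ reps S, k (B.fam b)) * (p - 2) := by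
      rw [sum_image B.inj, sum_mul]
      exact sum_congr rfl fun b hb => by rw [B.degOf_fam hb]
    have hP : B.P ∉ (reps S).image B.fam := fun h => by
      obtain ⟨b, hb, e⟩ := mem_image.mp h
      exact B.notP b hb e
    refine ⟨?_, fun heq χ hχ => ?_⟩
    · rw [← himg, ← hsum, add_comm, ← sum_insert (f := fun χ => k χ * degOf χ) hP]
      exact sum_le_sum_of_subset (subset_univ _)
    · have hsd := sum_sdiff (f := fun χ => k χ * degOf χ) (subset_univ ((reps S).image B.fam))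
      rw [himg, hsum, heq] at hsd
      have h0 : ∑ ξ ∈ univ \ (reps S).image B.fam, k ξ * degOf ξ = 0 := by omega
      have := sum_eq_zero_iff.mp h0 χ (by
        simp only [mem_sdiff, mem_univ, true_and, mem_image, not_exists, not_and]
        exact hχ)
      refine (mul_eq_zero.mp this).resolve_right fun h => Chars.irr_apply_one_ne_zero χ ?_
      rw [apply_one_eq_degOf, h, Nat.cast_zero]

theorem apply_exact {Ψ : G → ℂ} {k : IrrCharacter G → ℕ}
    (hk : ∀ g, Ψ g = ∑ χ : IrrCharacter G, (k χ : ℂ) * (χ : G → ℂ) g)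
    (h0 : ∀ χ : IrrCharacter G, (∀ b ∈ reps S, B.fam b ≠ χ) → k χ = 0) {g : G}
    (hg : ¬ p ∣ orderOf g) :
    Ψ g = ((∑ b ∈ reps S, k (B.fam b) : ℕ) : ℂ) * (ζ : G → ℂ) g := by
  classical
  rw [hk, ← sum_subset (subset_univ ((reps S).image B.fam)) fun χ _ hχ => by
    rw [h0 χ fun b hb e => hχ (mem_image.mpr ⟨b, hb, e⟩), Nat.cast_zero, zero_mul],
    sum_image B.inj, Nat.cast_sum, sum_mul]
  exact sum_congr rfl fun b hb => by rw [B.fam_reg b hb g hg]

/-- An involution inverting `x` has value `-1`, and `P` has bounded degree. -/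
theorem involution_value_and_bound {u : G} (hu : orderOf u = 2) (hux : u * S.x * u⁻¹ = S.x⁻¹) :
    (ζ : G → ℂ) u = -1 ∧ degOf B.P ≤ (p - 2) * (reps S).card := by
  classical
  have hp5 := T.hp5
  set m := p - 2 with hm
  set t := (reps S).card with ht
  have hpt' : 2 * t + 1 = p := T.card_reps_eq
  have hreg : ¬ p ∣ orderOf u := fun h => by
    rw [hu] at h
    have := Nat.le_of_dvd two_pos h
    omega
  have huu : u * u = 1 := by rw [← pow_two, ← hu]; exact pow_orderOf_eq_one u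
  obtain ⟨s, hs⟩ := Cfsg.Agent.Lib.SmallGroups.PrimeChar.exists_int_apply_involution ζ hu
  have hsm : s ≠ m := by
    intro h
    have hne : ζ ≠ Chars.trivialIrr G := fun e => by
      have h1 := T.hdeg
      rw [e, show (Chars.trivialIrr G : G → ℂ) 1 = 1 from rfl, eq_comm, Nat.cast_eq_one] at h1
      omega
    refine apply_ne_one_of_inverts T.two_ne T.hgen ζ hne hux ?_
    rw [hs, h, T.hdeg, Int.cast_natCast]
  obtain ⟨Ψ₁, Ψ₂, hc₁, hc₂, hpt₁, hpt₂, hx₁, hx₂, hd₁, hd₂, hu12⟩ := T.exists_squares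
  obtain ⟨hu₁, hu₂⟩ := hu12 u s huu hs
  have hmC : (m : ℂ) + 1 = 2 * (t : ℂ) := by
    exact_mod_cast (by omega : m + 1 = 2 * t)
  have hD₁ : Ψ₁ 1 = ((m * t : ℕ) : ℂ) := by
    push_cast
    linear_combination (1 / 2 : ℂ) * hd₁ + ((m : ℂ) / 2) * hmC
  have hD₂ : Ψ₂ 1 = ((m * (t - 1) : ℕ) : ℂ) := by
    rw [Nat.cast_mul, Nat.cast_sub (by omega : 1 ≤ t), Nat.cast_one]
    linear_combination (1 / 2 : ℂ) * hd₂ + ((m : ℂ) / 2) * hmC
  have h2a : 2 * T.a ≠ 0 := mul_ne_zero (fun h2 => by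
    have : ((2 : ℕ) : ZMod p) = 0 := by exact_mod_cast h2
    have := Nat.le_of_dvd two_pos ((ZMod.natCast_eq_zero_iff 2 p).mp this)
    omega) T.ha
  obtain ⟨b₀, hb₀, w, hw, hbw⟩ := exists_rep S h2a
  -- the alternating square
  obtain ⟨k, hk, hkx, hkle, hkexact⟩ := B.exists_decomp hc₂ hpt₂ hD₂
  have hcoef : ∀ b ∈ reps S, (k (B.fam b) : ℤ) + (if b = b₀ then 1 else 0) =
      1 - k B.P + k B.M := by
    intro b hb
    have h := coeff_eq_of_sum_eta S (fun b => (k (B.fam b) : ℂ) + if b = b₀ then 1 else 0)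
      ((k B.P : ℂ) - k B.M - 1) (fun j hj => ?_) hb
    · rw [← Int.cast_inj (α := ℂ)]
      push_cast
      linear_combination h
    · simp only [add_mul, sum_add_distrib, ite_mul, one_mul, zero_mul, sum_ite_eq', hb₀, if_true]
      have e := hkx j hj
      rw [hx₂ j hj, ← hbw, show b₀ * w * j = b₀ * j * w by ring, eta_mul_fusion S _ hw] at e
      linear_combination e
  obtain ⟨hS2, hrest⟩ : (∑ b ∈ reps S, k (B.fam b)) = t - 1 ∧
      ∀ χ : IrrCharacter G, (∀ b ∈ reps S, B.fam b ≠ χ) → k χ = 0 := by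
    obtain ⟨K, hK⟩ : ∃ K : ℕ, (K : ℤ) = 1 - k B.P + k B.M := by
      have := hcoef b₀ hb₀
      rw [if_pos rfl] at this
      exact ⟨k (B.fam b₀) + 1, by push_cast; exact this⟩
    have hK1 : 1 ≤ K := by
      have := hcoef b₀ hb₀
      rw [if_pos rfl, ← hK] at this
      omega
    have hsum : (∑ b ∈ reps S, k (B.fam b)) + 1 = t * K := by
      have e : ∑ b ∈ reps S, ((k (B.fam b) : ℤ) + (if b = b₀ then 1 else 0)) = ∑ _b ∈ reps S, (K : ℤ) :=
        sum_congr rfl fun b hb => by rw [hcoef b hb, hK]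
      rw [sum_add_distrib, sum_ite_eq', if_pos hb₀, sum_const, nsmul_eq_mul] at e
      exact_mod_cast e
    have hle : ∑ b ∈ reps S, k (B.fam b) ≤ t - 1 := by
      refine Nat.le_of_mul_le_mul_left (c := m) ?_ (by omega)
      rw [mul_comm]
      exact le_trans (Nat.le_add_right _ _) hkle
    have hge : t ≤ t * K := Nat.le_mul_of_pos_right t hK1
    have hS2 : ∑ b ∈ reps S, k (B.fam b) = t - 1 := by omega
    exact ⟨hS2, hkexact (by rw [hS2, mul_comm])⟩
  have hval : s = -1 := by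
    have e := B.apply_exact hk hrest hreg
    rw [hS2, Nat.cast_sub (by omega : 1 ≤ t), Nat.cast_one, hs] at e
    have e2 : ((s - m) * (s + 1) : ℤ) = 0 := by
      rw [← Int.cast_inj (α := ℂ)]
      push_cast
      linear_combination 2 * e - hu₂ - (s : ℂ) * hmC
    rcases mul_eq_zero.mp e2 with h | h <;> omega
  refine ⟨by rw [hs, hval]; norm_num, ?_⟩
  -- the symmetric square
  obtain ⟨l, hl, hlx, hlle, hlexact⟩ := B.exists_decomp hc₁ hpt₁ hD₁
  have hlcoef : ∀ b ∈ reps S, (l (B.fam b) : ℤ) = 1 - l B.P + l B.M := by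
    intro b hb
    have h := coeff_eq_of_sum_eta S (fun b => (l (B.fam b) : ℂ))
      ((l B.P : ℂ) - l B.M - 1) (fun j hj => ?_) hb
    · rw [← Int.cast_inj (α := ℂ)]
      push_cast
      linear_combination h
    · have e := hlx j hj
      rw [hx₁ j hj] at e
      linear_combination e
  by_cases hP : l B.P = 0
  · exfalso
    have hpos : ∀ b ∈ reps S, 1 ≤ l (B.fam b) := fun b hb => by
      have := hlcoef b hb
      omega
    have hge : t ≤ ∑ b ∈ reps S, l (B.fam b) := by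
      have := sum_le_sum hpos
      simpa using this
    have hle : ∑ b ∈ reps S, l (B.fam b) ≤ t := by
      refine Nat.le_of_mul_le_mul_left (c := m) ?_ (by omega)
      rw [mul_comm]
      exact le_trans (Nat.le_add_right _ _) hlle
    have hS1 : ∑ b ∈ reps S, l (B.fam b) = t := le_antisymm hle hge
    have e := B.apply_exact hl (hlexact (by rw [hS1, mul_comm])) hreg
    rw [hS1, hs] at e
    have e2 : (1 : ℤ) + m + 2 * t = 0 := by
      rw [← Int.cast_inj (α := ℂ)]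
      push_cast
      rw [hval] at e hu₁
      push_cast at e hu₁
      linear_combination 2 * e - hu₁
    omega
  · calc degOf B.P ≤ l B.P * degOf B.P := Nat.le_mul_of_pos_left _ (Nat.pos_of_ne_zero hP)
      _ ≤ (∑ b ∈ reps S, l (B.fam b)) * m + l B.P * degOf B.P := Nat.le_add_left _ _
      _ ≤ m * t := hlle

end Blk

end Cfsg.Agent.Lib.SingleColumn
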