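/-
The linear column forces a trivial center and the order `p (p - 1) (p - 2)`.
-/
import Mathlib
import Cfsg.Agent.Lib.SingleColumn.SelfCent
import Cfsg.Agent.Lib.SingleColumn.Twist
import Cfsg.Agent.Lib.SingleColumn.Central
import Cfsg.Agent.Lib.SingleColumn.Arith

set_option autoImplicit false
set_option linter.unusedSectionVars false
set_option linter.style.haveILetI false

namespace Cfsg.Agent.Lib.SingleColumn

open scoped ComplexConjugate
open Cfsg Cfsg.Agent.Lib Finset Subgroup
open Cfsg.Agent.Lib.DefectOne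
open Cfsg.Agent.Lib.SmallGroups.PrimeChar (xp fusion)

variable {G : Type*} [Group G] [Fintype G] {p : ℕ} [hp : Fact p.Prime] {S : Local p G}

noncomputable local instance instFintypeVSmall : Fintype S.V := Fintype.ofFinite _

namespace Tight

variable {ζ : IrrCharacter G} (T : Tight S ζ)
include T

theorem odd_prime_of_dvd {q : ℕ} (hq : q.Prime) (h : q ∣ Nat.card S.V) : 3 ≤ q := by
  by_contra hlt
  obtain rfl : q = 2 := by have := hq.two_le; omega
  haveI : Fact (Nat.Prime 2) := ⟨Nat.prime_two⟩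
  obtain ⟨v, hv⟩ := exists_prime_orderOf_dvd_card' (G := S.V) 2 h
  have h2 := orderOf_dvd_of_pow_eq_one (T.pow_sub v)
  rw [hv] at h2
  obtain ⟨i, hi⟩ := T.odd_sub
  omega

theorem three_dvd_of_scalar (h : 3 ∣ Nat.card S.V) (χ : IrrCharacter G) {e : ℕ}
    (hχ : ∀ v : S.V, (χ : G → ℂ) (v : G) = (e : ℂ) * (T.C.φ : S.V → ℂ) v) : 3 ∣ e := by
  haveI : Fact (Nat.Prime 3) := ⟨Nat.prime_three⟩
  obtain ⟨v, hv⟩ := exists_prime_orderOf_dvd_card' (G := S.V) 3 h
  exact hv ▸ orderOf_dvd_of_pow_eq_one (T.eq_one_of_φ (by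
    rw [T.φ_pow, T.pow_eq_one_of_scalar χ hχ]))

/-- The complement is trivial. -/
theorem V_eq_bot : S.V = ⊥ := by
  classical
  by_contra hV
  have hp5 := T.hp5
  have hp7 : 7 ≤ p := by
    have : p ≠ 6 := fun e => absurd (e ▸ hp.out) (by norm_num)
    omega
  obtain ⟨B⟩ := T.exists_blk hV
  obtain ⟨Q⟩ := T.exists_pdata
  have ht := T.card_reps_eq
  obtain ⟨b₀, hb₀⟩ : (reps S).Nonempty := card_pos.mp (by omega)
  have hpR : (7 : ℝ) ≤ p := by exact_mod_cast hp7
  have hPR : (p : ℝ) + 1 ≤ degOf B.P := by exact_mod_cast B.deg_P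
  have hMR : (degOf B.M : ℝ) = degOf B.P + ((p : ℝ) - 2) := by
    rw [B.deg_M, Nat.cast_add, Nat.cast_sub (by omega : 2 ≤ p)]
    norm_num
  have hineq3 := B.ineq Q 3 (by norm_num) (fun q hq h => T.odd_prime_of_dvd hq h) b₀ hb₀
  norm_num at hineq3
  rcases Q.cases b₀ hb₀ with ⟨hε, ha, hy⟩ | ⟨hε, ha, hy, hc⟩
  · have := bound_neg hpR hPR hMR
    rw [hε, ha] at hineq3
    push_cast at hineq3
    have h1 : (0 : ℝ) ≤ 1 / degOf Q.chi := by positivity
    have h2 : (0 : ℝ) ≤ ((p : ℝ) - 4) / degOf (Q.e b₀) := div_nonneg (by linarith) (Nat.cast_nonneg _)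
    simp only [neg_mul, one_mul, neg_div] at hineq3
    norm_num at hineq3 this
    rw [one_div] at h1
    linarith
  have hyR : (degOf (Q.e b₀) : ℝ) = (degOf Q.chi : ℝ) + 1 := by rw [hy]; push_cast; rfl
  have hcR : (p : ℝ) + 1 ≤ degOf Q.chi := by exact_mod_cast hc
  rw [hε, ha, hyR] at hineq3
  push_cast at hineq3
  by_cases h3 : ¬ 3 ∣ Nat.card S.V
  · have hineq5 := B.ineq Q 5 (by norm_num) (fun q hq h => by
      have := T.odd_prime_of_dvd hq h
      by_contra hlt
      have h4 : q ≠ 4 := fun e => absurd (e ▸ hq) (by norm_num)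
      obtain rfl : q = 3 := by omega
      exact h3 h) b₀ hb₀
    rw [hε, ha, hyR] at hineq5
    push_cast at hineq5
    have h4 := bound_four hpR hPR hMR
    have h1 : (1 : ℝ) / degOf Q.chi + ((p : ℝ) - 4) / ((degOf Q.chi : ℝ) + 1) ≤ 1 := by
      have hb : ((p : ℝ) - 4) / ((degOf Q.chi : ℝ) + 1) ≤ ((p : ℝ) - 4) / degOf Q.chi :=
        div_le_div_of_nonneg_left (by linarith) (by linarith) (by linarith)
      have : ((1 : ℝ) + (p - 4)) / degOf Q.chi ≤ 1 := (div_le_one (by linarith)).mpr (by linarith)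
      rw [add_div] at this
      linarith
    norm_num at hineq5 h4 h1
    linarith
  rw [not_not] at h3
  have h3n : 3 ∣ p - 2 := T.three_dvd_of_scalar h3 ζ T.apply_coe
  have h3P : 3 ∣ degOf B.P := T.three_dvd_of_scalar h3 B.P B.P_V
  have hp11 : 11 ≤ p := by
    obtain ⟨i, hi⟩ := h3n
    have : p ≠ 8 := fun e => absurd (e ▸ hp.out) (by norm_num)
    have : p ≠ 9 := fun e => absurd (e ▸ hp.out) (by norm_num)
    have : p ≠ 10 := fun e => absurd (e ▸ hp.out) (by norm_num)
    omega
  -- the degree of the rational character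
  have hcp : degOf Q.chi = p + 1 := by
    by_contra hne
    have h2p : 2 * p + 1 ≤ degOf Q.chi := by
      obtain ⟨k, hk⟩ := Q.congr_chi
      rw [ha] at hk
      have : 2 ≤ k := by
        by_contra h
        rcases (by omega : k ≤ 0 ∨ k = 1) with h' | rfl
        · have : (p : ℤ) * k ≤ 0 := mul_nonpos_of_nonneg_of_nonpos (by positivity) h'
          omega
        · omega
      have : (p : ℤ) * 2 ≤ p * k := mul_le_mul_of_nonneg_left this (by positivity)
      omega
    have := bound_large (c := (degOf Q.chi : ℝ)) (by exact_mod_cast hp11) (by exact_mod_cast h2p) hPR hMR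
    norm_num at this hineq3
    linarith
  -- an involution
  obtain ⟨u, hu, hux⟩ := T.exists_involution T.odd_sub T.pow_sub
  obtain ⟨X, Y, hX, hXY⟩ := B.key_equation Q hε ha hu hux hb₀ hy
  rw [B.deg_M, hcp] at hXY
  obtain ⟨-, hbound⟩ := B.involution_value_and_bound hu hux
  obtain ⟨j, hj⟩ := B.congr_P
  have hP1 := B.deg_P
  have hjpos : 0 < j := by
    by_contra h
    have : (p : ℤ) * j ≤ 0 := mul_nonpos_of_nonneg_of_nonpos (by positivity) (by omega)
    omega
  have hB0 : degOf B.P * (degOf B.P + (p - 2)) * (p - 2) ≠ 0 :=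
    mul_ne_zero (mul_ne_zero (by omega) (by omega)) (by omega)
  by_cases hj1 : j = 1
  · -- the smallest block character
    subst hj1
    have hP : degOf B.P = p + 1 := by omega
    rw [hP] at hXY
    obtain ⟨k, hk⟩ := exists_sq_of (A := p + 2) (B := (2 * p - 1) * (p - 2)) (X := X) (Y := Y) hX
      (mul_ne_zero (by omega) (by omega)) (mul_left_cancel₀ (by omega : p + 1 ≠ 0) (by
        rw [show p + 1 + (p - 2) = 2 * p - 1 by omega] at hXY
        linear_combination hXY))
    exact not_sq_product hp5 (hp.out.odd_of_ne_two T.two_ne) h3n ⟨k, hk⟩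
  have hj4 : 4 ≤ j := by
    have h3P' : (3 : ℤ) ∣ (degOf B.P : ℤ) := by exact_mod_cast h3P
    have h3n' : (3 : ℤ) ∣ ((p : ℤ) - 2) := by
      have : (3 : ℤ) ∣ ((p - 2 : ℕ) : ℤ) := by exact_mod_cast h3n
      rwa [Nat.cast_sub (by omega : 2 ≤ p)] at this
    have e : (3 : ℤ) ∣ 2 * j + 1 := by
      have := dvd_sub h3P' (Dvd.dvd.mul_right h3n' j)
      have e2 : (degOf B.P : ℤ) - ((p : ℤ) - 2) * j = 2 * j + 1 := by linarith
      rwa [e2] at this
    omega
  have hj4P : 4 * p + 1 ≤ degOf B.P := by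
    have : (p : ℤ) * 4 ≤ p * j := mul_le_mul_of_nonneg_left hj4 (by positivity)
    omega
  have hlt : p < 23 := by
    by_contra h
    have hp23 : (23 : ℝ) ≤ p := by exact_mod_cast (by omega : 23 ≤ p)
    have := bound_small (p := (p : ℝ)) (nP := (degOf B.P : ℝ)) (nM := (degOf B.M : ℝ)) hp23
      (by exact_mod_cast hj4P) hMR
    rw [hcp] at hineq3
    push_cast at hineq3
    norm_num at this hineq3
    linarith
  -- the two remaining primes
  have hsq : ∃ k, (p + 1) * (p + 1 + 1) * (degOf B.P * (degOf B.P + (p - 2)) * (p - 2)) = k ^ 2 :=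
    exists_sq_of hX hB0 hXY
  have hp' : p = 11 ∨ p = 17 := by
    have : p ≠ 14 := fun e => absurd (e ▸ hp.out) (by norm_num)
    have : p ≠ 20 := fun e => absurd (e ▸ hp.out) (by norm_num)
    obtain ⟨i, hi⟩ := h3n
    omega
  rcases hp' with rfl | rfl
  · have h5 : (reps S).card = 5 := by omega
    rw [h5] at hbound
    have : j ≤ 4 := by
      have : (11 : ℤ) * j + 1 ≤ 45 := by omega
      omega
    have hP : degOf B.P = 45 := by omega
    rw [hP] at hsq
    exact not_sq_of_sqrt (by norm_num) hsq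
  · have h8 : (reps S).card = 8 := by omega
    rw [h8] at hbound
    obtain ⟨i, hi⟩ := h3P
    rcases (by omega : degOf B.P = 69 ∨ degOf B.P = 120) with hP | hP <;> rw [hP] at hsq <;>
      exact not_sq_of_sqrt (by norm_num) hsq

/-- The center is trivial. -/
theorem center_eq_bot : center G = ⊥ := by
  rw [T.center_eq, T.V_eq_bot]

/-- The order of the group. -/
theorem card_eq : Nat.card G = p * (p - 1) * (p - 2) :=
  T.card_eq_of_bot T.V_eq_bot

end Tight

end Cfsg.Agent.Lib.SingleColumn
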