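/-
A faithful character of degree `p - 2`: the normal closure of an element of order `p` is tight, and
the group is its product with the center.
-/
import Mathlib
import Cfsg.Agent.Lib.SingleColumn.CaseSmall
import Cfsg.Agent.Lib.Clifford.Restriction

set_option autoImplicit false
set_option linter.unusedSectionVars false
set_option linter.style.haveILetI false

namespace Cfsg.Agent.Lib.SingleColumn

open scoped ComplexConjugate
open Cfsg Cfsg.Agent.Lib Finset Subgroup
open Cfsg.Agent.Lib.DefectOne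
open Cfsg.Agent.Lib.SmallGroups.PrimeChar (xp fusion one_mem_fusion xp_one xp_zero)

variable {G : Type*} [Group G] [Fintype G] {p : ℕ} [hp : Fact p.Prime]

/-- An element of order `p` whose conjugates commute with it generates a normal subgroup. -/
theorem normal_zpowers_of_commute (hsq : ¬ p ^ 2 ∣ Nat.card G) {x : G} (hx : orderOf x = p)
    (h : ∀ g : G, Commute (g * x * g⁻¹) x) : (zpowers x).Normal := by
  have hmem : ∀ g : G, g * x * g⁻¹ ∈ zpowers x := by
    intro g
    let H := centralizer ({x} : Set G)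
    have hxH : x ∈ H := mem_centralizer_singleton_iff.mpr rfl
    have hyH : g * x * g⁻¹ ∈ H := mem_centralizer_singleton_iff.mpr (h g).eq
    obtain ⟨⟨c, hc⟩, hcx⟩ := exists_conj_mem_zpowers (K := H) (p := p)
      (fun h => hsq (h.trans H.card_subgroup_dvd_card)) (a := ⟨x, hxH⟩) (b := ⟨_, hyH⟩)
      (by rw [← Subgroup.orderOf_coe]; exact hx)
      (by
        rw [← Subgroup.orderOf_coe]
        show orderOf (MulAut.conj g x) = p
        rw [MulEquiv.orderOf_eq, hx])
    obtain ⟨i, hi⟩ := mem_zpowers_iff.mp hcx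
    have e := congrArg (Subtype.val : H → G) hi
    simp only [Subgroup.coe_zpow, Subgroup.coe_mul, Subgroup.coe_inv] at e
    refine mem_zpowers_iff.mpr ⟨i, ?_⟩
    have hcom : Commute c x := mem_centralizer_singleton_iff.mp hc
    calc x ^ i = c⁻¹ * (c * x ^ i) := (inv_mul_cancel_left c _).symm
      _ = c⁻¹ * (x ^ i * c) := by rw [(hcom.zpow_right i).eq]
      _ = c⁻¹ * ((c * (g * x * g⁻¹) * c⁻¹) * c) := by rw [← e]
      _ = g * x * g⁻¹ := by group
  refine ⟨fun w hw g => ?_⟩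
  obtain ⟨k, rfl⟩ := mem_zpowers_iff.mp hw
  rw [← conj_zpow]
  exact zpow_mem (hmem g) k

/-- The normal closure of `x` is generated by the conjugates of `x` in it. -/
theorem normalClosure_self (hsq : ¬ p ^ 2 ∣ Nat.card G) {x : G} (hx : orderOf x = p)
    (hxK : x ∈ normalClosure ({x} : Set G)) :
    normalClosure ({⟨x, hxK⟩} : Set (normalClosure ({x} : Set G))) = ⊤ := by
  set K := normalClosure ({x} : Set G)
  set L := normalClosure ({⟨x, hxK⟩} : Set K)
  have hle : K ≤ L.map K.subtype := by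
    show Subgroup.closure (Group.conjugatesOfSet ({x} : Set G)) ≤ _
    rw [Subgroup.closure_le]
    intro y hy
    obtain ⟨a, ha, hay⟩ := Group.mem_conjugatesOfSet_iff.mp hy
    rw [Set.mem_singleton_iff] at ha
    rw [ha] at hay
    have hyK : y ∈ K := subset_closure hy
    obtain ⟨g, hg⟩ := isConj_iff.mp hay
    obtain ⟨c, hc⟩ := exists_conj_mem_zpowers (K := K) (p := p)
      (fun h => hsq (h.trans K.card_subgroup_dvd_card)) (a := ⟨x, hxK⟩) (b := ⟨y, hyK⟩)
      (by rw [← Subgroup.orderOf_coe]; exact hx)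
      (by
        rw [← Subgroup.orderOf_coe]
        show orderOf y = p
        rw [← hg, show orderOf (g * x * g⁻¹) = orderOf (MulAut.conj g x) from rfl,
          MulEquiv.orderOf_eq, hx])
    have hcL : c * ⟨y, hyK⟩ * c⁻¹ ∈ L :=
      (zpowers_le.mpr (subset_normalClosure (Set.mem_singleton _))) hc
    have h2 := normalClosure_normal.conj_mem _ hcL c⁻¹
    rw [show c⁻¹ * (c * (⟨y, hyK⟩ : K) * c⁻¹) * c⁻¹⁻¹ = ⟨y, hyK⟩ by group] at h2
    exact ⟨⟨y, hyK⟩, h2, rfl⟩
  refine eq_top_iff.mpr fun k _ => ?_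
  obtain ⟨l, hl, e⟩ := hle k.2
  exact (Subtype.ext e : l = k) ▸ hl

/-- The restriction to a tight normal subgroup stays irreducible. -/
theorem isIrrCharacter_restrict {K : Subgroup G} [K.Normal] [Fintype K] (hsq : ¬ p ^ 2 ∣ Nat.card G)
    (hp5 : 5 < p) {x : K} (hx : orderOf x = p) (hgen : normalClosure ({x} : Set K) = ⊤)
    (hxc : x ∉ center K) (ζ : IrrCharacter G) (hdeg : (ζ : G → ℂ) 1 = ((p - 2 : ℕ) : ℂ))
    (hfaith : ∀ g : G, (ζ : G → ℂ) g = (ζ : G → ℂ) 1 → g = 1) :
    IsIrrCharacter K (fun k : K => (ζ : G → ℂ) k) := by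
  classical
  have hsqK : ¬ p ^ 2 ∣ Nat.card K := fun h => hsq (h.trans K.card_subgroup_dvd_card)
  have hres : IsCharacter K (fun k : K => (ζ : G → ℂ) k) :=
    Chars.isCharacter_restrict K (Chars.irr_isCharacter ζ)
  obtain ⟨m, hm⟩ := Chars.isCharacter_exists_nat_decomp hres
  have happ : ∀ k : K, (ζ : G → ℂ) k = ∑ θ : IrrCharacter K, (m θ : ℂ) * (θ : K → ℂ) k := fun k => by
    have := congrFun hm k
    rw [Finset.sum_apply] at this
    exact this
  have hin : ∀ θ : IrrCharacter K,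
      classInner (Clifford.resFun K (ζ : G → ℂ)) (θ : K → ℂ) = m θ := fun θ => by
    rw [show Clifford.resFun K (ζ : G → ℂ) = fun k : K => (ζ : G → ℂ) k from rfl, hm,
      Chars.classInner_sum_smul_irr]
  have hone := happ 1
  rw [OneMemClass.coe_one, hdeg] at hone
  obtain ⟨θ₀, hθ₀⟩ : ∃ θ, m θ ≠ 0 := by
    by_contra! h
    rw [sum_eq_zero fun θ _ => by rw [h θ, Nat.cast_zero, zero_mul], Nat.cast_eq_zero] at hone
    omega
  have hsame : ∀ θ, m θ ≠ 0 → degOf θ = degOf θ₀ := by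
    intro θ hθ
    obtain ⟨g, hg⟩ := Clifford.exists_conjFun_eq_of_constituent ζ.2 θ₀.2 θ.2
      (by rw [hin]; exact Nat.cast_ne_zero.mpr hθ₀) (by rw [hin]; exact Nat.cast_ne_zero.mpr hθ)
    apply Nat.cast_injective (R := ℂ)
    rw [← apply_one_eq_degOf, ← apply_one_eq_degOf, ← hg, Clifford.conjFun_apply_one]
  have hN : p - 2 = (∑ θ, m θ) * degOf θ₀ := by
    rw [← Nat.cast_inj (R := ℂ), hone, sum_mul]
    push_cast
    refine sum_congr rfl fun θ _ => ?_
    rcases Nat.eq_zero_or_pos (m θ) with h | h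
    · rw [h]; simp
    · rw [apply_one_eq_degOf, hsame θ h.ne']
  rcases Nat.lt_or_ge 1 (∑ θ, m θ) with hbig | hsmall
  · exfalso
    refine hxc (mem_center_iff.mpr fun k => ?_)
    have hodd : Odd (p - 2) := by
      obtain ⟨i, hi⟩ := hp.out.odd_of_ne_two (by omega)
      exact ⟨i - 1, by omega⟩
    have h3 : 3 ≤ ∑ θ, m θ := by
      have := (Nat.odd_mul.mp (hN ▸ hodd)).1
      obtain ⟨i, hi⟩ := this
      omega
    have hsmall : 2 * degOf θ₀ + 1 < p := by
      have := Nat.mul_le_mul_right (degOf θ₀) h3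
      omega
    have hc : (ζ : G → ℂ) ((k * x * (x * k)⁻¹ : K) : G) = (ζ : G → ℂ) 1 := by
      rw [happ, hdeg, hone]
      refine sum_congr rfl fun θ _ => ?_
      rcases Nat.eq_zero_or_pos (m θ) with h | h
      · rw [h]; simp
      · haveI := repOf_isIrreducible θ
        have hcom := SmallFaithful.commute_of_small_irreducible hx hsqK hgen (d := degOf θ)
          (by rw [hsame θ h.ne']; exact hsmall) (repOf θ) k
        congr 1
        rw [← repOf_character θ, ← Chars.rep_eq_one_iff, map_mul, map_mul, ← hcom, ← map_mul,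
          ← map_mul, mul_inv_cancel, map_one]
    have h1 : k * x * (x * k)⁻¹ = 1 := Subtype.ext (hfaith _ hc)
    exact mul_inv_eq_one.mp h1
  · have hsum : ∑ θ, m θ = 1 := by
      have := single_le_sum (f := m) (fun _ _ => Nat.zero_le _) (mem_univ θ₀)
      omega
    have hsplit := add_sum_erase univ m (mem_univ θ₀)
    have h1 : m θ₀ = 1 := by omega
    have h0 : ∀ θ ∈ univ.erase θ₀, m θ = 0 := sum_eq_zero_iff.mp (by omega)
    rw [hm, sum_eq_single θ₀ (fun θ _ hne => by
      rw [h0 θ (mem_erase.mpr ⟨hne, mem_univ _⟩), Nat.cast_zero, zero_smul]) (by simp), h1,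
      Nat.cast_one, one_smul]
    exact θ₀.2

/-- The tight subgroup and its complement. -/
theorem exists_tight_factor (P : Sylow p G) (hp5 : 5 < p) (hP : Nat.card P = p)
    (hnn : ¬ (P : Subgroup G).Normal) (ζ : IrrCharacter G)
    (hdeg : (ζ : G → ℂ) 1 = ((p - 2 : ℕ) : ℂ))
    (hfaith : ∀ g : G, (ζ : G → ℂ) g = (ζ : G → ℂ) 1 → g = 1) :
    ∃ K : Subgroup G, Nat.card K = p * (p - 1) * (p - 2) ∧ commutator K = ⊤ ∧ center K = ⊥ ∧
      (∀ Q : Sylow p K, ¬ (Q : Subgroup K).Normal) ∧ K ⊓ center G = ⊥ ∧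
      ∀ g : G, ∃ k ∈ K, ∃ z ∈ center G, g = k * z := by
  classical
  have hpG : p ∣ Nat.card G := hP ▸ Subgroup.card_subgroup_dvd_card _
  have hsq : ¬ p ^ 2 ∣ Nat.card G := fun h => by
    have h3 := P.pow_dvd_card_of_pow_dvd_card h
    rw [hP] at h3
    have := Nat.le_of_dvd hp.out.pos h3
    nlinarith
  obtain ⟨x, hxP, hx1⟩ : ∃ x ∈ (P : Subgroup G), x ≠ 1 := by
    by_contra! h
    have : (P : Subgroup G) = ⊥ := (Subgroup.eq_bot_iff_forall _).2 h
    rw [this, Subgroup.card_bot] at hP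
    exact hp.out.ne_one hP.symm
  obtain ⟨hPx, hx⟩ := sylow_eq_zpowers P hP hxP hx1
  have hnormal : ¬ (zpowers x).Normal := hPx ▸ hnn
  set K := normalClosure ({x} : Set G) with hKdef
  haveI : K.Normal := normalClosure_normal
  letI : Fintype K := Fintype.ofFinite K
  have hxK : x ∈ K := subset_normalClosure (Set.mem_singleton x)
  set xK : K := ⟨x, hxK⟩ with hxK'
  have hxKo : orderOf xK = p := by rw [← Subgroup.orderOf_coe]; exact hx
  have hsqK : ¬ p ^ 2 ∣ Nat.card K := fun h => hsq (h.trans K.card_subgroup_dvd_card)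
  have hgen : normalClosure ({xK} : Set K) = ⊤ := normalClosure_self hsq hx hxK
  have hxc : xK ∉ center K := by
    intro h
    refine hnormal (normal_zpowers_of_commute hsq hx fun g => ?_)
    have hy : g * x * g⁻¹ ∈ K := (inferInstance : K.Normal).conj_mem x hxK g
    exact congrArg (Subtype.val : K → G) (mem_center_iff.mp h ⟨_, hy⟩)
  set ζK : IrrCharacter K :=
    ⟨_, isIrrCharacter_restrict hsq hp5 hxKo hgen hxc ζ hdeg hfaith⟩ with hζK
  obtain ⟨SK, hSK⟩ := exists_localData hxKo hsqK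
  have hdegK : (ζK : K → ℂ) 1 = ((p - 2 : ℕ) : ℂ) := hdeg
  have hfaithK : ∀ k : K, (ζK : K → ℂ) k = (ζK : K → ℂ) 1 → k = 1 := fun k hk =>
    Subtype.ext (hfaith _ hk)
  have hgen' : normalClosure ({SK.x} : Set K) = ⊤ := hSK ▸ hgen
  have hxc' : SK.x ∉ center K := hSK ▸ hxc
  obtain ⟨CK, hsdK⟩ := exists_col (S := SK) hsqK hp5 hdegK
  obtain ⟨hd, hf, a, ha, hval⟩ | ⟨hd, m₀, a, hm₀, ha, hsd', hval⟩ :=
    col_cases hp5 hdegK hfaithK hxc' CK hsdK
  swap
  · exact (false_of_large hsqK hp5 hgen' hdegK CK hd hm₀ ha hsd' hval).elim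
  have T : Tight SK ζK := ⟨hsqK, hp5, hgen', hdegK, hfaithK, hxc', CK, hd,
    by rwa [hd, mul_one] at hsdK, hf, a, ha, hval⟩
  have hcenter := T.center_eq_bot
  have hcard := T.card_eq
  have hinf : K ⊓ center G = ⊥ := by
    refine (Subgroup.eq_bot_iff_forall _).mpr fun z hz => ?_
    obtain ⟨hzK, hzc⟩ := mem_inf.mp hz
    have : (⟨z, hzK⟩ : K) ∈ center K :=
      mem_center_iff.mpr fun k => Subtype.ext (mem_center_iff.mp hzc k)
    rw [hcenter, mem_bot] at this
    exact congrArg Subtype.val this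
  refine ⟨K, hcard, T.commutator_eq_top, hcenter, fun Q hQ => ?_, hinf, ?_⟩
  · -- a normal Sylow subgroup would contain every conjugate
    obtain ⟨R, hR⟩ := (IsPGroup.of_card (n := 1) (by rw [Nat.card_zpowers, hxKo, pow_one]) :
      IsPGroup p (zpowers xK)).exists_le_sylow
    haveI := hQ
    have hsub := Sylow.unique_of_normal Q hQ
    have hxQ : xK ∈ (Q : Subgroup K) := (Subsingleton.elim R Q) ▸ hR (mem_zpowers xK)
    have htop : (Q : Subgroup K) = ⊤ :=
      eq_top_iff.mpr (hgen ▸ normalClosure_le_normal (Set.singleton_subset_iff.mpr hxQ))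
    obtain ⟨i, hi⟩ := Q.isPGroup'.exists_card_eq
    rw [htop, Subgroup.card_top, hcard] at hi
    have hd2 : 2 ∣ p ^ i := hi ▸ Dvd.dvd.mul_right (Dvd.dvd.mul_left
      (show 2 ∣ p - 1 by obtain ⟨l, hl⟩ := hp.out.odd_of_ne_two (by omega); omega) p) (p - 2)
    have := (Nat.prime_dvd_prime_iff_eq Nat.prime_two hp.out).mp (Nat.prime_two.dvd_of_dvd_pow hd2)
    omega
  -- the whole group
  obtain ⟨SG, hSG⟩ := exists_localData hx hsq
  have hxG : SG.x ∉ center G := fun h => by
    refine hnormal (normal_zpowers_of_commute hsq hx fun g => ?_)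
    rw [hSG] at h
    exact mem_center_iff.mp h _
  obtain ⟨CG, hsdG⟩ := exists_col (S := SG) hsq hp5 hdeg
  have hxp : ∀ j : ZMod p, ((xp p SK.x j : K) : G) = xp p SG.x j := fun j => by
    rw [Cfsg.Agent.Lib.SmallGroups.PrimeChar.xp, Cfsg.Agent.Lib.SmallGroups.PrimeChar.xp,
      SubmonoidClass.coe_pow, hSK, hSG]
  have hvalK : ∀ j : ZMod p, j ≠ 0 → (ζ : G → ℂ) (xp p SG.x j) = -eta SK (a * j) := fun j hj => by
    rw [← hxp, show (ζ : G → ℂ) ((xp p SK.x j : K) : G) = (ζK : K → ℂ) (xp p SK.x j) from rfl,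
      CK.apply_xp, hd, Nat.cast_one, mul_one, hval j hj]
  obtain ⟨hdG, hfG, -⟩ | ⟨hdG, m', a', -, ha', -, hvalG⟩ := col_cases hp5 hdeg hfaith hxG CG hsdG
  swap
  · exfalso
    have hsum : ∀ {H : Type _} [Group H] [Fintype H] (S : Local p H) (c : ZMod p), c ≠ 0 →
        ∑ j ∈ univ.erase (0 : ZMod p), eta S (c * j) = -((fusion p S.x).card : ℂ) := by
      intro H _ _ S c hc
      simp only [eta]
      rw [sum_comm, sum_congr rfl (g := fun _ => (-1 : ℂ)) fun u hu => ?_, sum_const, nsmul_eq_mul,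
        mul_neg, mul_one]
      rw [sum_congr rfl (g := fun j : ZMod p => (ZMod.stdAddChar (j * (c * u)) : ℂ)) fun j _ =>
          congrArg _ (by ring),
        sum_erase_eq_sub (mem_univ _), zero_mul, AddChar.map_zero_eq_one,
        AddChar.sum_mulShift _ (ZMod.isPrimitive_stdAddChar p),
        if_neg (mul_ne_zero hc (fusion_ne_zero S hu)), Nat.cast_zero, zero_sub]
    have e : ∑ j ∈ univ.erase (0 : ZMod p), ((m' : ℂ) + eta SG (a' * j)) * (CG.d : ℂ) =
        ∑ j ∈ univ.erase (0 : ZMod p), -eta SK (a * j) := sum_congr rfl fun j hj => by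
      rw [← hvalG j, ← CG.apply_xp, hvalK j (ne_of_mem_erase hj)]
    rw [← sum_mul, sum_add_distrib, sum_neg_distrib, hsum SG a' ha', hsum SK a ha, hf, sum_const,
      card_erase_of_mem (mem_univ _), card_univ, ZMod.card, nsmul_eq_mul, neg_neg] at e
    have e' : ((((p - 1 : ℕ) : ℤ) * m' - (fusion p SG.x).card) * CG.d : ℤ) = 2 := by
      rw [← Int.cast_inj (α := ℂ)]
      push_cast at e ⊢
      linear_combination e
    have h1 : (CG.d : ℤ) ∣ 2 := ⟨_, (e'.symm.trans (mul_comm _ _))⟩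
    have := Int.le_of_dvd two_pos h1
    omega
  have hVc : SG.V ≤ center G := by
    intro v hv
    refine mem_center_of_norm ζ hdeg hfaith ?_
    have e := CG.apply_pt 0 ⟨v, hv⟩
    rw [colVal_zero] at e
    have hcs : colSum SG ζ CG.φ = p - 2 := by rw [← hsdG, hdG, mul_one]
    obtain ⟨μ, hμ⟩ := Chars.exists_hom_of_degree_one (Chars.irr_isCharacter CG.φ)
      (by rw [CG.hd, hdG, Nat.cast_one])
    have hnorm : ‖(CG.φ : SG.V → ℂ) ⟨v, hv⟩‖ = 1 := by
      refine Complex.norm_eq_one_of_pow_eq_one (n := Nat.card SG.V) ?_ Nat.card_pos.ne'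
      rw [hμ]
      show ((μ ⟨v, hv⟩ : ℂˣ) : ℂ) ^ _ = 1
      rw [← Units.val_pow_eq_pow_val, ← map_pow, pow_card_eq_one', map_one, Units.val_one]
    have e' : (ζ : G → ℂ) v = (colSum SG ζ CG.φ : ℂ) * (CG.φ : SG.V → ℂ) ⟨v, hv⟩ := by
      simpa [pt, xp_zero] using e
    rw [e', norm_mul, hnorm, mul_one, Complex.norm_natCast, hcs]
  have hfus : fusion p SG.x = {1, -1} := by
    have hneg : (-1 : ZMod p) ∈ fusion p SG.x := neg_one_mem_fusion (S := SG) (hfG ▸ even_two)
    refine (eq_of_subset_of_card_le (fun u hu => ?_) ?_).symm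
    · rcases mem_insert.mp hu with h | h
      · exact h ▸ one_mem_fusion
      · exact mem_singleton.mp h ▸ hneg
    · rw [hfG, card_pair T.neg_one_ne_one.symm]
  intro g
  have hy : g * x * g⁻¹ ∈ K := (inferInstance : K.Normal).conj_mem x hxK g
  obtain ⟨c, hc⟩ := exists_conj_mem_zpowers (K := K) (p := p) hsqK (a := xK) (b := ⟨_, hy⟩) hxKo
    (by
      rw [← Subgroup.orderOf_coe]
      show orderOf (MulAut.conj g x) = p
      rw [MulEquiv.orderOf_eq, hx])
  set h := (c : G) * g with hh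
  have hn : Nrm SG h := by
    obtain ⟨i, hi⟩ := mem_zpowers_iff.mp hc
    have e := congrArg (Subtype.val : K → G) hi
    simp only [Subgroup.coe_zpow, Subgroup.coe_mul, Subgroup.coe_inv] at e
    refine mem_zpowers_iff.mpr ⟨i, ?_⟩
    rw [hSG]
    show (xK : G) ^ i = _
    rw [e, hh]; group
  obtain ⟨k₁, -, hk₁⟩ := T.exists_inverts
  have hcases : ∃ k : K, Commute ((k : G)⁻¹ * h) x := by
    have hu := expo_mem_fusion SG hn
    rw [hfus, mem_insert, mem_singleton] at hu
    have hs := expo_spec SG hn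
    rcases hu with hu | hu <;> rw [hu, hSG] at hs
    · refine ⟨1, ?_⟩
      rw [OneMemClass.coe_one, inv_one, one_mul]
      rw [xp_one] at hs
      exact mul_inv_eq_iff_eq_mul.mp hs
    · refine ⟨k₁, ?_⟩
      have e1 : (k₁ : G) * x * (k₁ : G)⁻¹ = x⁻¹ := by
        have := congrArg (Subtype.val : K → G) hk₁
        simp only [Subgroup.coe_mul, Subgroup.coe_inv, hSK] at this
        exact this
      have e2 : h * x * h⁻¹ = x⁻¹ := by
        rw [hs]
        refine eq_inv_of_mul_eq_one_left ?_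
        nth_rewrite 2 [← xp_one (p := p) (x := x)]
        rw [← Cfsg.Agent.Lib.SmallGroups.PrimeChar.xp_add hx, neg_add_cancel, xp_zero]
      refine mul_inv_eq_iff_eq_mul.mp ?_
      calc (k₁ : G)⁻¹ * h * x * ((k₁ : G)⁻¹ * h)⁻¹ = (k₁ : G)⁻¹ * (h * x * h⁻¹) * k₁ := by group
        _ = (k₁ : G)⁻¹ * ((k₁ : G) * x * (k₁ : G)⁻¹) * k₁ := by rw [e2, e1]
        _ = x := by group
  obtain ⟨k, hk⟩ := hcases
  obtain ⟨i, v, hv, hkv⟩ := SG.factor _ (hSG.symm ▸ hk)
  refine ⟨(c : G)⁻¹ * k * SG.x ^ i, ?_, v, hVc hv, ?_⟩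
  · rw [hSG]
    exact mul_mem (mul_mem (inv_mem c.2) k.2) (pow_mem hxK i)
  · calc g = (c : G)⁻¹ * k * ((k : G)⁻¹ * h) := by rw [hh]; group
      _ = (c : G)⁻¹ * k * (SG.x ^ i * v) := by rw [hkv]
      _ = _ := by group

end Cfsg.Agent.Lib.SingleColumn
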